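import Cfsg.Agent.Lib.Recog.AutLThreeFour.Model64
import Mathlib.GroupTheory.Sylow

/-!
Owner: helper28. The subgroup of index 4 at `z`: its centraliser `S₀⟨u⟩`, the four group `W`.
-/

set_option autoImplicit false
set_option linter.all false

namespace CfsgLib.Recog.AutLThreeFour

open Subgroup

variable {G : Type*} [Group G] {z : G} {e : Fin 4 → G} {K : Subgroup G} {p u : G}

/-- The standing data: the subgroup of index 4 and lifts of a fixed-point-free involution and a 3-cycle. -/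
structure Base (z : G) (e : Fin 4 → G) (K : Subgroup G) (p u : G) : Prop where
  frame : Frame z e
  normal : K.Normal
  index : K.index = 4
  mem_iff : ∀ g ∈ centralizer ({z} : Set G), g ∈ K ↔ movF z e g = 0 ∧ parF z e g = 0
  hp : Acts z e p (Sig.vee 1)
  hu : Acts z e u Sig.cyc
  hu3 : u * u * u = 1

theorem exists_base [Finite G] (hF : Frame z e) : ∃ K p u, Base z e K p u := by
  obtain ⟨K, hn, hi, hm⟩ := hF.exists_index_four
  obtain ⟨p, hp⟩ := hF.acts_surj (Sig.vee 1)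
  obtain ⟨g, hg⟩ := hF.acts_surj Sig.cyc
  have h3 := hF.acts_mul (hF.acts_mul hg hg) hg
  rw [show Sig.comp (Sig.comp Sig.cyc Sig.cyc) Sig.cyc = Sig.idS by decide] at h3
  rcases hF.eq_or_of_acts hF.acts_one h3 with h | h
  · exact ⟨K, p, g, hF, hn, hi, hm, hp, hg, h⟩
  · refine ⟨K, p, g * z, hF, hn, hi, hm, hp, ?_, ?_⟩
    · have := hF.acts_mul hg hF.acts_z
      rwa [show Sig.comp Sig.cyc Sig.idS = Sig.cyc by decide] at this
    · have hgz : g * z = z * g := mem_centralizer_singleton_iff.1 hg.1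
      rw [show g * z * (g * z) * (g * z) = g * (z * g) * (z * g) * z by group, ← hgz,
        show g * (g * z) * (g * z) * z = g * g * (z * g) * (z * z) by group, ← hgz, hF.zsq, mul_one,
        ← mul_assoc, h, one_mul, hF.zsq]

namespace Base

variable (hB : Base z e K p u)
include hB

/-- Lifts of the four-group. -/
def R (hB : Base z e K p u) : Fin 4 → G := ![1, p, u * p * u⁻¹, p * (u * p * u⁻¹)]

theorem acts_R : ∀ k : Fin 4, Acts z e (hB.R k) (Sig.vee k) := by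
  have hF := hB.frame
  have hu' : Acts z e u⁻¹ (Sig.comp Sig.cyc Sig.cyc) := by
    have : u⁻¹ = u * u := inv_eq_of_mul_eq_one_left hB.hu3
    rw [this]; exact hF.acts_mul hB.hu hB.hu
  have hq : Acts z e (u * p * u⁻¹) (Sig.vee 2) := by
    have := hF.acts_mul (hF.acts_mul hB.hu hB.hp) hu'
    rwa [show Sig.comp (Sig.comp Sig.cyc (Sig.vee 1)) (Sig.comp Sig.cyc Sig.cyc) = Sig.vee 2 by decide] at this
  have hr : Acts z e (p * (u * p * u⁻¹)) (Sig.vee 3) := by
    have := hF.acts_mul hB.hp hq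
    rwa [show Sig.comp (Sig.vee 1) (Sig.vee 2) = Sig.vee 3 by decide] at this
  intro k
  fin_cases k
  · exact hF.acts_one
  · exact hB.hp
  · exact hq
  · exact hr

/-- An element of `C(z)` from its index and model part. -/
noncomputable def Φ (t : Pt) : G := hB.frame.θ t.2 * hB.R t.1

theorem acts_Φ (t : Pt) : Acts z e (hB.Φ t) (Sig.comp (innS t.2) (Sig.vee t.1)) :=
  hB.frame.acts_mul (hB.frame.acts_θ _) (hB.acts_R _)

theorem Φ_mem (t : Pt) : hB.Φ t ∈ centralizer ({z} : Set G) := (hB.acts_Φ t).1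

theorem R_mul_θ (k : Fin 4) (m : Mo) : hB.R k * hB.frame.θ m = hB.frame.θ (Pt.vact k m) * hB.R k := by
  rw [← Pt.act_vee, ← hB.frame.conj_θ (hB.acts_R k)]; group

theorem Φ_inj : Function.Injective hB.Φ := by
  intro s t h
  have hs := hB.acts_Φ s
  rw [h] at hs
  have h1 := congrArg Prod.fst (hB.frame.acts_unique hs (hB.acts_Φ t))
  have key : ∀ k l : Fin 4, ∀ m n : Mo,
      (Sig.comp (innS m) (Sig.vee k)).1 = (Sig.comp (innS n) (Sig.vee l)).1 → k = l := by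
    intro k l m n h
    have inj : ∀ k l : Fin 4, Sig.vperm k = Sig.vperm l → k = l := by decide +kernel
    exact inj k l (by simpa [Sig.comp, innS, Sig.vee] using h)
  have hk := key _ _ _ _ h1
  simp only [Φ, hk, mul_left_inj] at h
  exact Prod.ext hk (hB.frame.θ_inj h)

theorem comm_om {g : G} {s : Sig} (hs : Acts z e g s) (h : Sig.mov s = 0) :
    g * hB.frame.θ Mo.om = hB.frame.θ Mo.om * g := (hB.frame.mov_iff hs).2 h

theorem mem_K_of_acts {g : G} {s : Sig} (hs : Acts z e g s) : g ∈ K ↔ Sig.mov s = 0 ∧ Sig.par s = 0 := by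
  rw [hB.mem_iff g hs.1, hB.frame.movF_eq hs, hB.frame.parF_eq hs]

theorem mem_K_of_ev (t : Pt) (ht : Pt.Ev t) : hB.Φ t ∈ K := by
  rw [hB.mem_K_of_acts (hB.acts_Φ t)]
  revert ht; revert t; decide +kernel

theorem u_mem : u ∈ K := (hB.mem_K_of_acts hB.hu).2 (by decide)

theorem e0_props : e 0 ∈ centralizer ({z} : Set G) ∧ e 0 ∉ K := by
  have h : Acts z e (e 0) (innS (Mo.gen 0)) := hB.frame.θ_gen 0 ▸ hB.frame.acts_θ _
  exact ⟨h.1, fun hk => absurd ((hB.mem_K_of_acts h).1 hk) (by decide)⟩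

/-- `G` is covered by the cosets of `K` at elements of `C(z)`. -/
theorem exists_decomp [Finite G] (g : G) : ∃ k ∈ K, ∃ h ∈ centralizer ({z} : Set G), g = k * h := by
  haveI := hB.normal
  let T : ZMod 2 × ZMod 2 → Sig := fun v => ((if v.2 = 0 then 1 else Equiv.swap 0 1), v.1 + v.2, 0, 0, 0)
  have hT : ∀ v, Sig.par (T v) = v.2 := by decide
  choose r hr using fun v => hB.frame.acts_surj (T v)
  let f : ZMod 2 × ZMod 2 → G ⧸ K := fun v => (r v : G ⧸ K)
  have hf : Function.Injective f := by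
    intro a b hab
    have h1 : (r a)⁻¹ * r b ∈ K := QuotientGroup.eq.1 hab
    obtain ⟨s, hs⟩ := hB.frame.exists_acts (mul_mem (inv_mem (hr a).1) (hr b).1)
    have h2 := (hB.mem_K_of_acts hs).1 h1
    have h3 := hB.frame.acts_mul (hr a) hs
    rw [mul_inv_cancel_left] at h3
    have h4 := hB.frame.acts_unique (hr b) h3
    have hp' : ∀ s t : Sig, Sig.par (Sig.comp s t) = Sig.par s + Sig.par t := hB.frame.par_comp
    have hm' : movF z e (r b) = movF z e (r a) + 0 := by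
      have := hB.frame.movF_mul (hr a).1 hs.1
      rwa [mul_inv_cancel_left, hB.frame.movF_eq hs, h2.1] at this
    rw [hB.frame.movF_eq (hr a), hB.frame.movF_eq (hr b), add_zero] at hm'
    have hp'' := congrArg Sig.par h4
    rw [hp', h2.2, add_zero] at hp''
    have key : ∀ a b, Sig.mov (T b) = Sig.mov (T a) → Sig.par (T b) = Sig.par (T a) → a = b := by decide +kernel
    exact key a b hm' hp''
  have hbij : Function.Bijective f := hf.bijective_of_nat_card_le (by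
    rw [← Subgroup.index_eq_card, hB.index, Nat.card_eq_fintype_card]; rfl)
  obtain ⟨v, hv⟩ := hbij.2 (g : G ⧸ K)
  refine ⟨g * (r v)⁻¹, ?_, r v, (hr v).1, by group⟩
  have h : (r v)⁻¹ * g ∈ K := QuotientGroup.eq.1 hv
  have := Subgroup.Normal.conj_mem inferInstance _ h (r v)
  simpa [mul_assoc] using this

/-- Conjugates of `z` are conjugates under `K`. -/
theorem exists_conj_K [Finite G] {y : G} (h : IsConj z y) : ∃ k ∈ K, k * z * k⁻¹ = y := by
  obtain ⟨g, rfl⟩ := isConj_iff.1 h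
  obtain ⟨k, hk, h', hh, rfl⟩ := hB.exists_decomp g
  refine ⟨k, hk, ?_⟩
  rw [show k * h' * z * (k * h')⁻¹ = k * (h' * z * h'⁻¹) * k⁻¹ by group, hB.frame.z_comm hh]

/-- The four group `{1, z, θ om, θ (om zz)}`. -/
noncomputable def W (hB : Base z e K p u) : Subgroup G where
  carrier := {g | ∃ m, Pt.IsW (0, m) ∧ g = hB.frame.θ m}
  one_mem' := ⟨1, by decide, (map_one _).symm⟩
  mul_mem' := by
    rintro _ _ ⟨m, hm, rfl⟩ ⟨n, hn, rfl⟩
    refine ⟨m * n, ?_, (map_mul _ _ _).symm⟩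
    revert hm hn; revert m n; decide +kernel
  inv_mem' := by
    rintro _ ⟨m, hm, rfl⟩
    refine ⟨m⁻¹, ?_, (map_inv _ _).symm⟩
    revert hm; revert m; decide +kernel

theorem mem_W {g : G} : g ∈ hB.W ↔
    g = 1 ∨ g = z ∨ g = hB.frame.θ Mo.om ∨ g = hB.frame.θ Mo.om * z := by
  constructor
  · rintro ⟨m, ⟨-, rfl | rfl | rfl | rfl⟩, rfl⟩
    · exact Or.inl (map_one _)
    · exact Or.inr (Or.inl hB.frame.θ_zz)
    · exact Or.inr (Or.inr (Or.inl rfl))
    · exact Or.inr (Or.inr (Or.inr (by rw [map_mul, hB.frame.θ_zz])))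
  · rintro (rfl | rfl | rfl | rfl)
    · exact one_mem _
    · exact ⟨Mo.zz, by decide, hB.frame.θ_zz.symm⟩
    · exact ⟨Mo.om, by decide, rfl⟩
    · exact ⟨Mo.om * Mo.zz, by decide, by rw [map_mul, hB.frame.θ_zz]⟩

theorem z_mem_W : z ∈ hB.W := hB.mem_W.2 (Or.inr (Or.inl rfl))

theorem w_props : hB.frame.θ Mo.om ≠ 1 ∧ hB.frame.θ Mo.om ≠ z ∧ hB.frame.θ Mo.om * z ≠ 1 ∧
    hB.frame.θ Mo.om * z ≠ z := by
  refine ⟨fun h => ?_, fun h => ?_, fun h => ?_, fun h => ?_⟩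
  · exact absurd (hB.frame.θ_inj (h.trans (map_one _).symm)) (by decide)
  · exact absurd (hB.frame.θ_inj (h.trans hB.frame.θ_zz.symm)) (by decide)
  · rw [← map_one hB.frame.θ] at h
    have h' : hB.frame.θ (Mo.om * Mo.zz) = hB.frame.θ 1 := by rw [map_mul, hB.frame.θ_zz]; exact h
    exact absurd (hB.frame.θ_inj h') (by decide)
  · exact absurd (hB.frame.θ_inj ((mul_eq_right.1 h).trans (map_one _).symm)) (by decide)

theorem W_inv {g : G} (hg : g ∈ hB.W) : g * g = 1 := by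
  obtain ⟨m, hm, rfl⟩ := hg
  rw [← map_mul, ← map_one hB.frame.θ]
  congr 1
  revert hm; revert m; decide +kernel

theorem W_le_H : hB.W ≤ centralizer ({z} : Set G) := by
  rintro _ ⟨m, -, rfl⟩; exact hB.frame.θ_mem m

theorem W_le_K : hB.W ≤ K := by
  rintro _ ⟨m, hm, rfl⟩
  rw [hB.mem_K_of_acts (hB.frame.acts_θ m)]
  revert hm; revert m; decide +kernel

/-- `C_K(z)` centralises `W`. -/
theorem comm_W {g : G} (hg : g ∈ centralizer ({z} : Set G)) (hgK : g ∈ K) {x : G} (hx : x ∈ hB.W) :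
    g * x = x * g := by
  obtain ⟨s, hs⟩ := hB.frame.exists_acts hg
  have hw := hB.comm_om hs ((hB.mem_K_of_acts hs).1 hgK).1
  have hz := mem_centralizer_singleton_iff.1 hg
  rcases hB.mem_W.1 hx with rfl | rfl | rfl | rfl
  · simp
  · exact hz
  · exact hw
  · rw [← mul_assoc, hw, mul_assoc, hz, ← mul_assoc]

/-- The Sylow 2-subgroup of `C_K(z)`. -/
noncomputable def S (hB : Base z e K p u) : Subgroup G where
  carrier := {g | g ∈ centralizer ({z} : Set G) ∧ g ∈ K ∧ ∃ s, Acts z e g s ∧ ∃ k, s.1 = Sig.vperm k}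
  one_mem' := ⟨one_mem _, one_mem _, _, hB.frame.acts_one, 0, rfl⟩
  mul_mem' := by
    rintro a b ⟨ha, ha', s, hs, k, hk⟩ ⟨hb, hb', t, ht, l, hl⟩
    refine ⟨mul_mem ha hb, mul_mem ha' hb', _, hB.frame.acts_mul hs ht, Pt.xr k l, ?_⟩
    show s.1 * t.1 = _
    rw [hk, hl]
    have key : ∀ k l : Fin 4, Sig.vperm k * Sig.vperm l = Sig.vperm (Pt.xr k l) := by decide +kernel
    exact key k l
  inv_mem' := by
    rintro a ⟨ha, ha', s, hs, k, hk⟩
    obtain ⟨t, ht⟩ := hB.frame.exists_acts (inv_mem ha)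
    refine ⟨inv_mem ha, inv_mem ha', t, ht, k, ?_⟩
    have h := congrArg Prod.fst (hB.frame.acts_unique (hB.frame.acts_mul hs ht)
      ((mul_inv_cancel a).symm ▸ hB.frame.acts_one))
    have h' : s.1 * t.1 = 1 := h
    rw [eq_inv_of_mul_eq_one_right h', hk]
    have key : ∀ k : Fin 4, (Sig.vperm k)⁻¹ = Sig.vperm k := by decide +kernel
    exact key k

theorem S_le_H : hB.S ≤ centralizer ({z} : Set G) := fun _ h => h.1

theorem S_le_K : hB.S ≤ K := fun _ h => h.2.1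

theorem Φ_mem_S (t : Pt) (ht : Pt.Ev t) : hB.Φ t ∈ hB.S := by
  refine ⟨hB.Φ_mem t, hB.mem_K_of_ev t ht, _, hB.acts_Φ t, t.1, ?_⟩
  show (innS t.2).1 * (Sig.vee t.1).1 = _
  exact one_mul _

set_option synthInstance.maxSize 8000 in
theorem exists_Φ {g : G} (hg : g ∈ hB.S) : ∃ t, Pt.Ev t ∧ hB.Φ t = g := by
  obtain ⟨hgH, hgK, s, hs, k, hk⟩ := hg
  have hm := ((hB.mem_K_of_acts hs).1 hgK).1
  have key : ∀ s : Sig, Sig.mov s = 0 → ∀ k, s.1 = Sig.vperm k →
      ∃ m : Mo, Pt.Ev (k, m) ∧ Sig.comp (innS m) (Sig.vee k) = s := by decide +kernel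
  obtain ⟨m, hev, hms⟩ := key s hm k hk
  rcases hB.frame.eq_or_of_acts (hB.acts_Φ (k, m)) (hms ▸ hs) with h | h
  · exact ⟨_, hev, h.symm⟩
  · refine ⟨(k, m * Mo.zz), ?_, ?_⟩
    · revert hev; revert m; intro m _ hev
      revert hev; revert k; intro k _ hev
      simp only [Pt.Ev, Mo.mul_def, Mo.zz] at hev ⊢
      simpa using hev
    · rw [h, Φ, Φ, map_mul, hB.frame.θ_zz, mul_assoc, mul_assoc,
        mem_centralizer_singleton_iff.1 (hB.acts_R k).1]

theorem card_S : Nat.card ↥hB.S = 64 := by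
  have h : Nat.card {t : Pt // Pt.Ev t} = 64 := by
    rw [Nat.card_eq_fintype_card, Fintype.card_subtype]; decide +kernel
  rw [← h]
  refine (Nat.card_congr (Equiv.ofBijective (fun t : {t : Pt // Pt.Ev t} =>
    (⟨hB.Φ t.1, hB.Φ_mem_S _ t.2⟩ : hB.S)) ⟨fun s t hst => ?_, fun g => ?_⟩)).symm
  · exact Subtype.ext (hB.Φ_inj (congrArg Subtype.val hst))
  · obtain ⟨t, ht, hg⟩ := hB.exists_Φ g.2
    exact ⟨⟨t, ht⟩, Subtype.ext hg⟩

theorem isPGroup_S : IsPGroup 2 ↥hB.S := IsPGroup.of_card (n := 6) (by rw [hB.card_S]; norm_num)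

theorem W_le_S : hB.W ≤ hB.S := by
  rintro _ ⟨m, hm, rfl⟩
  exact ⟨hB.frame.θ_mem m, hB.W_le_K ⟨m, hm, rfl⟩, _, hB.frame.acts_θ m, 0, rfl⟩

/-- `C_K(z) = S₀ ⟨u⟩`. -/
theorem exists_pow_u {g : G} (hg : g ∈ centralizer ({z} : Set G)) (hgK : g ∈ K) :
    g ∈ hB.S ∨ u * g ∈ hB.S ∨ u * u * g ∈ hB.S := by
  obtain ⟨s, hs⟩ := hB.frame.exists_acts hg
  have hp := ((hB.mem_K_of_acts hs).1 hgK).2
  have key : ∀ π : Equiv.Perm (Fin 4), Equiv.Perm.sign π = 1 →
      (∃ k, π = Sig.vperm k) ∨ (∃ k, Sig.cyc.1 * π = Sig.vperm k) ∨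
        (∃ k, Sig.cyc.1 * Sig.cyc.1 * π = Sig.vperm k) := by decide +kernel
  have hsign : Equiv.Perm.sign s.1 = 1 := by
    rcases Int.units_eq_one_or (Equiv.Perm.sign s.1) with h | h
    · exact h
    · simp [Sig.par, h] at hp
  rcases key s.1 hsign with ⟨k, hk⟩ | ⟨k, hk⟩ | ⟨k, hk⟩
  · exact Or.inl ⟨hg, hgK, s, hs, k, hk⟩
  · exact Or.inr (Or.inl ⟨mul_mem hB.hu.1 hg, mul_mem hB.u_mem hgK, _, hB.frame.acts_mul hB.hu hs, k, hk⟩)
  · exact Or.inr (Or.inr ⟨mul_mem (mul_mem hB.hu.1 hB.hu.1) hg, mul_mem (mul_mem hB.u_mem hB.u_mem) hgK, _,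
      hB.frame.acts_mul (hB.frame.acts_mul hB.hu hB.hu) hs, k, hk⟩)

/-- `C(z)` normalises `S₀`. -/
theorem S_conj {g : G} (hg : g ∈ centralizer ({z} : Set G)) {x : G} (hx : x ∈ hB.S) :
    g * x * g⁻¹ ∈ hB.S := by
  haveI := hB.normal
  obtain ⟨hxH, hxK, s, hs, k, hk⟩ := hx
  obtain ⟨a, ha⟩ := hB.frame.exists_acts hg
  obtain ⟨b, hb⟩ := hB.frame.exists_acts (inv_mem hg)
  refine ⟨mul_mem (mul_mem hg hxH) (inv_mem hg), Subgroup.Normal.conj_mem inferInstance _ hxK g, _,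
    hB.frame.acts_mul (hB.frame.acts_mul ha hs) hb, ?_⟩
  have hab : a.1 * b.1 = 1 := congrArg Prod.fst (hB.frame.acts_unique (hB.frame.acts_mul ha hb)
    (show Acts z e (g * g⁻¹) Sig.idS by rw [mul_inv_cancel]; exact hB.frame.acts_one))
  show ∃ l, a.1 * s.1 * b.1 = Sig.vperm l
  rw [eq_inv_of_mul_eq_one_right hab, hk]
  have key : ∀ (π : Equiv.Perm (Fin 4)) (k : Fin 4), ∃ l, π * Sig.vperm k * π⁻¹ = Sig.vperm l := by decide +kernel
  exact key _ _

theorem u_not_mem_S : u ∉ hB.S := by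
  rintro ⟨-, -, s, hs, k, hk⟩
  have h : Sig.cyc.1 = Sig.vperm k := by rw [hB.frame.acts_unique hB.hu hs]; exact hk
  have key : ∀ k : Fin 4, Sig.cyc.1 ≠ Sig.vperm k := by decide +kernel
  exact key k h

theorem orderOf_u : orderOf u = 3 := by
  refine orderOf_eq_prime (by rw [pow_succ, pow_two]; exact hB.hu3) fun h => ?_
  exact hB.u_not_mem_S (by convert (one_mem hB.S))

/-- A 2-element of `C_K(z)` lies in `S₀`. -/
theorem mem_S_of_two {g : G} (hg : g ∈ centralizer ({z} : Set G)) (hgK : g ∈ K) {n : ℕ} (h2 : g ^ 2 ^ n = 1) :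
    g ∈ hB.S := by
  obtain ⟨s, hs⟩ := hB.frame.exists_acts hg
  have hp := ((hB.mem_K_of_acts hs).1 hgK).2
  have hsign : Equiv.Perm.sign s.1 = 1 := by
    rcases Int.units_eq_one_or (Equiv.Perm.sign s.1) with h | h
    · exact h
    · simp [Sig.par, h] at hp
  have hpow : ∀ j : ℕ, ∃ t : Sig, Acts z e (g ^ j) t ∧ t.1 = s.1 ^ j := by
    intro j
    induction j with
    | zero => exact ⟨_, by rw [pow_zero]; exact hB.frame.acts_one, rfl⟩
    | succ j ih =>
      obtain ⟨t, ht, ht'⟩ := ih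
      refine ⟨_, by rw [pow_succ]; exact hB.frame.acts_mul ht hs, ?_⟩
      show t.1 * s.1 = _
      rw [ht', pow_succ]
  obtain ⟨t, ht, ht'⟩ := hpow (2 ^ n)
  rw [h2] at ht
  rw [hB.frame.acts_unique ht hB.frame.acts_one] at ht'
  have key : ∀ π : Equiv.Perm (Fin 4), Equiv.Perm.sign π = 1 → π * π = 1 → ∃ k, π = Sig.vperm k := by
    decide +kernel
  have h22 : s.1 * s.1 = 1 := by
    rw [← pow_two, ← orderOf_dvd_iff_pow_eq_one]
    obtain ⟨i, hi, hio⟩ := (Nat.dvd_prime_pow Nat.prime_two).1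
      (orderOf_dvd_of_pow_eq_one (show s.1 ^ 2 ^ n = 1 from ht'.symm))
    rcases i with _ | _ | i
    · rw [hio]; norm_num
    · rw [hio]; norm_num
    · exfalso
      have hord : ∀ π : Equiv.Perm (Fin 4), Equiv.Perm.sign π = 1 → π ^ 2 = 1 ∨ π ^ 3 = 1 := by decide +kernel
      rcases hord _ hsign with h | h
      · have := Nat.le_of_dvd (by norm_num : 0 < 2) (orderOf_dvd_of_pow_eq_one h)
        rw [hio] at this
        have : 4 ≤ 2 ^ (i + 1 + 1) := Nat.pow_le_pow_right (show 0 < 2 by norm_num) (show 2 ≤ i + 1 + 1 by omega)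
        omega
      · have hd : 2 ∣ 3 := (dvd_pow_self 2 (Nat.succ_ne_zero _)).trans (by rw [← hio]; exact orderOf_dvd_of_pow_eq_one h)
        omega
  obtain ⟨k, hk⟩ := key _ hsign h22
  exact ⟨hg, hgK, s, hs, k, hk⟩

end Base

end CfsgLib.Recog.AutLThreeFour
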