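import Cfsg.Agent.Lib.Recog.AutLThreeFour.Start
import Mathlib.GroupTheory.Perm.Sign

/-!
Owner: helper28. The centraliser as a central extension of the signed permutations.
-/

set_option autoImplicit false
set_option linter.all false

namespace CfsgLib.Recog.AutLThreeFour

open Subgroup

variable {G : Type*} [Group G] {z : G} {e : Fin 4 → G}

/-- `g` lies in `C(z)` and permutes the generators by the signed permutation `s`. -/
def Acts (z : G) (e : Fin 4 → G) (g : G) (s : Sig) : Prop :=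
  g ∈ centralizer ({z} : Set G) ∧ ∀ i, g * e i * g⁻¹ = e (s.1 i) * z ^ (Sig.sgn s i).val

/-- Parity of the permutation. -/
def Sig.par (s : Sig) : ZMod 2 := if Equiv.Perm.sign s.1 = 1 then 0 else 1

/-- Whether the product of the four generators moves. -/
def Sig.mov (s : Sig) : ZMod 2 := (Sig.act s Mo.om).f

/-- The inner automorphism. -/
def innS (m : Mo) : Sig := (1, m.b + m.c + m.d, m.a + m.c + m.d, m.a + m.b + m.d, m.a + m.b + m.c)

namespace Frame

variable (hF : Frame z e)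
include hF

/-- The model in `G`. -/
noncomputable def θ : Mo →* G := thetaHom hF.rel

theorem θ_inj : Function.Injective hF.θ := thetaHom_injective hF.rel hF.z1

theorem θ_zz : hF.θ Mo.zz = z := thetaHom_zz hF.rel

theorem θ_gen (i : Fin 4) : hF.θ (Mo.gen i) = e i := thetaHom_gen hF.rel i

theorem θ_zp (b : ZMod 2) : hF.θ (Mo.zz ^ b.val) = z ^ b.val := by rw [map_pow, θ_zz]

theorem zsq : z * z = 1 := hF.rel.zsq

theorem mem_H {g : G} : g ∈ centralizer ({z} : Set G) ↔ g * z = z * g := mem_centralizer_singleton_iff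

theorem z_mem : z ∈ centralizer ({z} : Set G) := mem_centralizer_singleton_iff.2 rfl

theorem e_mem (i : Fin 4) : e i ∈ centralizer ({z} : Set G) := mem_centralizer_singleton_iff.2 (hF.rel.zc i).symm

theorem θ_mem (m : Mo) : hF.θ m ∈ centralizer ({z} : Set G) := by
  rw [Mo.decomp m, map_mul, map_mul, map_mul, map_mul, map_pow, map_pow, map_pow, map_pow, map_pow, θ_gen,
    θ_gen, θ_gen, θ_gen, θ_zz]
  exact mul_mem (mul_mem (mul_mem (mul_mem (pow_mem (hF.e_mem 0) _) (pow_mem (hF.e_mem 1) _))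
    (pow_mem (hF.e_mem 2) _)) (pow_mem (hF.e_mem 3) _)) (pow_mem hF.z_mem _)

theorem z_comm {g : G} (hg : g ∈ centralizer ({z} : Set G)) : g * z * g⁻¹ = z := by
  rw [mem_centralizer_singleton_iff.1 hg, mul_inv_cancel_right]

theorem θ_eq {a b : Fin 4} {x y : ZMod 2} (h : e a * z ^ x.val = e b * z ^ y.val) : a = b ∧ x = y := by
  rw [← hF.θ_gen, ← hF.θ_gen, ← hF.θ_zp, ← hF.θ_zp, ← map_mul, ← map_mul] at h
  have key : ∀ a b : Fin 4, ∀ x y : ZMod 2,
      Mo.gen a * Mo.zz ^ x.val = Mo.gen b * Mo.zz ^ y.val → a = b ∧ x = y := by decide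
  exact key a b x y (hF.θ_inj h)

theorem exists_acts {g : G} (hg : g ∈ centralizer ({z} : Set G)) : ∃ s, Acts z e g s := by
  choose j b hjb using hF.conj g hg
  have hinj : Function.Injective j := by
    intro i k h
    by_contra hne
    have h1 := congrArg (fun t => g * t * g⁻¹) (hF.rel.swap i k hne)
    have hz' := hF.z_comm hg
    simp only [show g * (e k * e i) * g⁻¹ = (g * e k * g⁻¹) * (g * e i * g⁻¹) by group,
      show g * (e i * e k * z) * g⁻¹ = (g * e i * g⁻¹) * (g * e k * g⁻¹) * (g * z * g⁻¹) by group,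
      hjb, hz', h] at h1
    have hc : ∀ (x y : ℕ), (e (j k) * z ^ x) * (e (j k) * z ^ y) = z ^ x * z ^ y := by
      intro x y
      have hzj : z ^ x * e (j k) = e (j k) * z ^ x := (Commute.pow_left (hF.rel.zc (j k)) x).eq
      rw [mul_assoc, ← mul_assoc (z ^ x), hzj, ← mul_assoc, ← mul_assoc, hF.rel.sq, one_mul]
    rw [hc, hc, ← pow_add, ← pow_add, add_comm (b i).val] at h1
    exact hF.z1 (mul_eq_left.1 h1.symm)
  refine ⟨(Equiv.ofBijective j (Finite.injective_iff_bijective.1 hinj), b 0, b 1, b 2, b 3), hg, fun i => ?_⟩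
  fin_cases i <;> exact hjb _

theorem acts_unique {g : G} {s t : Sig} (hs : Acts z e g s) (ht : Acts z e g t) : s = t := by
  have h : ∀ i, s.1 i = t.1 i ∧ Sig.sgn s i = Sig.sgn t i := fun i => hF.θ_eq ((hs.2 i).symm.trans (ht.2 i))
  exact Sig.ext' (Equiv.ext fun i => (h i).1) fun i => (h i).2

theorem acts_mul {g h : G} {s t : Sig} (hs : Acts z e g s) (ht : Acts z e h t) :
    Acts z e (g * h) (Sig.comp s t) := by
  refine ⟨mul_mem hs.1 ht.1, fun i => ?_⟩
  have hz : g * z ^ (Sig.sgn t i).val * g⁻¹ = z ^ (Sig.sgn t i).val := by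
    rw [← conj_pow, hF.z_comm hs.1]
  rw [show g * h * e i * (g * h)⁻¹ = g * (h * e i * h⁻¹) * g⁻¹ by group, ht.2 i,
    show g * (e (t.1 i) * z ^ (Sig.sgn t i).val) * g⁻¹ =
      (g * e (t.1 i) * g⁻¹) * (g * z ^ (Sig.sgn t i).val * g⁻¹) by group, hz, hs.2, Sig.sgn_comp, mul_assoc,
    ← pow_add]
  congr 1
  rcases zmod_two_cases (Sig.sgn s (t.1 i)) with h1 | h1 <;> rcases zmod_two_cases (Sig.sgn t i) with h2 | h2 <;>
    simp [h1, h2, ZMod.val_one, show ((1 : ZMod 2) + 1) = 0 from by decide, pow_two, hF.zsq]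

theorem acts_one : Acts z e 1 Sig.idS :=
  ⟨one_mem _, fun i => by fin_cases i <;> simp [Sig.idS, Sig.sgn]⟩

theorem acts_z : Acts z e z Sig.idS :=
  ⟨hF.z_mem, fun i => by rw [hF.rel.zc i, mul_inv_cancel_right]; fin_cases i <;> simp [Sig.idS, Sig.sgn]⟩

/-- Conjugation on the model. -/
theorem conj_θ {g : G} {s : Sig} (hs : Acts z e g s) (m : Mo) : g * hF.θ m * g⁻¹ = hF.θ (Sig.act s m) :=
  conj_theta hF.rel (hF.z_comm hs.1) hs.2 m

theorem commutes_iff {g : G} {s : Sig} (hs : Acts z e g s) (m : Mo) :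
    g * hF.θ m = hF.θ m * g ↔ Sig.act s m = m := by
  constructor
  · intro h
    refine hF.θ_inj ?_
    rw [← hF.conj_θ hs, h, mul_inv_cancel_right]
  · intro h
    have := hF.conj_θ hs m
    rw [h] at this
    calc g * hF.θ m = (g * hF.θ m * g⁻¹) * g := by group
      _ = hF.θ m * g := by rw [this]

theorem acts_θ (m : Mo) : Acts z e (hF.θ m) (innS m) := by
  have key : ∀ (m : Mo) (i : Fin 4),
      m * Mo.gen i * m⁻¹ = Mo.gen ((innS m).1 i) * Mo.zz ^ (Sig.sgn (innS m) i).val := by decide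
  refine ⟨hF.θ_mem m, fun i => ?_⟩
  rw [← hF.θ_gen, ← map_inv, ← map_mul, ← map_mul, key, map_mul, hF.θ_gen, hF.θ_zp]

theorem eq_or_of_acts {g h : G} {s : Sig} (hg : Acts z e g s) (hh : Acts z e h s) : h = g ∨ h = g * z := by
  have hm : g⁻¹ * h ∈ centralizer ({z} : Set G) := mul_mem (inv_mem hg.1) hh.1
  have hc : ∀ i, (g⁻¹ * h) * e i = e i * (g⁻¹ * h) := by
    intro i
    calc g⁻¹ * h * e i = g⁻¹ * (h * e i * h⁻¹) * h := by group
      _ = g⁻¹ * (g * e i * g⁻¹) * h := by rw [hh.2 i, hg.2 i]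
      _ = e i * (g⁻¹ * h) := by group
  rcases hF.ker _ hm hc with h1 | h1
  · exact Or.inl (inv_mul_eq_one.1 h1).symm
  · exact Or.inr (inv_mul_eq_iff_eq_mul.1 h1)

/-- Every signed permutation occurs. -/
theorem acts_surj [Finite G] (s : Sig) : ∃ g, Acts z e g s := by
  classical
  haveI : Fintype G := Fintype.ofFinite G
  choose sig hsig using fun g : ↥(centralizer ({z} : Set G)) => hF.exists_acts g.2
  by_contra hno
  push_neg at hno
  have hfib : ∀ t ∈ (Finset.univ.erase s : Finset Sig),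
      (Finset.univ.filter fun g => sig g = t).card ≤ 2 := by
    intro t _
    rcases (Finset.univ.filter fun g => sig g = t).eq_empty_or_nonempty with h | ⟨g₀, hg₀⟩
    · simp [h]
    · refine (Finset.card_le_card (t := {g₀, g₀ * ⟨z, hF.z_mem⟩}) fun g hg => ?_).trans Finset.card_le_two
      rw [Finset.mem_filter] at hg hg₀
      rcases hF.eq_or_of_acts (hg₀.2 ▸ hsig g₀) (hg.2 ▸ hsig g) with h | h
      · exact Finset.mem_insert.2 (Or.inl (Subtype.ext h))
      · exact Finset.mem_insert.2 (Or.inr (Finset.mem_singleton.2 (Subtype.ext h)))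
  have hmaps : ∀ g ∈ (Finset.univ : Finset ↥(centralizer ({z} : Set G))), sig g ∈ (Finset.univ.erase s : Finset Sig) :=
    fun g _ => Finset.mem_erase.2 ⟨fun h => hno g (h ▸ hsig g), Finset.mem_univ _⟩
  have h1 := Finset.card_le_mul_card_image_of_maps_to hmaps 2 hfib
  rw [Finset.card_univ, ← Nat.card_eq_fintype_card, hF.card, Finset.card_erase_of_mem (Finset.mem_univ s),
    Finset.card_univ, Sig.card_sig] at h1
  omega

set_option maxRecDepth 100000 in
theorem mov_iff {g : G} {s : Sig} (hs : Acts z e g s) : g * hF.θ Mo.om = hF.θ Mo.om * g ↔ Sig.mov s = 0 := by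
  rw [hF.commutes_iff hs]
  have key : ∀ s : Sig, Sig.act s Mo.om = Mo.om ↔ Sig.mov s = 0 := by decide
  exact key s

end Frame

end CfsgLib.Recog.AutLThreeFour
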