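import Cfsg.Agent.Lib.Techniques.Path
import Mathlib.GroupTheory.Transfer
import Mathlib.GroupTheory.Nilpotent
import Mathlib.GroupTheory.Abelianization.Finite

/-!
Owner: helper28. An element of order 3 which is not real, is no cube and has no subgroup of order 27 in its
centraliser lies outside some normal subgroup containing all elements of order prime to 3.
-/

set_option autoImplicit false
set_option linter.all false

namespace CfsgLib.Recog.AutLThreeFour.ThreeTransfer

open Subgroup
open scoped Classical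

/-- A subgroup of a finite `p`-group which covers the abelianisation is everything. -/
theorem eq_top_of_map_eq_top {p : ℕ} [Fact p.Prime] {P : Type*} [Group P] [Finite P] (hP : IsPGroup p P)
    {T : Subgroup P} (h : T.map (Abelianization.of : P →* Abelianization P) = ⊤) : T = ⊤ := by
  by_contra hne
  haveI := hP.isNilpotent
  obtain ⟨M, hM, hTM⟩ : ∃ M : Subgroup P, IsCoatom M ∧ T ≤ M := by
    rcases eq_top_or_exists_le_coatom T with h' | h'
    · exact absurd h' hne
    · exact h'
  haveI hMn : M.Normal :=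
    Subgroup.NormalizerCondition.normal_of_coatom M Group.normalizerCondition_of_isNilpotent hM
  have hsimple : ∀ H : Subgroup (P ⧸ M), H = ⊥ ∨ H = ⊤ := by
    intro H
    have hle : M ≤ H.comap (QuotientGroup.mk' M) := fun x hx => by
      rw [mem_comap, QuotientGroup.mk'_apply, (QuotientGroup.eq_one_iff x).2 hx]; exact one_mem _
    rcases eq_or_lt_of_le hle with e | e
    · left
      rw [← map_comap_eq_self_of_surjective (QuotientGroup.mk'_surjective M) H, ← e]
      simp
    · right
      rw [← map_comap_eq_self_of_surjective (QuotientGroup.mk'_surjective M) H, hM.2 _ e,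
        map_top_of_surjective _ (QuotientGroup.mk'_surjective M)]
  obtain ⟨x, -, hx⟩ := SetLike.exists_of_lt hM.1.lt_top
  have hgen : zpowers (x : P ⧸ M) = ⊤ :=
    (hsimple _).resolve_left fun e => hx ((QuotientGroup.eq_one_iff x).1 (zpowers_eq_bot.1 e))
  have hcomm : commutator P ≤ M := by
    have hab : ∀ a b : P ⧸ M, a * b = b * a := by
      intro a b
      obtain ⟨i, hi⟩ := mem_zpowers_iff.1 (hgen ▸ mem_top a)
      obtain ⟨j, hj⟩ := mem_zpowers_iff.1 (hgen ▸ mem_top b)
      rw [← hi, ← hj]; exact (Commute.zpow_zpow_self _ i j).eq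
    intro c hc
    letI : CommGroup (P ⧸ M) := { (inferInstance : Group (P ⧸ M)) with mul_comm := hab }
    have h1 := Abelianization.commutator_subset_ker (QuotientGroup.mk' M) hc
    exact (QuotientGroup.eq_one_iff c).1 h1
  refine hM.1 (eq_top_iff.2 fun y _ => ?_)
  obtain ⟨t, ht, hty⟩ := (h ▸ mem_top (Abelianization.of y) :
    Abelianization.of y ∈ T.map (Abelianization.of : P →* Abelianization P))
  have h2 : t⁻¹ * y ∈ commutator P := by
    rw [← Abelianization.ker_of, MonoidHom.mem_ker, map_mul, map_inv, hty, inv_mul_cancel]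
  have h3 := mul_mem (hTM ht) (hcomm h2)
  simpa using h3

set_option maxRecDepth 100000 in
/-- A sum over a set without opposite elements vanishes only for three elements. -/
theorem sum_ne_zero_aux : ∀ S : Finset (ZMod 3 × ZMod 3), S.Nonempty → (∀ a ∈ S, -a ∉ S) → S.card ≠ 3 →
    S.sum id ≠ 0 := by
  decide

theorem prod_ne_one {A : Type*} [CommGroup A] [Finite A] (h9 : Nat.card A ∣ 9) (he : ∀ a : A, a ^ 3 = 1)
    (S : Finset A) (hne : S.Nonempty) (hinv : ∀ a ∈ S, a⁻¹ ∉ S) (h3 : S.card ≠ 3) : S.prod id ≠ 1 := by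
  haveI : Fintype A := Fintype.ofFinite A
  have hone : (1 : A) ∉ S := fun h => hinv 1 h (by simpa using h)
  obtain ⟨a, ha⟩ := hne
  have ha1 : a ≠ 1 := fun h => hone (h ▸ ha)
  have hoa : orderOf a = 3 := orderOf_eq_prime (he a) ha1
  by_cases hall : ∀ b ∈ S, b ∈ zpowers a
  · -- only one element
    have hS : S = {a} := by
      refine Finset.eq_singleton_iff_unique_mem.2 ⟨ha, fun b hb => ?_⟩
      have hb' := hall b hb
      rw [← mem_powers_iff_mem_zpowers, mem_powers_iff_mem_range_orderOf, hoa] at hb'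
      simp only [Finset.mem_image, Finset.mem_range] at hb'
      obtain ⟨k, hk, rfl⟩ := hb'
      interval_cases k
      · exact absurd hb (by simpa using hone)
      · exact pow_one a
      · exfalso
        refine hinv a ha ?_
        rwa [show a⁻¹ = a ^ 2 from inv_eq_of_mul_eq_one_right (by rw [← pow_succ']; exact he a)]
    rw [hS, Finset.prod_singleton]
    exact ha1
  · push_neg at hall
    obtain ⟨b, hb, hba⟩ := hall
    have hb1 : b ≠ 1 := fun h => hba (h ▸ one_mem _)
    have hk : ∀ (c : A) (i j : ZMod 3), c ^ (i + j).val = c ^ i.val * c ^ j.val := by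
      intro c i j
      rw [ZMod.val_add, ← pow_add, ← pow_mod_natCard]
      conv_rhs => rw [← Nat.mod_add_div (i.val + j.val) 3, pow_add, pow_mul, he, one_pow, mul_one]
      rw [pow_mod_natCard]
    let f : Multiplicative (ZMod 3 × ZMod 3) →* A := MonoidHom.mk'
      (fun t => a ^ t.toAdd.1.val * b ^ t.toAdd.2.val) fun s t => by
        simp only [toAdd_mul, Prod.fst_add, Prod.snd_add, hk]
        exact mul_mul_mul_comm _ _ _ _
    have hinj : Function.Injective f := by
      rw [injective_iff_map_eq_one]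
      intro t ht
      induction t using Multiplicative.rec with | _ t => ?_
      obtain ⟨i, j⟩ := t
      have ht' : a ^ i.val * b ^ j.val = 1 := ht
      have hb3 : b ^ j.val ∈ zpowers a := by
        rw [← inv_eq_of_mul_eq_one_right ht']
        exact inv_mem (pow_mem (mem_zpowers a) _)
      have hj : j = 0 := by
        by_contra hj
        apply hba
        have hcase : ∀ j : ZMod 3, j ≠ 0 → (j.val * j.val) % 3 = 1 := by decide
        have := pow_mem hb3 j.val
        rw [← pow_mul] at this
        rwa [← Nat.mod_add_div (j.val * j.val) 3, pow_add, pow_mul, he, one_pow, mul_one, hcase j hj,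
          pow_one] at this
      subst hj
      rw [ZMod.val_zero, pow_zero, mul_one, ← orderOf_dvd_iff_pow_eq_one, hoa] at ht'
      have : i.val < 3 := ZMod.val_lt i
      have hi : i = 0 := (ZMod.val_eq_zero i).1 (Nat.eq_zero_of_dvd_of_lt ht' this)
      subst hi
      rfl
    have hbij : Function.Bijective f := by
      refine hinj.bijective_of_nat_card_le ?_
      rw [show Nat.card (Multiplicative (ZMod 3 × ZMod 3)) = 9 by
        rw [Nat.card_congr Multiplicative.toAdd, Nat.card_prod, Nat.card_zmod]]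
      exact Nat.le_of_dvd (by norm_num) h9
    let e : Multiplicative (ZMod 3 × ZMod 3) ≃* A := MulEquiv.ofBijective f hbij
    let T : Finset (ZMod 3 × ZMod 3) := S.map (e.symm.toEquiv.trans Multiplicative.toAdd).toEmbedding
    have hmem : ∀ x, x ∈ T ↔ e (Multiplicative.ofAdd x) ∈ S := by
      intro x
      simp only [T, Finset.mem_map_equiv]
      rfl
    intro hprod
    refine sum_ne_zero_aux T (Finset.map_nonempty.2 ⟨a, ha⟩) (fun x hx hx' => ?_)
      (by simpa [T] using h3) ?_
    · rw [hmem] at hx hx'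
      rw [ofAdd_neg, map_inv] at hx'
      exact hinv _ hx hx'
    · apply Multiplicative.ofAdd.injective
      simp only [T, Finset.sum_map, ofAdd_sum, ofAdd_zero]
      have : ∀ x ∈ S, Multiplicative.ofAdd (id ((e.symm.toEquiv.trans Multiplicative.toAdd).toEmbedding x)) =
          e.symm x := fun x _ => rfl
      rw [Finset.prod_congr rfl this, ← map_prod]
      rw [show (∏ x ∈ S, x) = S.prod id from rfl, hprod, map_one]

/-- The action of the normaliser of a subgroup on its abelianisation. -/
def psi {G : Type*} [Group G] (P : Subgroup G) :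
    normalizer (P : Set G) →* MulAut (Abelianization ↥P) where
  toFun n := (P.normalizerMonoidHom n).abelianizationCongr
  map_one' := by
    refine MulEquiv.ext fun a => ?_
    induction a using QuotientGroup.induction_on with | H y => ?_
    show Abelianization.of (P.normalizerMonoidHom 1 y) = _
    rw [map_one]; rfl
  map_mul' n m := by
    refine MulEquiv.ext fun a => ?_
    induction a using QuotientGroup.induction_on with | H y => ?_
    show Abelianization.of (P.normalizerMonoidHom (n * m) y) = _
    rw [map_mul]; rfl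

theorem psi_of {G : Type*} [Group G] (P : Subgroup G) (n : normalizer (P : Set G)) (y : P)
    (h : (n : G) * y * (n : G)⁻¹ ∈ P) :
    psi P n (Abelianization.of y) = Abelianization.of ⟨(n : G) * y * (n : G)⁻¹, h⟩ := rfl

variable {G : Type*} [Group G] [Finite G]

theorem card_centralizer_conj {u x : G} (h : IsConj u x) :
    Nat.card ↥(centralizer ({x} : Set G)) = Nat.card ↥(centralizer ({u} : Set G)) := by
  obtain ⟨g, rfl⟩ := isConj_iff.1 h
  have h1 : centralizer ({g * u * g⁻¹} : Set G) = (centralizer ({u} : Set G)).map (MulAut.conj g).toMonoidHom := by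
    ext y
    rw [mem_centralizer_singleton_iff, mem_map]
    constructor
    · intro hy
      refine ⟨g⁻¹ * y * g, mem_centralizer_singleton_iff.2 ?_, by simp [mul_assoc]⟩
      calc g⁻¹ * y * g * u = g⁻¹ * (y * (g * u * g⁻¹)) * g := by group
        _ = g⁻¹ * (g * u * g⁻¹ * y) * g := by rw [hy]
        _ = u * (g⁻¹ * y * g) := by group
    · rintro ⟨w, hw, rfl⟩
      simp only [MulEquiv.coe_toMonoidHom, MulAut.conj_apply]
      calc g * w * g⁻¹ * (g * u * g⁻¹) = g * (w * u) * g⁻¹ := by group
        _ = g * (u * w) * g⁻¹ := by rw [mem_centralizer_singleton_iff.1 hw]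
        _ = g * u * g⁻¹ * (g * w * g⁻¹) := by group
  rw [h1, card_map_of_injective (f := (MulAut.conj g).toMonoidHom) (MulAut.conj g).injective]

variable {u : G} (h3 : orderOf u = 3) (hreal : ∀ g : G, g * u * g⁻¹ ≠ u⁻¹)
include h3 hreal

theorem exists_normal_not_mem (h27 : ¬ 27 ∣ Nat.card ↥(centralizer ({u} : Set G)))
    (hroot : ∀ v : G, v ^ 3 ≠ u) :
    ∃ N : Subgroup G, N.Normal ∧ u ∉ N ∧ ∀ g : G, Nat.Coprime (orderOf g) 3 → g ∈ N := by
  classical
  haveI : Fact (Nat.Prime 3) := ⟨Nat.prime_three⟩
  have hu3 : u ^ 3 = 1 := orderOf_dvd_iff_pow_eq_one.1 (by rw [h3])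
  have hu1 : u ≠ 1 := fun h => by rw [h, orderOf_one] at h3; omega
  obtain ⟨P, hP⟩ := (IsPGroup.of_card (p := 3) (n := 1) (by rw [Nat.card_zpowers, h3]; norm_num) :
    IsPGroup 3 ↥(zpowers u)).exists_le_sylow
  have huP : u ∈ (P : Subgroup G) := hP (mem_zpowers u)
  set uP : ↥(P : Subgroup G) := ⟨u, huP⟩ with huP'
  -- centralisers in `P`
  have hcent : ∀ x : ↥(P : Subgroup G), IsConj u (x : G) →
      Nat.card ↥(centralizer ({x} : Set ↥(P : Subgroup G))) ∣ 9 ∧
      Nat.card ↥(centralizer ({x} : Set ↥(P : Subgroup G))) ∣ Nat.card ↥(centralizer ({u} : Set G)) := by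
    intro x hx
    have hd : Nat.card ↥(centralizer ({x} : Set ↥(P : Subgroup G))) ∣ Nat.card ↥(centralizer ({u} : Set G)) := by
      rw [← card_centralizer_conj hx, ← card_map_of_injective (P : Subgroup G).subtype_injective]
      refine card_dvd_of_le ?_
      rintro _ ⟨y, hy, rfl⟩
      exact mem_centralizer_singleton_iff.2 (congrArg Subtype.val (mem_centralizer_singleton_iff.1 hy))
    obtain ⟨k, hk⟩ := IsPGroup.iff_card.1 (P.2.to_subgroup (centralizer ({x} : Set ↥(P : Subgroup G))))
    refine ⟨?_, hd⟩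
    rw [hk] at hd ⊢
    rw [show (9 : ℕ) = 3 ^ 2 by norm_num]
    refine pow_dvd_pow 3 (by_contra fun hk2 => h27 (dvd_trans ?_ hd))
    rw [show (27 : ℕ) = 3 ^ 3 by norm_num]
    exact pow_dvd_pow 3 (by omega)
  set A := Abelianization ↥(P : Subgroup G) with hA
  have hPA : Nat.card ↥(commutator ↥(P : Subgroup G)) * Nat.card A = Nat.card ↥(P : Subgroup G) :=
    (Subgroup.card_mul_index _)
  -- classes lie in cosets of the derived subgroup
  have hclass : ∀ x : ↥(P : Subgroup G), IsConj u (x : G) → Nat.card A ≤ Nat.card ↥(centralizer ({x} : Set ↥(P : Subgroup G))) ∧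
      (Nat.card ↥(centralizer ({x} : Set ↥(P : Subgroup G))) ≤ Nat.card A →
        ∀ y : ↥(P : Subgroup G), Abelianization.of y = Abelianization.of x → IsConj x y) := by
    intro x hx
    set C := centralizer ({x} : Set ↥(P : Subgroup G)) with hC
    let f : ↥(P : Subgroup G) ⧸ C → {y : ↥(P : Subgroup G) // Abelianization.of y = Abelianization.of x} :=
      fun q => ⟨q.out * x * q.out⁻¹, by rw [map_mul, map_mul, map_inv, mul_right_comm, mul_inv_cancel, one_mul]⟩
    have hf : Function.Injective f := by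
      intro q r hqr
      have h : q.out * x * q.out⁻¹ = r.out * x * r.out⁻¹ := congrArg Subtype.val hqr
      rw [← QuotientGroup.out_eq' q, ← QuotientGroup.out_eq' r, QuotientGroup.eq]
      refine mem_centralizer_singleton_iff.2 ?_
      calc q.out⁻¹ * r.out * x = q.out⁻¹ * (r.out * x * r.out⁻¹) * r.out := by group
        _ = q.out⁻¹ * (q.out * x * q.out⁻¹) * r.out := by rw [h]
        _ = x * (q.out⁻¹ * r.out) := by group
    have hfib : Nat.card {y : ↥(P : Subgroup G) // Abelianization.of y = Abelianization.of x} =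
        Nat.card ↥(commutator ↥(P : Subgroup G)) := by
      refine Nat.card_congr
        { toFun := fun y => ⟨x⁻¹ * y.1, by
            rw [← Abelianization.ker_of, MonoidHom.mem_ker, map_mul, map_inv, y.2, inv_mul_cancel]⟩
          invFun := fun c => ⟨x * c.1, by
            rw [map_mul, show Abelianization.of c.1 = 1 by
              rw [← MonoidHom.mem_ker, Abelianization.ker_of]; exact c.2, mul_one]⟩
          left_inv := fun y => Subtype.ext (by simp)
          right_inv := fun c => Subtype.ext (by simp) }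
    have hle := Nat.card_le_card_of_injective f hf
    rw [hfib, ← Subgroup.index_eq_card] at hle
    have hmul : C.index * Nat.card C = Nat.card ↥(commutator ↥(P : Subgroup G)) * Nat.card A := by
      rw [hPA, mul_comm, C.card_mul_index]
    have hpos : 0 < Nat.card ↥(commutator ↥(P : Subgroup G)) := Nat.card_pos
    refine ⟨?_, fun hle' y hy => ?_⟩
    · by_contra hlt
      push_neg at hlt
      nlinarith
    · have heq : Nat.card ↥(commutator ↥(P : Subgroup G)) ≤ C.index := by
        by_contra hlt
        push_neg at hlt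
        have : 0 < Nat.card ↥C := Nat.card_pos
        nlinarith
      obtain ⟨q, hq⟩ := (hf.bijective_of_nat_card_le (by rw [hfib, ← Subgroup.index_eq_card]; exact heq)).2 ⟨y, hy⟩
      exact isConj_iff.2 ⟨q.out, congrArg Subtype.val hq⟩
  have h9 : Nat.card A ≤ 9 := (hclass uP (IsConj.refl u)).1.trans (Nat.le_of_dvd (by norm_num) (hcent uP (IsConj.refl u)).1)
  -- the abelianisation is elementary
  obtain ⟨k, hk⟩ := IsPGroup.iff_card.1 P.2
  obtain ⟨j, hj⟩ := (Nat.dvd_prime_pow Nat.prime_three).1 (hk ▸ Dvd.intro_left _ hPA : Nat.card A ∣ 3 ^ k)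
  have hA9 : Nat.card A ∣ 9 := by
    rw [hj.2, show (9 : ℕ) = 3 ^ 2 by norm_num]
    refine pow_dvd_pow 3 (by_contra fun h => ?_)
    have := Nat.pow_le_pow_right (show 0 < 3 by norm_num) (show 3 ≤ j by omega)
    omega
  have habel : IsCyclic A → ∀ y : ↥(P : Subgroup G), y ^ 3 = 1 := by
    intro hcyc y
    obtain ⟨a, ha⟩ := hcyc.exists_generator
    obtain ⟨w, rfl⟩ := QuotientGroup.mk_surjective a
    have hw : zpowers w = ⊤ := eq_top_of_map_eq_top P.2 (by
      rw [MonoidHom.map_zpowers]
      exact eq_top_iff.2 fun b _ => ha b)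
    have hcomm : centralizer ({uP} : Set ↥(P : Subgroup G)) = ⊤ := by
      refine eq_top_iff.2 fun z _ => mem_centralizer_singleton_iff.2 ?_
      obtain ⟨i, rfl⟩ := mem_zpowers_iff.1 (hw ▸ mem_top z)
      obtain ⟨l, hl⟩ := mem_zpowers_iff.1 (hw ▸ mem_top uP)
      rw [← hl]; exact (Commute.zpow_zpow_self w i l).eq
    have hc := (hcent uP (IsConj.refl u)).1
    rw [hcomm, card_top] at hc
    have hd : orderOf w ∣ 3 ^ 2 := (_root_.orderOf_dvd_natCard w).trans (by norm_num [hc])
    obtain ⟨i, hi, hiw⟩ := (Nat.dvd_prime_pow Nat.prime_three).1 hd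
    obtain ⟨l, hl⟩ := mem_zpowers_iff.1 (hw ▸ mem_top y)
    suffices w ^ 3 = 1 by rw [← hl, ← zpow_natCast, ← zpow_mul, mul_comm, zpow_mul, zpow_natCast, this, one_zpow]
    rw [← orderOf_dvd_iff_pow_eq_one, hiw]
    by_contra hne
    have hi2 : i = 2 := by
      interval_cases i <;> simp at hne ⊢
    subst hi2
    obtain ⟨n, hn⟩ := mem_zpowers_iff.1 (hw ▸ mem_top uP)
    have h3n : (3 : ℤ) ∣ n := by
      have h1 : uP ^ 3 = 1 := Subtype.ext (by simp [huP', ← h3, pow_orderOf_eq_one])
      rw [← hn, ← zpow_natCast, ← zpow_mul, ← orderOf_dvd_iff_zpow_eq_one, hiw] at h1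
      norm_num at h1
      omega
    obtain ⟨m, rfl⟩ := h3n
    apply hroot ((w : G) ^ m)
    have := congrArg Subtype.val hn
    rw [mul_comm, zpow_mul] at this
    simpa [huP'] using this
  have hexp : ∀ a : A, a ^ 3 = 1 := by
    intro a
    obtain ⟨y, rfl⟩ := QuotientGroup.mk_surjective a
    by_cases hcyc : IsCyclic A
    · show Abelianization.of y ^ 3 = 1
      rw [← map_pow, habel hcyc, map_one]
    · by_contra hne
      apply hcyc
      have hd : orderOf (Abelianization.of y : A) ∣ 3 ^ 2 := (_root_.orderOf_dvd_natCard _).trans (by simpa using hA9)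
      obtain ⟨i, hi, hiy⟩ := (Nat.dvd_prime_pow Nat.prime_three).1 hd
      have hi2 : i = 2 := by
        by_contra h
        apply hne
        show Abelianization.of y ^ 3 = 1
        rw [← orderOf_dvd_iff_pow_eq_one, hiy]
        exact (pow_dvd_pow 3 (show i ≤ 1 by omega)).trans (by norm_num)
      subst hi2
      refine isCyclic_of_orderOf_eq_card (Abelianization.of y) (le_antisymm ?_ ?_)
      · exact Nat.le_of_dvd Nat.card_pos (_root_.orderOf_dvd_natCard _)
      · rw [hiy]; exact h9
  have hCA : ∀ x : ↥(P : Subgroup G), IsConj u (x : G) →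
      Nat.card ↥(centralizer ({x} : Set ↥(P : Subgroup G))) = Nat.card A := by
    intro x hx
    refine le_antisymm ?_ (hclass x hx).1
    by_cases hcyc : IsCyclic A
    · -- then `P` is abelian
      have hbot : commutator ↥(P : Subgroup G) = ⊥ := by
        obtain ⟨a, ha⟩ := hcyc.exists_generator
        obtain ⟨w, rfl⟩ := QuotientGroup.mk_surjective a
        have hw : zpowers w = ⊤ := eq_top_of_map_eq_top P.2 (by
          rw [MonoidHom.map_zpowers]
          exact eq_top_iff.2 fun b _ => ha b)
        rw [eq_bot_iff, _root_.commutator_def, commutator_le]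
        intro a _ b _
        obtain ⟨i, rfl⟩ := mem_zpowers_iff.1 (hw ▸ mem_top a)
        obtain ⟨l, rfl⟩ := mem_zpowers_iff.1 (hw ▸ mem_top b)
        exact mem_bot.2 (commutatorElement_eq_one_iff_commute.2 (Commute.zpow_zpow_self w i l))
      rw [hbot, card_bot, one_mul] at hPA
      rw [hPA]
      exact Nat.le_of_dvd Nat.card_pos (card_subgroup_dvd_card _)
    · have hnine : Nat.card A = 9 := by
        obtain ⟨i, hi, hiA⟩ := (Nat.dvd_prime_pow Nat.prime_three).1 (hA9.trans (by norm_num) : Nat.card A ∣ 3 ^ 2)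
        interval_cases i
        · haveI : Subsingleton A := (Nat.card_eq_one_iff_unique.1 (by simpa using hiA)).1
          exact absurd isCyclic_of_subsingleton hcyc
        · exact absurd (isCyclic_of_prime_card (p := 3) (by simpa using hiA)) hcyc
        · simpa using hiA
      rw [hnine]
      exact Nat.le_of_dvd (by norm_num) (hcent x hx).1
  -- the images of the class of `u`
  haveI : Fintype A := Fintype.ofFinite A
  set S : Finset A := Finset.univ.filter fun a => ∃ x : ↥(P : Subgroup G), IsConj u (x : G) ∧ Abelianization.of x = a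
    with hSdef
  have hSmem : ∀ {x : ↥(P : Subgroup G)}, IsConj u (x : G) → Abelianization.of x ∈ S := fun {x} hx =>
    Finset.mem_filter.2 ⟨Finset.mem_univ _, x, hx, rfl⟩
  have hconjP : ∀ {x y : ↥(P : Subgroup G)}, IsConj u (x : G) → Abelianization.of y = Abelianization.of x →
      IsConj u (y : G) := fun {x y} hx hy =>
    hx.trans ((P : Subgroup G).subtype.map_isConj ((hclass x hx).2 (hCA x hx).le y hy))
  have hone : ∀ {x : ↥(P : Subgroup G)}, IsConj u (x : G) → Abelianization.of x ≠ 1 := fun {x} hx h => by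
    have h1 := hconjP hx (show Abelianization.of 1 = Abelianization.of x by rw [map_one, h])
    obtain ⟨g, hg⟩ := isConj_iff.1 h1
    exact hu1 (conj_eq_one_iff.1 hg)
  have hinv : ∀ a ∈ S, a⁻¹ ∉ S := by
    intro a ha ha'
    obtain ⟨-, x, hx, rfl⟩ := Finset.mem_filter.1 ha
    obtain ⟨-, y, hy, hyx⟩ := Finset.mem_filter.1 ha'
    have h1 : IsConj u ((x⁻¹ : ↥(P : Subgroup G)) : G) := hconjP hy (by rw [map_inv, hyx])
    obtain ⟨g, hg⟩ := isConj_iff.1 h1
    obtain ⟨g', hg'⟩ := isConj_iff.1 hx
    rw [coe_inv, ← hg'] at hg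
    refine hreal (g'⁻¹ * g) ?_
    calc g'⁻¹ * g * u * (g'⁻¹ * g)⁻¹ = g'⁻¹ * (g * u * g⁻¹) * g' := by group
      _ = g'⁻¹ * (g' * u * g'⁻¹)⁻¹ * g' := by rw [hg]
      _ = u⁻¹ := by group
  -- fusion
  set ψ := psi (P : Subgroup G) with hψ
  have hfuse := CfsgLib.Techniques.fusion_induction P
    (fun D g => ∀ a ∈ D, ∀ ha : a ∈ (P : Subgroup G), IsConj u a → ∃ hb : g⁻¹ * a * g ∈ (P : Subgroup G),
      ∃ n, ψ n (Abelianization.of ⟨a, ha⟩) = Abelianization.of ⟨g⁻¹ * a * g, hb⟩)
    (fun D g h B hB a ha => h a (hB ha))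
    (fun D g k h1 h2 a haD ha hua => by
      obtain ⟨hb, n, hn⟩ := h1 a haD ha hua
      obtain ⟨hc, m, hm⟩ := h2 _ ⟨a, haD, rfl⟩ hb (hua.trans (isConj_iff.2 ⟨g⁻¹, by group⟩))
      have e : (g * k)⁻¹ * a * (g * k) = k⁻¹ * (g⁻¹ * a * g) * k := by group
      refine ⟨by rw [e]; exact hc, m * n, ?_⟩
      rw [map_mul, MulAut.mul_apply, hn, hm]
      exact congrArg _ (Subtype.ext e.symm))
    (fun U hU hfull IH x hx a haU ha hua => by
      have hb : x⁻¹ * a * x ∈ U := by
        have := (mem_normalizer_iff.1 (inv_mem hx) a).1 haU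
        simpa using this
      refine ⟨hU hb, ?_⟩
      have hua' : IsConj u (x⁻¹ * a * x) := hua.trans (isConj_iff.2 ⟨x⁻¹, by group⟩)
      by_cases htop : (U.subgroupOf (P : Subgroup G)).map (Abelianization.of : _ →* A) = ⊤
      · have hUP : U = (P : Subgroup G) := le_antisymm hU (subgroupOf_eq_top.1 (eq_top_of_map_eq_top P.2 htop))
        refine ⟨⟨x⁻¹, by rw [← hUP]; exact inv_mem hx⟩, ?_⟩
        refine (psi_of _ _ _ (by simpa using hU hb)).trans (congrArg _ (Subtype.ext ?_))
        simp
      · refine ⟨1, ?_⟩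
        rw [map_one, MulAut.one_apply]
        set I := (U.subgroupOf (P : Subgroup G)).map (Abelianization.of : _ →* A) with hI
        have hm1 : Abelianization.of (⟨a, ha⟩ : ↥(P : Subgroup G)) ∈ I := ⟨⟨a, ha⟩, haU, rfl⟩
        have hm2 : Abelianization.of (⟨x⁻¹ * a * x, hU hb⟩ : ↥(P : Subgroup G)) ∈ I := ⟨⟨_, hU hb⟩, hb, rfl⟩
        set a' : A := Abelianization.of (⟨a, ha⟩ : ↥(P : Subgroup G)) with ha'
        set b' : A := Abelianization.of (⟨x⁻¹ * a * x, hU hb⟩ : ↥(P : Subgroup G)) with hb'
        have ho : orderOf a' = 3 := orderOf_eq_prime (hexp _) (hone (x := ⟨a, ha⟩) hua)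
        have hIeq : zpowers a' = I := by
          refine eq_of_le_of_card_ge (zpowers_le.2 hm1) ?_
          rw [Nat.card_zpowers, ho]
          have hd : Nat.card I ∣ 3 ^ 2 := (card_subgroup_dvd_card I).trans (hA9.trans (by norm_num))
          obtain ⟨i, hi, hiI⟩ := (Nat.dvd_prime_pow Nat.prime_three).1 hd
          interval_cases i
          · rw [hiI]; norm_num
          · rw [hiI]; norm_num
          · exfalso
            apply htop
            exact (card_eq_iff_eq_top I).1 (le_antisymm (card_le_card_group I) (by rw [hiI]; exact h9))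
        have hm3 := hIeq ▸ hm2
        rw [← mem_powers_iff_mem_zpowers, mem_powers_iff_mem_range_orderOf, ho] at hm3
        simp only [Finset.mem_image, Finset.mem_range] at hm3
        obtain ⟨i, hi, hib⟩ := hm3
        interval_cases i
        · exact absurd (by simpa using hib.symm) (hone (x := ⟨_, hU hb⟩) hua')
        · simpa using hib
        · exfalso
          refine hinv a' (hSmem (x := ⟨a, ha⟩) hua) ?_
          rw [show a'⁻¹ = a' ^ 2 from inv_eq_of_mul_eq_one_right (by rw [← pow_succ']; exact hexp a'), hib]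
          exact hSmem (x := ⟨_, hU hb⟩) hua')
  have hSorb : (S : Set A) = Set.range fun n => ψ n (Abelianization.of uP) := by
    ext a
    constructor
    · intro ha
      obtain ⟨-, x, hx, rfl⟩ := Finset.mem_filter.1 ha
      obtain ⟨g, hg⟩ := isConj_iff.1 hx
      have hcond : (zpowers u).map (MulAut.conj (g⁻¹)⁻¹).toMonoidHom ≤ (P : Subgroup G) := by
        rw [inv_inv, MonoidHom.map_zpowers, zpowers_le]
        simp only [MulEquiv.coe_toMonoidHom, MulAut.conj_apply, hg]
        exact x.2
      obtain ⟨hb, n, hn⟩ := hfuse (zpowers u) (zpowers_le.2 huP) g⁻¹ hcond u (mem_zpowers u) huP (IsConj.refl u)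
      refine ⟨n, hn.trans (congrArg _ (Subtype.ext ?_))⟩
      simp [hg]
    · rintro ⟨n, rfl⟩
      have hmem : (n : G) * u * (n : G)⁻¹ ∈ (P : Subgroup G) := (mem_normalizer_iff.1 n.2 u).1 huP
      rw [Finset.mem_coe]
      show ψ n (Abelianization.of uP) ∈ S
      rw [hψ, psi_of _ _ _ hmem]
      exact hSmem (x := ⟨_, hmem⟩) (isConj_iff.2 ⟨n, rfl⟩)
  have hS3 : S.card ≠ 3 := by
    intro hc
    letI : MulAction (normalizer ((P : Subgroup G) : Set G)) A :=
      MulAction.compHom A ψ
    have horb : (S : Set A) = MulAction.orbit (normalizer ((P : Subgroup G) : Set G)) (Abelianization.of uP) := by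
      rw [hSorb]; rfl
    have hcard : (MulAction.stabilizer (normalizer ((P : Subgroup G) : Set G)) (Abelianization.of uP : A)).index = 3 := by
      rw [MulAction.index_stabilizer, ← horb, Set.ncard_coe_finset]; exact hc
    have hle : (P : Subgroup G).subgroupOf (normalizer ((P : Subgroup G) : Set G)) ≤
        MulAction.stabilizer (normalizer ((P : Subgroup G) : Set G)) (Abelianization.of uP : A) := by
      intro n hn
      rw [MulAction.mem_stabilizer_iff]
      show ψ n (Abelianization.of uP) = _
      rw [hψ, psi_of _ _ _ (mul_mem (mul_mem (mem_subgroupOf.1 hn) huP) (inv_mem (mem_subgroupOf.1 hn)))]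
      show Abelianization.of ((⟨n, mem_subgroupOf.1 hn⟩ : ↥(P : Subgroup G)) * uP * (⟨n, mem_subgroupOf.1 hn⟩)⁻¹) = _
      rw [map_mul, map_mul, map_inv, mul_right_comm, mul_inv_cancel, one_mul]
    have hd := Subgroup.index_dvd_of_le hle
    rw [hcard, ← Subgroup.relIndex] at hd
    exact P.not_dvd_index (hd.trans ⟨_, (relIndex_mul_index le_normalizer).symm⟩)
  have hprod := prod_ne_one hA9 hexp S ⟨_, hSmem (x := uP) (IsConj.refl u)⟩ hinv hS3
  -- the transfer
  haveI : (P : Subgroup G).FiniteIndex := inferInstance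
  set V : G →* A := MonoidHom.transfer (Abelianization.of : ↥(P : Subgroup G) →* A) with hV
  haveI : Fintype (G ⧸ (P : Subgroup G)) := Fintype.ofFinite _
  let F : G ⧸ (P : Subgroup G) → A := fun p =>
    if h : p.out⁻¹ * u * p.out ∈ (P : Subgroup G) then Abelianization.of ⟨_, h⟩ else 1
  have hfixiff : ∀ p : G ⧸ (P : Subgroup G), p.out⁻¹ * u * p.out ∈ (P : Subgroup G) ↔ u • p = p := by
    intro p
    conv_rhs => rw [← QuotientGroup.out_eq' p]
    rw [eq_comm, MulAction.Quotient.smul_mk, QuotientGroup.eq, mul_assoc, smul_eq_mul]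
  set Fix := Finset.univ.filter fun p : G ⧸ (P : Subgroup G) => u • p = p with hFix
  have hVu : V u = ∏ p ∈ Fix, F p := by
    haveI : Fintype (Quotient (MulAction.orbitRel (zpowers u) (G ⧸ (P : Subgroup G)))) := Fintype.ofFinite _
    rw [hV, MonoidHom.transfer_eq_prod_quotient_orbitRel_zpowers_quot]
    rw [← Finset.prod_filter_mul_prod_filter_not Finset.univ
      (fun q : Quotient (MulAction.orbitRel (zpowers u) (G ⧸ (P : Subgroup G))) =>
        Function.minimalPeriod (u • ·) q.out = 1)]
    have hper : ∀ q : G ⧸ (P : Subgroup G), Function.minimalPeriod (u • ·) q ∣ 3 := fun q => by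
      refine Function.IsPeriodicPt.minimalPeriod_dvd ?_
      show (u • ·)^[3] q = q
      rw [smul_iterate]
      show u ^ 3 • q = q
      rw [hu3, one_smul]
    refine (mul_eq_left.2 ?_).trans ?_
    · refine Finset.prod_eq_one fun q hq => ?_
      have h := ((Nat.dvd_prime Nat.prime_three).1 (hper q.out)).resolve_left (Finset.mem_filter.1 hq).2
      refine (congrArg (Abelianization.of : ↥(P : Subgroup G) →* A) (Subtype.ext ?_)).trans (map_one _)
      show q.out.out⁻¹ * u ^ Function.minimalPeriod (u • ·) q.out * q.out.out = 1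
      rw [h, hu3, mul_one, inv_mul_cancel]
    · refine Finset.prod_bij (fun q _ => q.out) ?_ ?_ ?_ ?_
      · intro q hq
        rw [hFix, Finset.mem_filter]
        refine ⟨Finset.mem_univ _, ?_⟩
        exact Function.minimalPeriod_eq_one_iff_isFixedPt.1 (Finset.mem_filter.1 hq).2
      · intro q _ q' _ h
        rw [← Quotient.out_eq q, ← Quotient.out_eq q', h]
      · intro p hp
        rw [hFix, Finset.mem_filter] at hp
        set q : Quotient (MulAction.orbitRel (zpowers u) (G ⧸ (P : Subgroup G))) := Quotient.mk _ p with hq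
        have hqp : q.out = p := by
          have h := Quotient.exact (Quotient.out_eq q)
          obtain ⟨⟨c, hc⟩, hcp⟩ := MulAction.orbitRel_apply.1 h
          obtain ⟨i, rfl⟩ := mem_zpowers_iff.1 hc
          rw [← hcp]
          exact (zpow_mem (show u ∈ MulAction.stabilizer G p from hp.2) i : u ^ i ∈ MulAction.stabilizer G p)
        refine ⟨q, Finset.mem_filter.2 ⟨Finset.mem_univ _, ?_⟩, hqp⟩
        rw [hqp]
        exact Function.minimalPeriod_eq_one_iff_isFixedPt.2 hp.2
      · intro q hq
        have h1 := (Finset.mem_filter.1 hq).2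
        have h : q.out.out⁻¹ * u * q.out.out ∈ (P : Subgroup G) :=
          (hfixiff _).2 (Function.minimalPeriod_eq_one_iff_isFixedPt.1 h1)
        show _ = F q.out
        simp only [F, dif_pos h]
        congr 1
        exact Subtype.ext (by simp [h1])
  have hmaps : ∀ p ∈ Fix, F p ∈ S := by
    intro p hp
    have h := (hfixiff p).2 (Finset.mem_filter.1 hp).2
    simp only [F, dif_pos h]
    exact hSmem (x := ⟨_, h⟩) (isConj_iff.2 ⟨p.out⁻¹, by group⟩)
  set C := centralizer ({u} : Set G) with hC
  have hcount : ∀ a ∈ S, (Fix.filter fun p => F p = a).card * Nat.card A = Nat.card ↥C := by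
    intro a ha
    obtain ⟨-, x, hx, rfl⟩ := Finset.mem_filter.1 ha
    obtain ⟨g, hg⟩ := isConj_iff.1 hx
    -- the coset of `g⁻¹`
    set p₀ : G ⧸ (P : Subgroup G) := ((g⁻¹ : G) : G ⧸ (P : Subgroup G)) with hp₀
    have hval : ∀ (h : G) (p : G ⧸ (P : Subgroup G)), (h : G ⧸ (P : Subgroup G)) = p →
        ∀ hm : h⁻¹ * u * h ∈ (P : Subgroup G), ∃ hm' : p.out⁻¹ * u * p.out ∈ (P : Subgroup G),
          Abelianization.of (⟨_, hm'⟩ : ↥(P : Subgroup G)) = Abelianization.of ⟨_, hm⟩ := by
      intro h p hp hm
      have hy : h⁻¹ * p.out ∈ (P : Subgroup G) := QuotientGroup.eq.1 (by rw [hp, QuotientGroup.out_eq'])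
      have e : p.out⁻¹ * u * p.out = (h⁻¹ * p.out)⁻¹ * (h⁻¹ * u * h) * (h⁻¹ * p.out) := by group
      refine ⟨by rw [e]; exact mul_mem (mul_mem (inv_mem hy) hm) hy, ?_⟩
      rw [show (⟨p.out⁻¹ * u * p.out, _⟩ : ↥(P : Subgroup G)) = ⟨_, hy⟩⁻¹ * ⟨_, hm⟩ * ⟨_, hy⟩ from
        Subtype.ext e, map_mul, map_mul, map_inv, mul_right_comm, inv_mul_cancel, one_mul]
    have hset : ((Fix.filter fun p => F p = Abelianization.of x : Finset _) : Set (G ⧸ (P : Subgroup G))) =
        MulAction.orbit C p₀ := by
      ext p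
      rw [Finset.mem_coe, Finset.mem_filter, hFix, Finset.mem_filter, MulAction.mem_orbit_iff]
      constructor
      · rintro ⟨⟨-, hp⟩, hpF⟩
        have h := (hfixiff p).2 hp
        simp only [F, dif_pos h] at hpF
        obtain ⟨w, hw⟩ := isConj_iff.1 ((hclass x hx).2 (hCA x hx).le _ hpF)
        have hw' : (w : G) * (g * u * g⁻¹) * (w : G)⁻¹ = p.out⁻¹ * u * p.out := by
          rw [hg]; exact congrArg Subtype.val hw
        refine ⟨⟨p.out * w * g, mem_centralizer_singleton_iff.2 ?_⟩, ?_⟩
        · calc p.out * w * g * u = p.out * ((w : G) * (g * u * g⁻¹) * (w : G)⁻¹) * ((w : G) * g) := by group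
            _ = p.out * (p.out⁻¹ * u * p.out) * ((w : G) * g) := by rw [hw']
            _ = u * (p.out * w * g) := by group
        · show (p.out * w * g) • p₀ = p
          rw [hp₀, MulAction.Quotient.smul_mk]
          conv_rhs => rw [← QuotientGroup.out_eq' p]
          rw [QuotientGroup.eq, smul_eq_mul]
          simp [mul_assoc]
      · rintro ⟨⟨c, hc⟩, rfl⟩
        have hc' := mem_centralizer_singleton_iff.1 hc
        have e : (c * g⁻¹)⁻¹ * u * (c * g⁻¹) = (x : G) := by
          rw [← hg]
          calc (c * g⁻¹)⁻¹ * u * (c * g⁻¹) = g * c⁻¹ * (u * c) * g⁻¹ := by group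
            _ = g * c⁻¹ * (c * u) * g⁻¹ := by rw [hc']
            _ = g * u * g⁻¹ := by group
        obtain ⟨hm', hv⟩ := hval (c * g⁻¹) _ (MulAction.Quotient.smul_mk (P : Subgroup G) c g⁻¹).symm
          (by rw [e]; exact x.2)
        refine ⟨⟨Finset.mem_univ _, (hfixiff _).1 hm'⟩, ?_⟩
        show F ((⟨c, hc⟩ : C) • p₀) = _
        simp only [F]
        rw [dif_pos (show ((⟨c, hc⟩ : C) • p₀).out⁻¹ * u * ((⟨c, hc⟩ : C) • p₀).out ∈ (P : Subgroup G) from hm')]
        exact hv.trans (congrArg _ (Subtype.ext e))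
    have hcard : (Fix.filter fun p => F p = Abelianization.of x).card = (MulAction.stabilizer C p₀).index := by
      rw [MulAction.index_stabilizer, ← hset, Set.ncard_coe_finset]
    have hstab : Nat.card ↥(MulAction.stabilizer C p₀) = Nat.card A := by
      rw [← hCA x hx]
      have hiff : ∀ c : G, c • p₀ = p₀ ↔ g * c * g⁻¹ ∈ (P : Subgroup G) := by
        intro c
        rw [hp₀, eq_comm, MulAction.Quotient.smul_mk, QuotientGroup.eq, smul_eq_mul]
        simp [mul_assoc]
      refine Nat.card_congr
        { toFun := fun c => ⟨⟨g * (c.1 : G) * g⁻¹, (hiff _).1 c.2⟩, mem_centralizer_singleton_iff.2 (Subtype.ext ?_)⟩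
          invFun := fun y => ⟨⟨g⁻¹ * ((y.1 : ↥(P : Subgroup G)) : G) * g, mem_centralizer_singleton_iff.2 ?_⟩,
            (hiff _).2 (by simp [mul_assoc])⟩
          left_inv := fun c => Subtype.ext (Subtype.ext (by simp [mul_assoc]))
          right_inv := fun y => Subtype.ext (Subtype.ext (by simp [mul_assoc])) }
      · show g * (c.1 : G) * g⁻¹ * (x : G) = (x : G) * (g * (c.1 : G) * g⁻¹)
        rw [← hg]
        calc g * (c.1 : G) * g⁻¹ * (g * u * g⁻¹) = g * ((c.1 : G) * u) * g⁻¹ := by group
          _ = g * (u * (c.1 : G)) * g⁻¹ := by rw [mem_centralizer_singleton_iff.1 c.1.2]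
          _ = g * u * g⁻¹ * (g * (c.1 : G) * g⁻¹) := by group
      · have h : ((y.1 : ↥(P : Subgroup G)) : G) * (g * u * g⁻¹) = g * u * g⁻¹ * ((y.1 : ↥(P : Subgroup G)) : G) := by
          rw [hg]; exact congrArg Subtype.val (mem_centralizer_singleton_iff.1 y.2)
        calc g⁻¹ * ((y.1 : ↥(P : Subgroup G)) : G) * g * u =
            g⁻¹ * (((y.1 : ↥(P : Subgroup G)) : G) * (g * u * g⁻¹)) * g := by group
          _ = g⁻¹ * (g * u * g⁻¹ * ((y.1 : ↥(P : Subgroup G)) : G)) * g := by rw [h]
          _ = u * (g⁻¹ * ((y.1 : ↥(P : Subgroup G)) : G) * g) := by group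
    rw [hcard, ← hstab, mul_comm, card_mul_index]
  set m := Nat.card ↥C / Nat.card A with hm
  have hVm : V u = S.prod id ^ m := by
    rw [hVu, ← Finset.prod_fiberwise_of_maps_to hmaps, ← Finset.prod_pow]
    refine Finset.prod_congr rfl fun a ha => ?_
    rw [Finset.prod_congr rfl (fun p hp => (Finset.mem_filter.1 hp).2 : ∀ p ∈ Fix.filter (fun p => F p = a), F p = a),
      Finset.prod_const, id]
    congr 1
    rw [hm, ← hcount a ha, Nat.mul_div_cancel _ Nat.card_pos]
  have h3m : ¬ 3 ∣ m := by
    intro h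
    have hx0 := hcount _ (hSmem (x := uP) (IsConj.refl u))
    have hmm : m * Nat.card A = Nat.card ↥C := by
      rw [hm, ← hx0, Nat.mul_div_cancel _ Nat.card_pos]
    have h3A : 3 * Nat.card A ∣ Nat.card ↥C := hmm ▸ Nat.mul_dvd_mul_right h _
    by_cases h9A : Nat.card A = 9
    · rw [h9A] at h3A; exact h27 h3A
    · -- then `P` is abelian and a Sylow subgroup of the centraliser
      have hj1 : j = 1 := by
        rcases Nat.lt_or_ge j 3 with hj3 | hj3
        · interval_cases j
          · exfalso
            have := hCA uP (IsConj.refl u)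
            rw [hj.2, pow_zero] at this
            have h1 : (uP : ↥(P : Subgroup G)) ∈ centralizer ({uP} : Set _) := mem_centralizer_singleton_iff.2 rfl
            rw [card_eq_one] at this
            rw [this, mem_bot] at h1
            exact hu1 (congrArg Subtype.val h1)
          · rfl
          · exact absurd (by rw [hj.2]; norm_num) h9A
        · exfalso
          have := Nat.pow_le_pow_right (show 0 < 3 by norm_num) hj3
          omega
      have hA3 : Nat.card A = 3 := by rw [hj.2, hj1]; norm_num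
      have hcyc : IsCyclic A := isCyclic_of_prime_card (p := 3) hA3
      have hPd : 3 * Nat.card A ∣ Nat.card G := h3A.trans (card_subgroup_dvd_card C)
      have hP9 := P.pow_dvd_card_of_pow_dvd_card (n := 2) (by rw [hA3] at hPd; simpa using hPd)
      have hP3 : ∀ y : ↥(P : Subgroup G), y ^ 3 = 1 := habel hcyc
      obtain ⟨a, ha⟩ := hcyc.exists_generator
      obtain ⟨w, rfl⟩ := QuotientGroup.mk_surjective a
      have hw : zpowers w = ⊤ := eq_top_of_map_eq_top P.2 (by
        rw [MonoidHom.map_zpowers]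
        exact eq_top_iff.2 fun b _ => ha b)
      have hle : Nat.card ↥(P : Subgroup G) ≤ 3 := by
        rw [← card_top (G := ↥(P : Subgroup G)), ← hw, Nat.card_zpowers]
        exact Nat.le_of_dvd (by norm_num) (orderOf_dvd_of_pow_eq_one (hP3 w))
      have := Nat.le_of_dvd Nat.card_pos hP9
      norm_num at this
      omega
  refine ⟨V.ker, inferInstance, fun h => ?_, fun g hg => ?_⟩
  · rw [MonoidHom.mem_ker, hVm] at h
    have h' : orderOf (S.prod id) ∣ m := orderOf_dvd_of_pow_eq_one h
    rw [orderOf_eq_prime (hexp _) hprod] at h'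
    exact h3m h'
  · rw [MonoidHom.mem_ker, ← orderOf_eq_one_iff]
    exact Nat.eq_one_of_dvd_coprimes hg (orderOf_map_dvd V g) (orderOf_dvd_of_pow_eq_one (hexp _))

end CfsgLib.Recog.AutLThreeFour.ThreeTransfer
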