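import Cfsg.Agent.Lib.Recog.AutLThreeFour.Fusion
import Cfsg.Agent.Lib.Recog.AutLThreeFour.ThreeTransfer
import Cfsg.Agent.Lib.TwoGroups.ElemCentralizers

/-!
Owner: helper28. The centraliser of the element of order 3 of `C_K(z)`: it is not real, no cube, and its
Sylow 3-subgroup has order at most 9.
-/

set_option autoImplicit false
set_option linter.all false

namespace CfsgLib.Recog.AutLThreeFour

open Subgroup
open scoped Pointwise

variable {G : Type*} [Group G] [Finite G] {z : G} {e : Fin 4 → G} {K : Subgroup G} {p u : G}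

namespace Base0

variable (hC : Base0 z e K p u) (hns : ¬ Group.IsSolvable G)
include hC

theorem S_cent_u {s : G} (hs : s ∈ hC.base.S) (h : u * s = s * u) : s ∈ hC.base.W := by
  obtain ⟨t, ht, rfl⟩ := hC.base.exists_Φ hs
  have he : hC.base.Φ t = u * hC.base.Φ t * u⁻¹ := by rw [h, mul_inv_cancel_right]
  have h0 := hC.base.idx_u he
  have h0' : t.1 = 0 := by
    have key : ∀ k : Fin 4, k = Pt.cy k → k = 0 := by decide +kernel
    exact key _ h0
  have hθ : hC.base.Φ t = hC.base.frame.θ t.2 := by simp [Base.Φ, Base.R, h0']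
  rw [hθ] at he
  rw [hC.base.frame.conj_θ hC.base.hu] at he
  have key : ∀ t : Pt, Pt.Ev t → t.1 = 0 → t.2 = Sig.act Sig.cyc t.2 → Pt.IsW t := by decide +kernel
  exact (hC.base.Φ_W t).2 (key t ht h0' (hC.base.frame.θ_inj he))

/-- The centraliser of `u` in `K`. -/
noncomputable def CU (hC : Base0 z e K p u) : Subgroup G := centralizer ({u} : Set G) ⊓ K

theorem u_mem_CU : u ∈ hC.CU := ⟨mem_centralizer_singleton_iff.2 rfl, hC.base.u_mem⟩

theorem W_le_CU : hC.base.W ≤ hC.CU := fun x hx =>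
  ⟨mem_centralizer_singleton_iff.2 (hC.base.comm_W hC.base.hu.1 hC.base.u_mem hx).symm, hC.base.W_le_K hx⟩

theorem CU_inf_H {g : G} (hg : g ∈ hC.CU) (hz : g ∈ centralizer ({z} : Set G)) :
    ∃ i : ℕ, ∃ v ∈ hC.base.W, g = u ^ i * v := by
  have hc := mem_centralizer_singleton_iff.1 hg.1
  have hu3 : u ^ 3 = 1 := by rw [pow_succ, pow_two]; exact hC.base.hu3
  rcases hC.base.exists_pow_u hz hg.2 with h | h | h
  · exact ⟨0, g, hC.S_cent_u h hc.symm, by simp⟩
  · refine ⟨2, u * g, hC.S_cent_u h ?_, ?_⟩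
    · rw [mul_assoc u g u, hc]
    · rw [← mul_assoc, ← pow_succ, hu3, one_mul]
  · refine ⟨1, u * u * g, hC.S_cent_u h ?_, ?_⟩
    · rw [mul_assoc (u * u) g u, hc]; group
    · rw [pow_one, ← mul_assoc, ← mul_assoc, hC.base.hu3, one_mul]

theorem W_comm {a b : G} (ha : a ∈ hC.base.W) (hb : b ∈ hC.base.W) : a * b = b * a :=
  hC.leg_A.comm _ (hC.leg_A.W_le ha) _ (hC.leg_A.W_le hb)

/-- An involution of `⟨u⟩W` lies in `W`. -/
theorem mem_W_of_sq {i : ℕ} {v : G} (hv : v ∈ hC.base.W) (h : u ^ i * v * (u ^ i * v) = 1) :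
    u ^ i * v ∈ hC.base.W := by
  have hc : Commute v (u ^ i) := (show Commute v u from (hC.base.comm_W hC.base.hu.1 hC.base.u_mem hv).symm).pow_right i
  rw [show u ^ i * v * (u ^ i * v) = u ^ i * (v * u ^ i) * v by group, hc.eq,
    show u ^ i * (u ^ i * v) * v = u ^ i * u ^ i * (v * v) by group, hC.base.W_inv hv, mul_one, ← pow_add] at h
  have hd := orderOf_dvd_of_pow_eq_one h
  rw [hC.base.orderOf_u] at hd
  have : u ^ i = 1 := orderOf_dvd_iff_pow_eq_one.1 (by rw [hC.base.orderOf_u]; omega)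
  rw [this, one_mul]; exact hv

theorem W_isPGroup : IsPGroup 2 ↥hC.base.W := IsPGroup.of_card (n := 2) (by rw [hC.card_W]; norm_num)

/-- `W` is a Sylow 2-subgroup of the centraliser of `u`, and all of them are conjugate there. -/
theorem exists_conj_W {T : Subgroup G} (hT : IsPGroup 2 ↥T) (hTC : T ≤ hC.CU) :
    ∃ c ∈ hC.CU, ∀ x ∈ T, c * x * c⁻¹ ∈ hC.base.W := by
  haveI : Fact (Nat.Prime 2) := ⟨Nat.prime_two⟩
  obtain ⟨P, hP⟩ := (hC.W_isPGroup.comap_of_injective hC.CU.subtype hC.CU.subtype_injective).exists_le_sylow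
  have hPW : (P : Subgroup hC.CU).map hC.CU.subtype = hC.base.W := by
    by_contra hne
    obtain ⟨n, hnR, hnW, hn⟩ := exists_normalizing (P.2.map hC.CU.subtype)
      (fun x hx => ⟨⟨x, hC.W_le_CU hx⟩, hP (mem_subgroupOf.2 hx), rfl⟩) (Ne.symm hne)
    obtain ⟨k, hk⟩ := (P.2.map hC.CU.subtype) ⟨n, hnR⟩
    have hnC : n ∈ hC.CU := map_subtype_le _ hnR
    exact hnW (hC.S_cent_u (hC.base.mem_S_of_normalizes hnC.2 (fun x hx => (hn x).1 hx) (k := k)
      (by simpa using congrArg Subtype.val hk)) (mem_centralizer_singleton_iff.1 hnC.1).symm)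
  obtain ⟨Q, hQ⟩ := (hT.comap_of_injective hC.CU.subtype hC.CU.subtype_injective).exists_le_sylow
  obtain ⟨c, hc⟩ := MulAction.exists_smul_eq hC.CU Q P
  refine ⟨c, c.2, fun x hx => ?_⟩
  rw [← hPW]
  refine ⟨c * ⟨x, hTC hx⟩ * c⁻¹, ?_, by simp⟩
  have hc' : (P : Subgroup hC.CU) = MulAut.conj c • (Q : Subgroup hC.CU) := by rw [← hc]; rfl
  rw [hc']
  exact Subgroup.smul_mem_pointwise_smul _ _ _ (hQ (mem_subgroupOf.2 hx))

theorem not_real {g : G} (hg : g ∈ K) : g * u * g⁻¹ ≠ u⁻¹ := by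
  intro h
  haveI := hC.base.normal
  have hTC : hC.base.W.map (MulAut.conj g).toMonoidHom ≤ hC.CU := by
    rintro _ ⟨x, hx, rfl⟩
    refine ⟨mem_centralizer_singleton_iff.2 ?_, Subgroup.Normal.conj_mem inferInstance _ (hC.base.W_le_K hx) g⟩
    have hxu := hC.base.comm_W hC.base.hu.1 hC.base.u_mem hx
    simp only [MulEquiv.coe_toMonoidHom, MulAut.conj_apply]
    have hgu : g * u⁻¹ * g⁻¹ = u := by rw [← conj_inv, h, inv_inv]
    calc g * x * g⁻¹ * u = g * x * g⁻¹ * (g * u⁻¹ * g⁻¹) := by rw [hgu]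
      _ = g * (x * u⁻¹) * g⁻¹ := by group
      _ = g * (u⁻¹ * (u * x) * u⁻¹) * g⁻¹ := by group
      _ = g * (u⁻¹ * (x * u) * u⁻¹) * g⁻¹ := by rw [hxu]
      _ = g * u⁻¹ * g⁻¹ * (g * x * g⁻¹) := by group
      _ = u * (g * x * g⁻¹) := by rw [hgu]
  obtain ⟨c, hc, hcW⟩ := hC.exists_conj_W (hC.W_isPGroup.map _) hTC
  set n := c * g with hn
  have hnW : ∀ x ∈ hC.base.W, n * x * n⁻¹ ∈ hC.base.W := fun x hx => by
    rw [hn, show c * g * x * (c * g)⁻¹ = c * (g * x * g⁻¹) * c⁻¹ by group]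
    exact hcW _ ⟨x, hx, rfl⟩
  have hnu : n * u * n⁻¹ = u⁻¹ := by
    rw [hn, show c * g * u * (c * g)⁻¹ = c * (g * u * g⁻¹) * c⁻¹ by group, h, ← conj_inv,
      mem_centralizer_singleton_iff.1 hc.1, mul_inv_cancel_right]
  have hnK : n ∈ K := mul_mem hc.2 hg
  have h3 : n * n * n * u * (n * n * n)⁻¹ = u⁻¹ := by
    rw [show n * n * n * u * (n * n * n)⁻¹ = n * (n * (n * u * n⁻¹) * n⁻¹) * n⁻¹ by group, hnu,
      ← conj_inv, hnu, inv_inv, hnu]
  obtain ⟨s, hs⟩ := hC.base.frame.exists_acts (hC.base.cube_mem hnK hnW)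
  have hpar := ((hC.base.mem_K_of_acts hs).1 (mul_mem (mul_mem hnK hnK) hnK)).2
  have hcalc : n * n * n * u = u⁻¹ * (n * n * n) := by rw [← h3]; group
  have hu' : Acts z e u⁻¹ (Sig.comp Sig.cyc Sig.cyc) := by
    rw [inv_eq_of_mul_eq_one_left hC.base.hu3]; exact hC.base.frame.acts_mul hC.base.hu hC.base.hu
  have hp := congrArg Prod.fst (hC.base.frame.acts_unique (hC.base.frame.acts_mul hs hC.base.hu)
    (hcalc ▸ hC.base.frame.acts_mul hu' hs))
  have key : ∀ π : Equiv.Perm (Fin 4), Equiv.Perm.sign π = 1 → π * Sig.cyc.1 ≠ Sig.cyc.1 * Sig.cyc.1 * π := by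
    decide +kernel
  refine key s.1 ?_ hp
  rcases Int.units_eq_one_or (Equiv.Perm.sign s.1) with h' | h'
  · exact h'
  · simp [Sig.par, h'] at hpar

/-- No element normalising `W` has cube `u`. -/
theorem no_root_normalizing {v : G} (hvK : v ∈ K) (hvW : ∀ x ∈ hC.base.W, v * x * v⁻¹ ∈ hC.base.W)
    (hW1 : ∀ x ∈ hC.base.W, x ≠ 1 → IsConj z x) (hv3 : v ^ 3 = u) : False := by
  haveI := hC.base.normal
  have hvu : v * u = u * v := by rw [← hv3]; group
  have hWsurj : ∀ w ∈ hC.base.W, ∃ w' ∈ hC.base.W, v * w' * v⁻¹ = w := by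
    intro w hw
    have h1 := hvW _ (hvW w hw)
    refine ⟨_, h1, ?_⟩
    rw [show v * (v * (v * w * v⁻¹) * v⁻¹) * v⁻¹ = v ^ 3 * w * (v ^ 3)⁻¹ by rw [pow_succ, pow_two]; group, hv3,
      hC.base.comm_W hC.base.hu.1 hC.base.u_mem hw, mul_inv_cancel_right]
  have hvS : ∀ s ∈ hC.base.S, v * s * v⁻¹ ∈ hC.base.S := by
    intro s hs
    obtain ⟨k, hk⟩ := hC.base.isPGroup_S ⟨s, hs⟩
    refine hC.base.mem_S_of_two (n := k) ?_ (Subgroup.Normal.conj_mem inferInstance _ (hC.base.S_le_K hs) v) ?_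
    · obtain ⟨w, hw, hwz⟩ := hWsurj z hC.base.z_mem_W
      rw [mem_centralizer_singleton_iff, ← hwz]
      have hsw := hC.base.comm_W (hC.base.S_le_H hs) (hC.base.S_le_K hs) hw
      calc v * s * v⁻¹ * (v * w * v⁻¹) = v * (s * w) * v⁻¹ := by group
        _ = v * (w * s) * v⁻¹ := by rw [hsw]
        _ = v * w * v⁻¹ * (v * s * v⁻¹) := by group
    · rw [conj_pow, show s ^ 2 ^ k = 1 by simpa using congrArg Subtype.val hk]; group
  have hA := hC.leg_A
  have hu_eq : ∀ x : G, v * (v * (v * x * v⁻¹) * v⁻¹) * v⁻¹ = u * x * u⁻¹ := fun x => by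
    rw [← hv3, pow_succ, pow_two]; group
  have hvA : ∀ a ∈ hC.A, v * a * v⁻¹ ∈ hC.A := by
    rcases hC.map_A (k := v) (fun y hy => hC.base.S_le_H (hvS y hy.2)) with h | h
    · intro a ha; rw [← h]; exact ⟨a, ha, rfl⟩
    · exfalso
      have hv2 : ∀ a ∈ hC.A, v * (v * a * v⁻¹) * v⁻¹ ∈ hC.A := by
        rcases hC.map_A (k := v * v) (fun y hy => by
          rw [show v * v * y * (v * v)⁻¹ = v * (v * y * v⁻¹) * v⁻¹ by group]
          exact hC.base.S_le_H (hvS _ (hvS y hy.2))) with h' | h'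
        · intro a ha
          rw [← h']; exact ⟨a, ha, by simp [mul_assoc]⟩
        · exfalso
          apply hC.A_ne_B
          refine eq_of_le_of_card_ge (fun a ha => ?_) (by rw [hC.leg_B.card, hA.card])
          have hb : v * a * v⁻¹ ∈ hC.B := h ▸ ⟨a, ha, rfl⟩
          have h2 : v * (v * a * v⁻¹) * v⁻¹ ∈ hC.B := h' ▸ ⟨a, ha, by simp [mul_assoc]⟩
          rw [← h] at h2
          obtain ⟨a', ha', he⟩ := h2
          have := mul_left_cancel (mul_right_cancel (show v * a' * v⁻¹ = v * (v * a * v⁻¹) * v⁻¹ from he))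
          rw [this] at ha'
          have h3 := hC.inf_AB ha' hb
          obtain ⟨w, hw, hwa⟩ := hWsurj _ h3
          rw [mul_left_cancel (mul_right_cancel hwa)] at hw
          exact hC.leg_B.W_le hw
      apply hC.A_ne_B
      refine eq_of_le_of_card_ge (fun a ha => ?_) (by rw [hC.leg_B.card, hA.card])
      have h3 : v * (v * (v * a * v⁻¹) * v⁻¹) * v⁻¹ ∈ hC.B := h ▸ ⟨_, hv2 a ha, rfl⟩
      have h3' : v * (v * (v * a * v⁻¹) * v⁻¹) * v⁻¹ ∈ hC.A := by rw [hu_eq]; exact hA.u_conj a ha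
      have h4 := hC.inf_AB h3' h3
      rw [hu_eq] at h4
      have h5 := hC.base.comm_W (inv_mem hC.base.hu.1) (inv_mem hC.base.u_mem) h4
      have : a = u * a * u⁻¹ := by
        calc a = u⁻¹ * (u * a * u⁻¹) * u := by group
          _ = u * a * u⁻¹ * u⁻¹ * u := by rw [h5]
          _ = u * a * u⁻¹ := by group
      exact hC.leg_B.W_le (this ▸ h4)
  -- the three cosets of `W` in `A`
  obtain ⟨hq, hqW⟩ := hC.q_props
  set x := u * p * u⁻¹ with hx
  have hrel : ∀ g : G, g * u = u * g → (∀ w ∈ hC.base.W, g * w * g⁻¹ ∈ hC.base.W) → g ^ 3 = u →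
      x⁻¹ * (g * x * g⁻¹) ∈ hC.base.W → False := by
    intro g hgu hgW hg3 h
    have h1 := hgW _ h
    have h2 := hgW _ h1
    apply hA.moves x hq hqW
    have := mul_mem (mul_mem h h1) h2
    convert this using 1
    rw [← hg3, pow_succ, pow_two]; group
  have huW' : ∀ w ∈ hC.base.W, u⁻¹ * w * (u⁻¹)⁻¹ = w := fun w hw => by
    rw [hC.base.comm_W (inv_mem hC.base.hu.1) (inv_mem hC.base.u_mem) hw, mul_inv_cancel_right]
  have hy := hvA x hq
  have hyW : v * x * v⁻¹ ∉ hC.base.W := fun h => by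
    obtain ⟨w, hw, hwx⟩ := hWsurj _ h
    exact hqW (mul_left_cancel (mul_right_cancel hwx) ▸ hw)
  have hcomm : Commute v u := hvu
  have hc1 : Commute u⁻¹ v := hcomm.inv_right.symm
  have hu3 : u ^ 3 = 1 := by rw [pow_succ, pow_two]; exact hC.base.hu3
  rcases hA.cover x hq hqW _ hy hyW with h | h | h
  · exact hrel v hvu hvW hv3 h
  · refine hrel (u⁻¹ * v) (((Commute.refl u).inv_left).mul_left hcomm).eq (fun w hw => ?_) ?_ ?_
    · rw [show u⁻¹ * v * w * (u⁻¹ * v)⁻¹ = u⁻¹ * (v * w * v⁻¹) * (u⁻¹)⁻¹ by group, huW' _ (hvW w hw)]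
      exact hvW w hw
    · rw [hc1.mul_pow, hv3, inv_pow, hu3, inv_one, one_mul]
    · rw [← huW' _ h] at h
      convert h using 1
      simp [mul_assoc]
  · refine hrel (u⁻¹ * u⁻¹ * v)
      ((((Commute.refl u).inv_left).mul_left ((Commute.refl u).inv_left)).mul_left hcomm).eq (fun w hw => ?_) ?_ ?_
    · rw [show u⁻¹ * u⁻¹ * v * w * (u⁻¹ * u⁻¹ * v)⁻¹ = u⁻¹ * (u⁻¹ * (v * w * v⁻¹) * (u⁻¹)⁻¹) * (u⁻¹)⁻¹ by
        simp [mul_assoc], huW' _ (hvW w hw), huW' _ (hvW w hw)]
      exact hvW w hw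
    · rw [(hc1.mul_left hc1).mul_pow, hv3, (Commute.refl u⁻¹).mul_pow, inv_pow, hu3, inv_one, one_mul, one_mul]
    · rw [← huW' _ h, ← huW' _ h] at h
      convert h using 1
      simp [mul_assoc]

include hns

theorem centW {x : G} (hx : x ∈ hC.base.W) (hx1 : x ≠ 1) :
    centralizer ({x} : Set G) ⊓ K = centralizer ({z} : Set G) ⊓ K :=
  hC.base.centK_eq hx (hC.W_conj hns hx hx1)

/-- Either all of `C(u)` normalises `W`, or it is of order 180. -/
theorem card_CU : ((∀ c ∈ hC.CU, ∀ x ∈ hC.base.W, c * x * c⁻¹ ∈ hC.base.W) ∧ Nat.card ↥hC.CU ≤ 36) ∨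
    (Nat.card ↥hC.CU = 180 ∧ ∀ v ∈ hC.CU, v ^ 3 = u →
      ∃ c ∈ hC.CU, ∀ x ∈ hC.base.W, (c * v * c⁻¹) * x * (c * v * c⁻¹)⁻¹ ∈ hC.base.W) := by
  classical
  by_cases hN : ∀ c ∈ hC.CU, ∀ x ∈ hC.base.W, c * x * c⁻¹ ∈ hC.base.W
  · left
    refine ⟨hN, ?_⟩
    have hker : ∀ a b : hC.CU, (a : G) * z * (a : G)⁻¹ = b * z * (b : G)⁻¹ →
        (a : G)⁻¹ * b ∈ hC.CU ⊓ centralizer ({z} : Set G) := by
      intro a b h
      refine ⟨hC.CU.mul_mem (hC.CU.inv_mem a.2) b.2, mem_centralizer_singleton_iff.2 ?_⟩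
      calc (a : G)⁻¹ * b * z = (a : G)⁻¹ * ((b : G) * z * (b : G)⁻¹) * b := by group
        _ = (a : G)⁻¹ * ((a : G) * z * (a : G)⁻¹) * b := by rw [h]
        _ = z * ((a : G)⁻¹ * b) := by group
    -- at most three images of `z`, at most twelve elements over each
    let T : Finset G := {z, hC.base.frame.θ Mo.om, hC.base.frame.θ Mo.om * z}
    let D : Finset G := (Finset.range 3 ×ˢ ({1, z, hC.base.frame.θ Mo.om, hC.base.frame.θ Mo.om * z} : Finset G)).image
      fun t => u ^ t.1 * t.2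
    haveI : Fintype hC.CU := Fintype.ofFinite _
    have hD : D.card ≤ 12 := by
      refine Finset.card_image_le.trans ?_
      rw [Finset.card_product, Finset.card_range]
      exact Nat.mul_le_mul_left 3 Finset.card_le_four
    have hT : T.card ≤ 3 := Finset.card_le_three
    have hmaps : ∀ c ∈ (Finset.univ : Finset hC.CU), (c : G) * z * (c : G)⁻¹ ∈ T := by
      intro c _
      rcases hC.base.mem_W.1 (hN c c.2 z hC.base.z_mem_W) with h | h | h | h
      · exact absurd (conj_eq_one_iff.1 h) hC.base.frame.z1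
      all_goals rw [h]; simp [T]
    have hfib : ∀ t ∈ T, (Finset.univ.filter fun c : hC.CU => (c : G) * z * (c : G)⁻¹ = t).card ≤ 12 := by
      intro t _
      rcases (Finset.univ.filter fun c : hC.CU => (c : G) * z * (c : G)⁻¹ = t).eq_empty_or_nonempty with h | ⟨a, ha⟩
      · simp [h]
      refine (Finset.card_le_card_of_injOn (fun c : hC.CU => (a : G)⁻¹ * c) (fun b hb => ?_) fun b _ c _ h => ?_).trans hD
      · rw [Finset.mem_filter] at ha
        rw [Finset.mem_coe, Finset.mem_filter] at hb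
        obtain ⟨h1, h2⟩ := hker a b (ha.2.trans hb.2.symm)
        obtain ⟨i, v, hv, hiv⟩ := hC.CU_inf_H h1 h2
        rw [Finset.mem_coe]
        show (a : G)⁻¹ * b ∈ D
        rw [hiv, Finset.mem_image]
        refine ⟨(i % 3, v), Finset.mem_product.2 ⟨Finset.mem_range.2 (Nat.mod_lt _ (by norm_num)), ?_⟩, ?_⟩
        · rcases hC.base.mem_W.1 hv with h | h | h | h <;> simp [h]
        · rw [← hC.base.orderOf_u, pow_mod_orderOf]
      · exact Subtype.ext (mul_left_cancel h)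
    have h := Finset.card_le_mul_card_image_of_maps_to hmaps 12 hfib
    rw [Finset.card_univ, ← Nat.card_eq_fintype_card] at h
    omega
  · right
    haveI hUn : ((zpowers u).subgroupOf hC.CU).Normal := ⟨fun n hn g => by
      rw [mem_subgroupOf] at hn ⊢
      obtain ⟨i, hi⟩ := mem_zpowers_iff.1 hn
      have hc : Commute (g : G) u := mem_centralizer_singleton_iff.1 g.2.1
      rw [Subgroup.coe_mul, Subgroup.coe_mul, Subgroup.coe_inv, ← hi, (hc.zpow_right i).eq, mul_inv_cancel_right]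
      exact ⟨i, rfl⟩⟩
    let π := QuotientGroup.mk' ((zpowers u).subgroupOf hC.CU)
    have hπ : Function.Surjective π := QuotientGroup.mk'_surjective _
    let Wc : Subgroup hC.CU := hC.base.W.subgroupOf hC.CU
    have hback : ∀ y : hC.CU, π y ∈ Wc.map π → ∃ i, ∃ v ∈ hC.base.W, (y : G) = u ^ i * v := by
      rintro y ⟨w, hw, hwy⟩
      have h1 := QuotientGroup.eq.1 hwy
      rw [mem_subgroupOf, Subgroup.coe_mul, Subgroup.coe_inv] at h1
      obtain ⟨i, hi⟩ := (isOfFinOrder_of_finite u).mem_powers_iff_mem_zpowers.2 h1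
      refine ⟨i, w, hw, ?_⟩
      have hcu : Commute (w : G) (u ^ i) :=
        (show Commute (w : G) u from (hC.base.comm_W hC.base.hu.1 hC.base.u_mem hw).symm).pow_right i
      rw [← hcu.eq, show u ^ i = (w : G)⁻¹ * y from hi, mul_inv_cancel_left]
    have hlift : ∀ t, orderOf t = 2 → ∃ x : hC.CU, π x = t ∧ (x : G) * x = 1 ∧ (x : G) ≠ 1 := by
      intro t ht
      obtain ⟨c, rfl⟩ := hπ t
      have h2 : π (c * c) = 1 := by rw [map_mul, ← pow_two, ← ht, pow_orderOf_eq_one]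
      rw [QuotientGroup.mk'_apply, QuotientGroup.eq_one_iff, mem_subgroupOf, Subgroup.coe_mul] at h2
      obtain ⟨i, hi⟩ := mem_zpowers_iff.1 h2
      refine ⟨c ^ 3, ?_, ?_, ?_⟩
      · rw [map_pow, pow_succ, ← ht, pow_orderOf_eq_one, one_mul]
      · rw [SubmonoidClass.coe_pow, ← pow_add, show 3 + 3 = 2 * 3 by norm_num, pow_mul, pow_two, ← hi,
          ← zpow_natCast, ← zpow_mul, mul_comm, zpow_mul, zpow_natCast,
          show u ^ 3 = 1 by rw [pow_succ, pow_two]; exact hC.base.hu3, one_zpow]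
      · intro h
        have h' : π (c ^ 3) = 1 := by
          rw [show c ^ 3 = 1 from Subtype.ext (by simpa using h), map_one]
        rw [map_pow, pow_succ, ← ht, pow_orderOf_eq_one, one_mul] at h'
        rw [h', orderOf_one] at ht
        omega
    have hconjW : ∀ x : hC.CU, (x : G) * x = 1 → (x : G) ≠ 1 → ∃ c ∈ hC.CU, c * (x : G) * c⁻¹ ∈ hC.base.W := by
      intro x hx hx1
      have hp : IsPGroup 2 ↥(zpowers (x : G)) := IsPGroup.of_card (n := 1) (by
        rw [Nat.card_zpowers, pow_one]; exact orderOf_eq_prime (by rw [pow_two]; exact hx) hx1)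
      obtain ⟨c, hc, h⟩ := hC.exists_conj_W hp (zpowers_le.2 x.2)
      exact ⟨c, hc, h _ (mem_zpowers _)⟩
    -- centralisers of involutions in the quotient
    have hcen : ∀ t, orderOf t = 2 → ∃ c : hC.CU, ∀ s ∈ centralizer ({t} : Set (hC.CU ⧸ (zpowers u).subgroupOf hC.CU)),
        ∃ w ∈ Wc, s = π (c⁻¹ * w * c) := by
      intro t ht
      obtain ⟨x, hxt, hxx, hx1⟩ := hlift t ht
      obtain ⟨c, hc, hcW⟩ := hconjW x hxx hx1
      refine ⟨⟨c, hc⟩, fun s hs => ?_⟩
      obtain ⟨y, rfl⟩ := hπ s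
      rw [mem_centralizer_singleton_iff, ← hxt, ← map_mul, ← map_mul] at hs
      have h1 := QuotientGroup.eq.1 hs
      rw [mem_subgroupOf] at h1
      simp only [Subgroup.coe_mul, Subgroup.coe_inv] at h1
      obtain ⟨i, hi⟩ := (isOfFinOrder_of_finite u).mem_powers_iff_mem_zpowers.2 h1
      have hi' : (y : G)⁻¹ * x * y = x * u ^ i := by
        rw [show u ^ i = ((y : G) * x)⁻¹ * ((x : G) * y) from hi, mul_inv_rev,
          inv_eq_of_mul_eq_one_left hxx]
        calc (y : G)⁻¹ * x * y = 1 * ((y : G)⁻¹ * x * y) := (one_mul _).symm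
          _ = (x : G) * x * ((y : G)⁻¹ * x * y) := by rw [hxx]
          _ = _ := by group
      have hcu : Commute (x : G) (u ^ i) := (show Commute (x : G) u from mem_centralizer_singleton_iff.1 x.2.1).pow_right i
      have h2 : u ^ i = 1 := by
        have : (x : G) * u ^ i * ((x : G) * u ^ i) = 1 := by
          rw [← hi', show (y : G)⁻¹ * x * y * ((y : G)⁻¹ * x * y) = (y : G)⁻¹ * ((x : G) * x) * y by group, hxx]
          group
        rw [show (x : G) * u ^ i * ((x : G) * u ^ i) = x * (u ^ i * x) * u ^ i by group, ← hcu.eq,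
          show (x : G) * ((x : G) * u ^ i) * u ^ i = (x : G) * x * (u ^ i * u ^ i) by group, hxx, one_mul, ← pow_add]
          at this
        have hd := orderOf_dvd_of_pow_eq_one this
        rw [hC.base.orderOf_u] at hd
        exact orderOf_dvd_iff_pow_eq_one.1 (by rw [hC.base.orderOf_u]; omega)
      rw [h2, mul_one] at hi'
      have hxy : (y : G) * x = x * y := by
        calc (y : G) * x = y * ((y : G)⁻¹ * x * y) := by rw [hi']
          _ = x * y := by group
      have hy' : c * y * c⁻¹ ∈ centralizer ({c * x * c⁻¹} : Set G) ⊓ K := by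
        refine ⟨mem_centralizer_singleton_iff.2 ?_, K.mul_mem (K.mul_mem hc.2 y.2.2) (K.inv_mem hc.2)⟩
        calc c * y * c⁻¹ * (c * x * c⁻¹) = c * ((y : G) * x) * c⁻¹ := by group
          _ = c * ((x : G) * y) * c⁻¹ := by rw [hxy]
          _ = _ := by group
      rw [hC.centW hns hcW (fun h => hx1 (conj_eq_one_iff.1 h))] at hy'
      obtain ⟨j, v, hv, hjv⟩ := hC.CU_inf_H (mul_mem (mul_mem hc y.2) (inv_mem hc)) hy'.1
      refine ⟨⟨v, hC.W_le_CU hv⟩, mem_subgroupOf.2 hv, ?_⟩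
      show π y = _
      rw [QuotientGroup.mk'_apply, QuotientGroup.mk'_apply, QuotientGroup.eq, mem_subgroupOf]
      simp only [Subgroup.coe_mul, Subgroup.coe_inv]
      refine ⟨-(j : ℤ), ?_⟩
      have hcc : Commute c (u ^ j) := (show Commute c u from mem_centralizer_singleton_iff.1 hc.1).pow_right j
      show u ^ (-(j : ℤ)) = (y : G)⁻¹ * (c⁻¹ * v * c)
      rw [zpow_neg, zpow_natCast]
      have hy : (y : G) = c⁻¹ * v * c * u ^ j := by
        have hvu : Commute v (u ^ j) :=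
          (show Commute v u from (hC.base.comm_W hC.base.hu.1 hC.base.u_mem hv).symm).pow_right j
        rw [show (y : G) = c⁻¹ * (c * y * c⁻¹) * c by group, hjv, ← hvu.eq]
        rw [show c⁻¹ * (v * u ^ j) * c = c⁻¹ * v * (u ^ j * c) by group, ← hcc.eq]
        group
      rw [hy]; group
    have hWsq : ∀ s ∈ Wc.map π, s * s = 1 := by
      rintro _ ⟨w, hw, rfl⟩
      rw [← map_mul, show w * w = 1 from Subtype.ext (hC.base.W_inv hw), map_one]
    -- the image of `W` is a Sylow subgroup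
    haveI : Fact (Nat.Prime 2) := ⟨Nat.prime_two⟩
    have hWcard : Nat.card ↥(Wc.map π) = 4 := by
      rw [← hC.card_W, ← Nat.card_congr (subgroupOfEquivOfLe hC.W_le_CU).toEquiv]
      refine (Nat.card_eq_of_bijective (fun w => (⟨π w.1, w.1, w.2, rfl⟩ : Wc.map π)) ⟨fun a b h => ?_, ?_⟩).symm
      · have h1 : π ((a.1)⁻¹ * b.1) = 1 := by
          rw [map_mul, map_inv, show π a.1 = π b.1 from congrArg Subtype.val h, inv_mul_cancel]
        rw [QuotientGroup.mk'_apply, QuotientGroup.eq_one_iff, mem_subgroupOf] at h1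
        have hW : ((a.1⁻¹ * b.1 : hC.CU) : G) ∈ hC.base.W := by
          simp only [Subgroup.coe_mul, Subgroup.coe_inv]
          exact mul_mem (inv_mem a.2) b.2
        have h3 := orderOf_dvd_natCard _ h1
        rw [Nat.card_zpowers, hC.base.orderOf_u] at h3
        have h2 := orderOf_dvd_of_pow_eq_one (by rw [pow_two]; exact hC.base.W_inv hW : ((a.1⁻¹ * b.1 : hC.CU) : G) ^ 2 = 1)
        have h4 : orderOf ((a.1⁻¹ * b.1 : hC.CU) : G) = 1 := Nat.eq_one_of_dvd_coprimes (by norm_num) h3 h2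
        rw [orderOf_eq_one_iff] at h4
        refine Subtype.ext (inv_mul_eq_one.1 (Subtype.ext ?_))
        simpa using h4
      · rintro ⟨_, w, hw, rfl⟩
        exact ⟨⟨w, hw⟩, rfl⟩
    obtain ⟨P, hP⟩ := (IsPGroup.of_card (p := 2) (n := 2) (by rw [hWcard]; norm_num) :
      IsPGroup 2 ↥(Wc.map π)).exists_le_sylow
    have hPW : (P : Subgroup (hC.CU ⧸ (zpowers u).subgroupOf hC.CU)) = Wc.map π := by
      refine le_antisymm (fun s hs => ?_) hP
      by_contra hsW
      -- a centralising involution of `W`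
      obtain ⟨n, hnP, hnW, hn⟩ := exists_normalizing P.2 hP (fun h => hsW (h ▸ hs))
      obtain ⟨y, rfl⟩ := hπ n
      have hyW : ∀ x ∈ hC.base.W, (y : G) * x * (y : G)⁻¹ ∈ hC.base.W := by
        intro x hx
        obtain ⟨i, v, hv, hiv⟩ := hback (y * ⟨x, hC.W_le_CU hx⟩ * y⁻¹) (by
          rw [map_mul, map_mul, map_inv]
          exact (hn _).1 ⟨⟨x, hC.W_le_CU hx⟩, mem_subgroupOf.2 hx, rfl⟩)
        simp only [Subgroup.coe_mul, Subgroup.coe_inv] at hiv
        rw [hiv]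
        refine hC.mem_W_of_sq hv ?_
        rw [← hiv, show (y : G) * x * (y : G)⁻¹ * ((y : G) * x * (y : G)⁻¹) = y * (x * x) * (y : G)⁻¹ by group,
          hC.base.W_inv hx]
        group
      obtain ⟨k, hk⟩ := P.2 ⟨π y, hnP⟩
      have hk' : π (y ^ 2 ^ k) = 1 := by rw [map_pow]; simpa using congrArg Subtype.val hk
      rw [QuotientGroup.mk'_apply, QuotientGroup.eq_one_iff, mem_subgroupOf] at hk'
      have hy3 : ((y : G) ^ 3) ^ 2 ^ k = 1 := by
        obtain ⟨i, hi⟩ := mem_zpowers_iff.1 hk'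
        rw [← pow_mul, mul_comm, pow_mul, show (y : G) ^ 2 ^ k = u ^ i by rw [hi]; rfl, ← zpow_natCast, ← zpow_mul,
          mul_comm, zpow_mul, zpow_natCast, show u ^ 3 = 1 by rw [pow_succ, pow_two]; exact hC.base.hu3, one_zpow]
      have hy3W : ∀ x ∈ hC.base.W, (y : G) ^ 3 * x * ((y : G) ^ 3)⁻¹ ∈ hC.base.W := fun x hx => by
        have := hyW _ (hyW _ (hyW x hx))
        convert this using 1
        rw [pow_succ, pow_two]; group
      have h3 := hC.S_cent_u (hC.base.mem_S_of_normalizes (pow_mem y.2.2 3) hy3W hy3)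
        ((show Commute u (y : G) from (mem_centralizer_singleton_iff.1 y.2.1).symm).pow_right 3).eq
      apply hnW
      have h4 : π y ^ 3 ∈ Wc.map π := by rw [← map_pow]; exact ⟨_, mem_subgroupOf.2 (by simpa using h3), rfl⟩
      have h5 : π y ^ 2 ^ k = 1 := by simpa using congrArg Subtype.val hk
      have hb := Nat.gcd_eq_gcd_ab 3 (2 ^ k)
      rw [(Nat.Coprime.pow_right k (by norm_num : Nat.Coprime 3 2)).gcd_eq_one] at hb
      have : π y = (π y ^ 3) ^ Nat.gcdA 3 (2 ^ k) * (π y ^ 2 ^ k) ^ Nat.gcdB 3 (2 ^ k) := by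
        rw [← zpow_natCast (π y) 3, ← zpow_natCast (π y) (2 ^ k), ← zpow_mul, ← zpow_mul, ← zpow_add, ← hb,
          Nat.cast_one, zpow_one]
      rw [this, h5, one_zpow, mul_one]
      exact zpow_mem h4 _
    have hEC : TwoGroups.ElemCent P := by
      refine ⟨fun hc => ?_, fun hn => ?_, fun t ht => ?_⟩
      · obtain ⟨g, hg⟩ := hc.exists_generator
        have h1 : Nat.card (P : Subgroup (hC.CU ⧸ (zpowers u).subgroupOf hC.CU)) ≤ 2 := by
          rw [← card_top (G := (P : Subgroup (hC.CU ⧸ (zpowers u).subgroupOf hC.CU))), ← show zpowers g = ⊤ from eq_top_iff.2 fun b _ => hg b,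
            Nat.card_zpowers]
          refine Nat.le_of_dvd (by norm_num) (orderOf_dvd_of_pow_eq_one (Subtype.ext ?_))
          rw [SubmonoidClass.coe_pow, pow_two]
          exact hWsq _ (hPW ▸ g.2)
        rw [hPW, hWcard] at h1
        omega
      · apply hN
        intro c hc x hx
        have h := hn.conj_mem (π ⟨x, hC.W_le_CU hx⟩) (by rw [hPW]; exact ⟨_, mem_subgroupOf.2 hx, rfl⟩) (π ⟨c, hc⟩)
        rw [hPW, ← map_inv, ← map_mul, ← map_mul] at h
        obtain ⟨i, v, hv, hiv⟩ := hback _ h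
        simp only [Subgroup.coe_mul, Subgroup.coe_inv] at hiv
        rw [hiv]
        refine hC.mem_W_of_sq hv ?_
        rw [← hiv, show c * x * c⁻¹ * (c * x * c⁻¹) = c * (x * x) * c⁻¹ by group, hC.base.W_inv hx]
        group
      · obtain ⟨c, hc⟩ := hcen t ht
        constructor
        · refine ⟨⟨fun a b => Subtype.ext ?_⟩⟩
          obtain ⟨w, hw, ha⟩ := hc a a.2
          obtain ⟨w', hw', hb⟩ := hc b b.2
          rw [Subgroup.coe_mul, Subgroup.coe_mul, ha, hb, ← map_mul, ← map_mul]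
          congr 1
          have := hC.W_comm (mem_subgroupOf.1 hw) (mem_subgroupOf.1 hw')
          calc c⁻¹ * w * c * (c⁻¹ * w' * c) = c⁻¹ * (w * w') * c := by group
            _ = c⁻¹ * (w' * w) * c := by rw [show w * w' = w' * w from Subtype.ext this]
            _ = _ := by group
        · intro s hs
          obtain ⟨w, hw, rfl⟩ := hc s hs
          rw [← map_pow, pow_two, show c⁻¹ * w * c * (c⁻¹ * w * c) = c⁻¹ * (w * w) * c by group,
            show w * w = 1 from Subtype.ext (hC.base.W_inv hw), mul_one, inv_mul_cancel, map_one]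
    have hP4 : Nat.card (P : Subgroup (hC.CU ⧸ (zpowers u).subgroupOf hC.CU)) = 4 := by rw [hPW, hWcard]
    have hN12 : Nat.card ↥(normalizer ((P : Subgroup (hC.CU ⧸ (zpowers u).subgroupOf hC.CU)) : Set (hC.CU ⧸ (zpowers u).subgroupOf hC.CU))) = 12 := by
      rw [hEC.card_normalizer, hP4]
    have hX : Nat.card (hC.CU ⧸ (zpowers u).subgroupOf hC.CU) = 60 := by
      rw [← (normalizer ((P : Subgroup (hC.CU ⧸ (zpowers u).subgroupOf hC.CU)) : Set (hC.CU ⧸ (zpowers u).subgroupOf hC.CU))).index_mul_card,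
        Subgroup.index_eq_card, hEC.card_points, hP4, hN12]
    have hU : Nat.card ↥((zpowers u).subgroupOf hC.CU) = 3 := by
      rw [Nat.card_congr (subgroupOfEquivOfLe (zpowers_le.2 hC.u_mem_CU)).toEquiv, Nat.card_zpowers,
        hC.base.orderOf_u]
    refine ⟨by rw [Subgroup.card_eq_card_quotient_mul_card_subgroup ((zpowers u).subgroupOf hC.CU), hX, hU], ?_⟩
    intro v hv hv3
    haveI : Fact (Nat.Prime 3) := ⟨Nat.prime_three⟩
    set t := π ⟨v, hv⟩ with htdef
    have ht3 : t ^ 3 = 1 := by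
      rw [htdef, ← map_pow, QuotientGroup.mk'_apply, QuotientGroup.eq_one_iff, mem_subgroupOf,
        SubmonoidClass.coe_pow, hv3]
      exact mem_zpowers u
    have ht1 : t ≠ 1 := by
      intro h
      rw [htdef, QuotientGroup.mk'_apply, QuotientGroup.eq_one_iff, mem_subgroupOf] at h
      obtain ⟨i, hi⟩ := mem_zpowers_iff.1 h
      have hu1 : u ^ (i * 3) = u := by rw [zpow_mul, show u ^ i = v from hi, ← hv3]; norm_cast
      have h0 : u ^ (i * 3 - 1) = 1 := by rw [zpow_sub, zpow_one, hu1, mul_inv_cancel]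
      rw [← orderOf_dvd_iff_zpow_eq_one, hC.base.orderOf_u] at h0
      omega
    have hot : orderOf t = 3 := orderOf_eq_prime ht3 ht1
    have hd : 3 ∣ Nat.card ↥(normalizer ((P : Subgroup (hC.CU ⧸ (zpowers u).subgroupOf hC.CU)) : Set (hC.CU ⧸ (zpowers u).subgroupOf hC.CU))) := by
      rw [hN12]; norm_num
    obtain ⟨d, hd'⟩ := exists_prime_orderOf_dvd_card' 3 hd
    have hsyl : ∀ g : hC.CU ⧸ (zpowers u).subgroupOf hC.CU, orderOf g = 3 →
        ∃ Q : Sylow 3 (hC.CU ⧸ (zpowers u).subgroupOf hC.CU), (Q : Subgroup (hC.CU ⧸ (zpowers u).subgroupOf hC.CU)) = zpowers g := by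
      intro g hg
      obtain ⟨Q, hQ⟩ := (IsPGroup.of_card (p := 3) (n := 1) (by rw [Nat.card_zpowers, hg, pow_one]) :
        IsPGroup 3 ↥(zpowers g)).exists_le_sylow
      refine ⟨Q, (eq_of_le_of_card_ge hQ ?_).symm⟩
      rw [Nat.card_zpowers, hg]
      have h := card_subgroup_dvd_card (Q : Subgroup (hC.CU ⧸ (zpowers u).subgroupOf hC.CU))
      rw [hX] at h
      obtain ⟨j, hj⟩ := IsPGroup.iff_card.1 Q.2
      rw [hj] at h ⊢
      rcases j with _ | _ | j
      · norm_num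
      · norm_num
      · exfalso
        have : (3 : ℕ) ^ 2 ∣ 60 := (pow_dvd_pow 3 (by omega)).trans h
        norm_num at this
    obtain ⟨Q₁, hQ₁⟩ := hsyl t hot
    obtain ⟨Q₂, hQ₂⟩ := hsyl (d : hC.CU ⧸ (zpowers u).subgroupOf hC.CU) (by rw [orderOf_coe, hd'])
    obtain ⟨γ, hγ⟩ := MulAction.exists_smul_eq (hC.CU ⧸ (zpowers u).subgroupOf hC.CU) Q₁ Q₂
    obtain ⟨c, rfl⟩ := hπ γ
    refine ⟨c, c.2, fun x hx => ?_⟩
    have hmem : π c * t * (π c)⁻¹ ∈ normalizer ((P : Subgroup (hC.CU ⧸ (zpowers u).subgroupOf hC.CU)) : Set (hC.CU ⧸ (zpowers u).subgroupOf hC.CU)) := by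
      have h1 : MulAut.conj (π c) t ∈ MulAut.conj (π c) • (Q₁ : Subgroup (hC.CU ⧸ (zpowers u).subgroupOf hC.CU)) :=
        Subgroup.smul_mem_pointwise_smul _ _ _ (by rw [hQ₁]; exact mem_zpowers t)
      rw [show MulAut.conj (π c) • (Q₁ : Subgroup (hC.CU ⧸ (zpowers u).subgroupOf hC.CU)) = ((π c • Q₁ : Sylow 3 (hC.CU ⧸ (zpowers u).subgroupOf hC.CU)) : Subgroup (hC.CU ⧸ (zpowers u).subgroupOf hC.CU)) from rfl, hγ, hQ₂] at h1
      exact (zpowers_le.2 d.2) h1
    rw [htdef, ← map_inv, ← map_mul, ← map_mul] at hmem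
    set y : hC.CU := c * ⟨v, hv⟩ * c⁻¹ with hy
    obtain ⟨i, v', hv', hiv⟩ := hback (y * ⟨x, hC.W_le_CU hx⟩ * y⁻¹) (by
      rw [map_mul, map_mul, map_inv, ← hPW]
      exact (mem_normalizer_iff.1 hmem _).1 (by rw [hPW]; exact ⟨_, mem_subgroupOf.2 hx, rfl⟩))
    have hyv : (y : G) = (c : G) * v * (c : G)⁻¹ := by rw [hy]; simp
    simp only [Subgroup.coe_mul, Subgroup.coe_inv, hyv] at hiv
    rw [hiv]
    refine hC.mem_W_of_sq hv' ?_
    rw [← hiv]
    rw [show (c : G) * v * (c : G)⁻¹ * x * ((c : G) * v * (c : G)⁻¹)⁻¹ * ((c : G) * v * (c : G)⁻¹ * x * ((c : G) * v * (c : G)⁻¹)⁻¹)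
      = (c : G) * v * (c : G)⁻¹ * (x * x) * ((c : G) * v * (c : G)⁻¹)⁻¹ by group, hC.base.W_inv hx]
    group

/-- A normal subgroup of `K` missing `u` and containing all its elements of order prime to 3. -/
theorem exists_not_u : ∃ N : Subgroup ↥K, N.Normal ∧ (⟨u, hC.base.u_mem⟩ : ↥K) ∉ N ∧
    ∀ g : ↥K, Nat.Coprime (orderOf g) 3 → g ∈ N := by
  have hcard : Nat.card ↥(centralizer ({(⟨u, hC.base.u_mem⟩ : ↥K)} : Set ↥K)) = Nat.card ↥hC.CU := by
    refine Nat.card_congr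
      { toFun := fun g => ⟨(g.1 : G), mem_centralizer_singleton_iff.2 (congrArg Subtype.val (mem_centralizer_singleton_iff.1 g.2)), g.1.2⟩
        invFun := fun g => ⟨⟨g.1, g.2.2⟩, mem_centralizer_singleton_iff.2 (Subtype.ext (mem_centralizer_singleton_iff.1 g.2.1))⟩
        left_inv := fun g => rfl
        right_inv := fun g => rfl }
  refine ThreeTransfer.exists_normal_not_mem (by rw [← orderOf_coe]; exact hC.base.orderOf_u)
    (fun g h => hC.not_real g.2 (by simpa using congrArg Subtype.val h)) ?_ ?_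
  · rw [hcard]
    intro h27
    rcases hC.card_CU hns with ⟨hN, h36⟩ | ⟨h180, -⟩
    · have h3 : 27 * 4 ∣ Nat.card ↥hC.CU := Nat.Coprime.mul_dvd_of_dvd_of_dvd (by norm_num) h27
        (hC.card_W ▸ card_dvd_of_le hC.W_le_CU)
      have := Nat.le_of_dvd Nat.card_pos h3
      omega
    · rw [h180] at h27; norm_num at h27
  · intro v h
    have hv3 : (v : G) ^ 3 = u := by simpa using congrArg Subtype.val h
    have hvC : (v : G) ∈ hC.CU := ⟨mem_centralizer_singleton_iff.2 (by rw [← hv3]; group), v.2⟩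
    have hW1 := fun x (hx : x ∈ hC.base.W) hx1 => hC.W_conj hns hx hx1
    rcases hC.card_CU hns with ⟨hN, -⟩ | ⟨-, hroot⟩
    · exact hC.no_root_normalizing v.2 (hN v hvC) hW1 hv3
    · obtain ⟨c, hc, hcv⟩ := hroot v hvC hv3
      refine hC.no_root_normalizing (mul_mem (mul_mem hc.2 v.2) (inv_mem hc.2)) hcv hW1 ?_
      rw [conj_pow, hv3, mem_centralizer_singleton_iff.1 hc.1, mul_inv_cancel_right]

end Base0

end CfsgLib.Recog.AutLThreeFour
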