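import Cfsg.Agent.Lib.Recog.AutLThreeFour.Legs
import Mathlib.GroupTheory.GroupAction.Quotient
import Mathlib.GroupTheory.Perm.Cycle.Type

/-!
Owner: helper28. The conjugates of `z` in `S₀`.
-/

set_option autoImplicit false
set_option linter.all false

namespace CfsgLib.Recog.AutLThreeFour

open Subgroup
open scoped Pointwise

theorem Pt.A_normal : ∀ g : Pt, Pt.Ev g → ∀ a : Pt, Pt.IsA a →
    Pt.IsA (Pt.mul (Pt.mul g a) (Pt.mul (Pt.mul g g) g)) ∧
      Pt.mul g (Pt.mul (Pt.mul g g) g) = Pt.one := by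
  decide +kernel

variable {G : Type*} [Group G] [Finite G] {z : G} {e : Fin 4 → G} {K : Subgroup G} {p u : G}

namespace Base0

variable (hC : Base0 z e K p u)
include hC

theorem hW : ∀ n : G, (∀ x ∈ hC.base.S, n * x * n⁻¹ ∈ hC.base.S) → ∀ x ∈ hC.base.W, n * x * n⁻¹ ∈ hC.base.W :=
  fun _ hn _ hx => hC.normalizes_W hn hx

theorem S_conj_A {g x : G} (hg : g ∈ hC.base.S) (hx : x ∈ hC.A) : g * x * g⁻¹ ∈ hC.A := by
  obtain ⟨s, hs, rfl⟩ := hC.base.exists_Φ hg
  obtain ⟨a, ha, rfl⟩ := hC.exists_A hx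
  obtain ⟨h1, h2⟩ := Pt.A_normal s hs a ha
  have hinv : (hC.base.Φ s)⁻¹ = hC.base.Φ (Pt.mul (Pt.mul s s) s) :=
    inv_eq_of_mul_eq_one_right (by rw [hC.Φ_mul, h2, hC.Φ_one])
  rw [hinv, hC.Φ_mul, hC.Φ_mul]
  exact (hC.mem_A h1.1).2 h1

theorem S_conj_B {g x : G} (hg : g ∈ hC.base.S) (hx : x ∈ hC.B) : g * x * g⁻¹ ∈ hC.B := by
  rw [hC.e0_B]
  have h := hC.S_conj_A (hC.e0_S hg) (hC.e0_B.1 hx)
  convert h using 1
  group

theorem H_conj_A {g x : G} (hg : g ∈ centralizer ({z} : Set G)) (hgK : g ∈ K) (hx : x ∈ hC.A) :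
    g * x * g⁻¹ ∈ hC.A := by
  have hu := hC.leg_A.u_conj
  rcases hC.base.exists_pow_u hg hgK with h | h | h
  · exact hC.S_conj_A h hx
  · have h' := hu _ (hu _ (hC.S_conj_A h hx))
    have e' : u * (u * (u * g * x * (u * g)⁻¹) * u⁻¹) * u⁻¹ = g * x * g⁻¹ := by
      calc u * (u * (u * g * x * (u * g)⁻¹) * u⁻¹) * u⁻¹ = (u * u * u) * (g * x * g⁻¹) * (u * u * u)⁻¹ := by group
        _ = g * x * g⁻¹ := by rw [hC.base.hu3]; group
    rwa [e'] at h'
  · have h' := hu _ (hC.S_conj_A h hx)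
    have e' : u * (u * u * g * x * (u * u * g)⁻¹) * u⁻¹ = g * x * g⁻¹ := by
      calc u * (u * u * g * x * (u * u * g)⁻¹) * u⁻¹ = (u * u * u) * (g * x * g⁻¹) * (u * u * u)⁻¹ := by group
        _ = g * x * g⁻¹ := by rw [hC.base.hu3]; group
    rwa [e'] at h'

theorem A_ne_B : hC.A ≠ hC.B := by
  intro h
  obtain ⟨a, ha, b, hb, hab⟩ := hC.noncomm
  exact hab (hC.leg_A.comm a ha b (h ▸ hb))

/-- Conjugates of `A` inside `C_K(z)` are `A` or `B`. -/
theorem map_A {k : G} (hk : ∀ y ∈ hC.A, k * y * k⁻¹ ∈ centralizer ({z} : Set G)) :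
    hC.A.map (MulAut.conj k).toMonoidHom = hC.A ∨ hC.A.map (MulAut.conj k).toMonoidHom = hC.B := by
  haveI := hC.base.normal
  refine hC.eq_A_or_B ?_ ?_ ?_ ?_
  · rintro _ ⟨y, hy, rfl⟩
    refine hC.base.mem_S_of_two (n := 1) (hk y hy) (Subgroup.Normal.conj_mem inferInstance _ (hC.base.S_le_K hy.2) k) ?_
    show (MulAut.conj k y) ^ 2 ^ 1 = 1
    rw [pow_one, pow_two, ← map_mul, hC.leg_A.sq y hy, map_one]
  · rw [card_map_of_injective (f := (MulAut.conj k).toMonoidHom) (MulAut.conj k).injective, hC.leg_A.card]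
  · rintro _ ⟨y, hy, rfl⟩
    rw [← map_mul, hC.leg_A.sq y hy, map_one]
  · rintro _ ⟨y, hy, rfl⟩ _ ⟨y', hy', rfl⟩
    rw [← map_mul, hC.leg_A.comm y hy y' hy', map_mul]

/-- The normaliser of `A` in `K`. -/
noncomputable def NA (hC : Base0 z e K p u) : Subgroup G := normalizer (hC.A : Set G) ⊓ K

theorem mem_NA {n : G} (hn : n ∈ K) (h : ∀ y ∈ hC.A, n * y * n⁻¹ ∈ hC.A) : n ∈ hC.NA := by
  refine ⟨mem_normalizer_iff.2 fun x => ⟨h x, fun hx => ?_⟩, hn⟩
  let f : hC.A → hC.A := fun y => ⟨n * y * n⁻¹, h _ y.2⟩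
  have hf : Function.Injective f := fun a b hab =>
    Subtype.ext (mul_left_cancel (mul_right_cancel (congrArg Subtype.val hab)))
  obtain ⟨y, hy⟩ := Finite.injective_iff_surjective.1 hf ⟨_, hx⟩
  have h' : n * (y : G) * n⁻¹ = n * x * n⁻¹ := congrArg Subtype.val hy
  rw [← mul_left_cancel (mul_right_cancel h')]
  exact y.2

theorem H_le_NA : centralizer ({z} : Set G) ⊓ K ≤ hC.NA := fun _ hg =>
  hC.mem_NA hg.2 fun _ hy => hC.H_conj_A hg.1 hg.2 hy

theorem S_le_NA : hC.base.S ≤ hC.NA := fun _ hg => hC.H_le_NA ⟨hC.base.S_le_H hg, hC.base.S_le_K hg⟩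

/-- A conjugate of `z` in `A ∖ W` is conjugate to `z` in the normaliser of `A`. -/
theorem exists_mem_NA {x : G} (hx : x ∈ hC.A) (hc : IsConj z x) : ∃ n ∈ hC.NA, n * z * n⁻¹ = x := by
  haveI := hC.base.normal
  obtain ⟨k, hk, rfl⟩ := hC.base.exists_conj_K hc
  have hcz : ∀ y ∈ hC.A, k⁻¹ * y * (k⁻¹)⁻¹ ∈ centralizer ({z} : Set G) := by
    intro y hy
    have h := hC.leg_A.comm y hy _ hx
    rw [inv_inv, mem_centralizer_singleton_iff]
    calc k⁻¹ * y * k * z = k⁻¹ * (y * (k * z * k⁻¹)) * k := by group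
      _ = k⁻¹ * (k * z * k⁻¹ * y) * k := by rw [h]
      _ = z * (k⁻¹ * y * k) := by group
  rcases hC.map_A hcz with h | h
  · refine ⟨k, ?_, rfl⟩
    have : k⁻¹ ∈ hC.NA := hC.mem_NA (inv_mem hk) fun y hy => by
      have := Subgroup.mem_map_of_mem (MulAut.conj k⁻¹).toMonoidHom hy
      rw [h] at this; exact this
    simpa using inv_mem this
  · exfalso
    set T := hC.base.S.map (MulAut.conj k).toMonoidHom with hT
    have hTN : T ≤ hC.NA := by
      rintro _ ⟨s, hs, rfl⟩
      refine hC.mem_NA (Subgroup.Normal.conj_mem inferInstance _ (hC.base.S_le_K hs) k) fun y hy => ?_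
      have hy' : k⁻¹ * y * (k⁻¹)⁻¹ ∈ hC.B := h ▸ Subgroup.mem_map_of_mem (MulAut.conj k⁻¹).toMonoidHom hy
      have h2 := hC.S_conj_B hs hy'
      rw [← h] at h2
      obtain ⟨a, ha, hae⟩ := h2
      have : MulAut.conj k s * y * (MulAut.conj k s)⁻¹ = a := by
        apply (MulAut.conj k⁻¹).injective
        rw [show MulAut.conj k⁻¹ a = _ from hae]
        simp only [MulAut.conj_apply]
        group
      show MulAut.conj k s * y * (MulAut.conj k s)⁻¹ ∈ hC.A
      rw [this]; exact ha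
    obtain ⟨c, hc', hcc⟩ := hC.base.conj_in hC.hW (X := hC.NA) inf_le_right hTN hC.S_le_NA
      (hC.base.isPGroup_S.map _) hC.base.isPGroup_S
      (by rw [hT, card_map_of_injective (f := (MulAut.conj k).toMonoidHom) (MulAut.conj k).injective, hC.base.card_S])
      hC.base.card_S
    set n := c * k with hn
    have hnS : ∀ s ∈ hC.base.S, n * s * n⁻¹ ∈ hC.base.S := fun s hs => by
      rw [hn, show c * k * s * (c * k)⁻¹ = c * (k * s * k⁻¹) * c⁻¹ by group]
      exact (hcc _).1 ⟨s, hs, rfl⟩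
    have hnK : n ∈ K := mul_mem hc'.2 hk
    have hnW := hC.hW n hnS
    -- `n` interchanges the two
    have hBA : ∀ b ∈ hC.B, n * b * n⁻¹ ∈ hC.A := by
      intro b hb
      rw [← h] at hb
      obtain ⟨a, ha, rfl⟩ := hb
      rw [hn]
      simp only [MulEquiv.coe_toMonoidHom, MulAut.conj_apply]
      rw [show c * k * (k⁻¹ * a * (k⁻¹)⁻¹) * (c * k)⁻¹ = c * a * c⁻¹ by group]
      exact (mem_normalizer_iff.1 hc'.1 a).1 ha
    have hnA : ∀ a ∈ hC.A, n * a * n⁻¹ ∈ hC.B := by
      have hT' : hC.A.map (MulAut.conj n).toMonoidHom = hC.A ∨ hC.A.map (MulAut.conj n).toMonoidHom = hC.B :=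
        hC.map_A fun y hy => hC.base.S_le_H (hnS y hy.2)
      rcases hT' with h' | h'
      · exfalso
        apply hC.A_ne_B
        refine (eq_of_le_of_card_ge (fun b hb => ?_) (by rw [hC.leg_B.card, hC.leg_A.card])).symm
        have := hBA b hb
        rw [← h'] at this
        obtain ⟨a, ha, hae⟩ := this
        rw [← show a = b from mul_left_cancel (mul_right_cancel hae)]
        exact ha
      · intro a ha; rw [← h']; exact ⟨a, ha, rfl⟩
    have h3 := hC.base.cube_mem hnK hnW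
    obtain ⟨a, ha, b, hb, hab⟩ := hC.noncomm
    have h4 := hC.H_conj_A h3 (mul_mem (mul_mem hnK hnK) hnK) ha
    have h5 : n * (n * (n * a * n⁻¹) * n⁻¹) * n⁻¹ ∈ hC.B := hnA _ (hBA _ (hnA a ha))
    rw [show n * (n * (n * a * n⁻¹) * n⁻¹) * n⁻¹ = n * n * n * a * (n * n * n)⁻¹ by group] at h5
    have h6 := hC.inf_AB h4 h5
    have h7 : a ∈ hC.base.W := by
      have h8 : (n * n * n) ∈ centralizer ({z} : Set G) ⊓ K := ⟨h3, mul_mem (mul_mem hnK hnK) hnK⟩
      have h9 := hC.base.comm_W (inv_mem h3) (inv_mem h8.2) h6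
      have : a = n * n * n * a * (n * n * n)⁻¹ := by
        calc a = (n * n * n)⁻¹ * (n * n * n * a * (n * n * n)⁻¹) * (n * n * n) := by group
          _ = (n * n * n * a * (n * n * n)⁻¹) * (n * n * n)⁻¹ * (n * n * n) := by rw [h9]
          _ = n * n * n * a * (n * n * n)⁻¹ := by group
      rw [this]; exact h6
    exact hab (hC.leg_B.comm a (hC.leg_B.W_le h7) b hb)

theorem card_W : Nat.card ↥hC.base.W = 4 := by
  refine le_antisymm hC.base.card_W_le ?_
  let m : Fin 4 → Mo := ![1, Mo.zz, Mo.om, Mo.om * Mo.zz]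
  have hm : ∀ i, Pt.IsW (0, m i) := by decide +kernel
  let f : Fin 4 → ↥hC.base.W := fun i => ⟨hC.base.frame.θ (m i), m i, hm i, rfl⟩
  have hinj : ∀ i j, m i = m j → i = j := by decide +kernel
  have hf : Function.Injective f := fun i j h => hinj i j (hC.base.frame.θ_inj (congrArg Subtype.val h))
  simpa using Nat.card_le_card_of_injective f hf

/-- If `A ∖ W` contains a conjugate of `z`, all of `A` is one class of the normaliser. -/
theorem transitive_A {x : G} (hx : x ∈ hC.A) (hxW : x ∉ hC.base.W) (hc : IsConj z x) :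
    ∀ y ∈ hC.A, y ≠ 1 → ∃ n ∈ hC.NA, n * z * n⁻¹ = y := by
  classical
  letI : MulAction hC.NA G := MulAction.compHom G (MulAut.conj.comp hC.NA.subtype)
  set O := MulAction.orbit hC.NA z with hO
  have hmem : ∀ y, y ∈ O ↔ ∃ n ∈ hC.NA, n * z * n⁻¹ = y := fun y => by
    rw [hO, MulAction.mem_orbit_iff]
    exact ⟨fun ⟨n, h⟩ => ⟨n, n.2, h⟩, fun ⟨n, hn, h⟩ => ⟨⟨n, hn⟩, h⟩⟩
  have hsubA : ∀ y ∈ O, y ∈ hC.A ∧ y ≠ 1 := fun y hy => by
    obtain ⟨n, hn, rfl⟩ := (hmem y).1 hy
    exact ⟨(mem_normalizer_iff.1 hn.1 z).1 (hC.leg_A.W_le hC.base.z_mem_W), fun h => hC.base.frame.z1 (conj_eq_one_iff.1 h)⟩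
  have hmove : ∀ y ∈ O, ∀ g ∈ hC.NA, g * y * g⁻¹ ∈ O := fun y hy g hg => by
    obtain ⟨n, hn, rfl⟩ := (hmem y).1 hy
    exact (hmem _).2 ⟨g * n, mul_mem hg hn, by group⟩
  have hzO : z ∈ O := MulAction.mem_orbit_self z
  have hu' : u ∈ hC.NA := hC.H_le_NA ⟨hC.base.hu.1, hC.base.u_mem⟩
  have hcos : ∀ y ∈ O, y ∉ hC.base.W → ∀ v ∈ hC.base.W, y * v ∈ O := fun y hy hyW v hv => by
    obtain ⟨s, hs, h⟩ := hC.leg_A.coset y (hsubA y hy).1 hyW v hv
    exact h ▸ hmove y hy s (hC.S_le_NA hs)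
  have hout : ∀ y ∈ hC.A, y ∉ hC.base.W → y ∈ O := by
    intro y hy hyW
    have hxO : x ∈ O := (hmem x).2 (hC.exists_mem_NA hx hc)
    have huW : ∀ a, a ∈ hC.A → a ∉ hC.base.W → u * a * u⁻¹ ∉ hC.base.W := fun a ha haW h => by
      apply haW
      have h' := hC.base.comm_W hC.base.hu.1 hC.base.u_mem h
      have : a = u * a * u⁻¹ := by
        calc a = u⁻¹ * (u * a * u⁻¹ * u) := by group
          _ = u⁻¹ * (u * (u * a * u⁻¹)) := by rw [h']
          _ = u * a * u⁻¹ := by group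
      rw [this]; exact h
    have h1 := huW x hx hxW
    have h2 := huW _ (hC.leg_A.u_conj x hx) h1
    rcases hC.leg_A.cover x hx hxW y hy hyW with h | h | h
    · simpa using hcos x hxO hxW _ h
    · have := hcos _ (hmove x hxO u hu') h1 _ h
      rwa [mul_inv_cancel_left] at this
    · have := hcos _ (hmove _ (hmove x hxO u hu') u hu') h2 _ h
      rwa [mul_inv_cancel_left] at this
  have hodd : ¬ 2 ∣ O.ncard := by
    rw [hO, ← MulAction.index_stabilizer]
    intro h2
    have hle : hC.base.S.subgroupOf hC.NA ≤ MulAction.stabilizer hC.NA z := fun n hn => by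
      rw [MulAction.mem_stabilizer_iff]
      exact hC.base.frame.z_comm (hC.base.S_le_H (mem_subgroupOf.1 hn))
    have hd : 128 ∣ Nat.card ↥hC.NA := by
      rw [← Subgroup.card_mul_index (hC.base.S.subgroupOf hC.NA),
        Nat.card_congr (subgroupOfEquivOfLe hC.S_le_NA).toEquiv, hC.base.card_S, show 128 = 64 * 2 by norm_num]
      exact Nat.mul_dvd_mul_left _ (h2.trans (Subgroup.index_dvd_of_le hle))
    haveI : Fact (Nat.Prime 2) := ⟨Nat.prime_two⟩
    obtain ⟨P⟩ : Nonempty (Sylow 2 ↥hC.NA) := inferInstance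
    have h1 := P.pow_dvd_card_of_pow_dvd_card (n := 7) (by simpa using hd)
    have h3 := hC.base.sylow_card hC.hW (P.2.map hC.NA.subtype) ((map_subtype_le _).trans inf_le_right)
    rw [card_map_of_injective hC.NA.subtype_injective] at h3
    exact absurd (h1.trans h3) (by norm_num)
  -- counting
  set D : Set G := (hC.A : Set G) \ (hC.base.W : Set G) with hD
  have hDc : D.ncard = 12 := by
    rw [hD, Set.ncard_diff (fun v hv => hC.leg_A.W_le hv), ← Nat.card_coe_set_eq, ← Nat.card_coe_set_eq]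
    show Nat.card ↥hC.A - Nat.card ↥hC.base.W = 12
    rw [hC.leg_A.card, hC.card_W]
  have hzw : ∀ v, v ∈ O → v ∈ hC.base.W → v ≠ z → ∀ y ∈ hC.base.W, y ≠ 1 → y ∈ O := by
    intro v hv hvW hvz y hyW hy1
    by_contra hyO
    have hyz : y ≠ z := fun h => hyO (h ▸ hzO)
    have hv1 := (hsubA v hv).2
    have hvy : v ≠ y := fun h => hyO (h ▸ hv)
    have hset : O = D ∪ {z, v} := by
      refine Set.Subset.antisymm (fun a ha => ?_) ?_
      · by_cases haW : a ∈ hC.base.W
        · right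
          rcases hC.base.mem_W.1 haW with h | h | h | h
          · exact absurd h (hsubA a ha).2
          · exact Or.inl h
          all_goals
            rcases hC.base.mem_W.1 hvW with h' | h' | h' | h'
            · exact absurd h' hv1
            · exact absurd h' hvz
            all_goals
              rcases hC.base.mem_W.1 hyW with h'' | h'' | h'' | h'' <;>
                first
                  | exact absurd h'' hy1
                  | exact absurd h'' hyz
                  | exact Or.inr (h.trans h'.symm)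
                  | exact absurd (h'.trans h''.symm) hvy
                  | exact absurd (h''.trans h.symm ▸ ha : y ∈ O) hyO
        · exact Or.inl ⟨(hsubA a ha).1, haW⟩
      · rintro a (⟨h1, h2⟩ | h | h)
        · exact hout a h1 h2
        · exact h ▸ hzO
        · exact h ▸ hv
    apply hodd
    rw [hset, Set.ncard_union_eq ?_, hDc, Set.ncard_pair (Ne.symm hvz)]
    · norm_num
    · rw [Set.disjoint_left]
      rintro a ⟨-, haW⟩ (h | h)
      · exact haW (h ▸ hC.base.z_mem_W)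
      · exact haW (h ▸ hvW)
  obtain ⟨v, hvO, hvW, hvz⟩ : ∃ v, v ∈ O ∧ v ∈ hC.base.W ∧ v ≠ z := by
    by_contra hno
    push_neg at hno
    have hset : O = D ∪ {z} := by
      refine Set.Subset.antisymm (fun a ha => ?_) ?_
      · by_cases haW : a ∈ hC.base.W
        · exact Or.inr (hno a ha haW)
        · exact Or.inl ⟨(hsubA a ha).1, haW⟩
      · rintro a (⟨h1, h2⟩ | h)
        · exact hout a h1 h2
        · exact h ▸ hzO
    have h13 : O.ncard = 13 := by
      rw [hset, Set.ncard_union_eq ?_, hDc, Set.ncard_singleton]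
      rw [Set.disjoint_singleton_right]
      exact fun h => h.2 hC.base.z_mem_W
    -- an element of order 13 centralises `A`
    haveI : Fact (Nat.Prime 13) := ⟨by norm_num⟩
    have hd : 13 ∣ Nat.card ↥hC.NA := by
      rw [← h13, hO, ← MulAction.index_stabilizer]
      exact Subgroup.index_dvd_card _
    obtain ⟨g, hg⟩ := exists_prime_orderOf_dvd_card' 13 hd
    have hP : IsPGroup 13 ↥(zpowers g) := IsPGroup.of_card (n := 1) (by rw [Nat.card_zpowers, hg, pow_one])
    letI act : MulAction (zpowers g) hC.A :=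
      { smul := fun n a => ⟨(n.1 : G) * a * (n.1 : G)⁻¹, (mem_normalizer_iff.1 n.1.2.1 a).1 a.2⟩
        one_smul := fun a => Subtype.ext (by show (1 : G) * a * (1 : G)⁻¹ = a; group)
        mul_smul := fun m n a => Subtype.ext (by
          show ((m.1 : G) * n.1) * a * ((m.1 : G) * n.1)⁻¹ = (m.1 : G) * ((n.1 : G) * a * (n.1 : G)⁻¹) * (m.1 : G)⁻¹
          group) }
    have hmod := hP.card_modEq_card_fixedPoints hC.A
    let F : Subgroup hC.A :=
      { carrier := MulAction.fixedPoints (zpowers g) hC.A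
        one_mem' := fun n => Subtype.ext (by show (n.1 : G) * (1 : G) * (n.1 : G)⁻¹ = 1; group)
        mul_mem' := fun {a b} ha hb n => Subtype.ext (by
          have h1 : (n.1 : G) * a * (n.1 : G)⁻¹ = a := congrArg Subtype.val (ha n)
          have h2 : (n.1 : G) * b * (n.1 : G)⁻¹ = b := congrArg Subtype.val (hb n)
          show (n.1 : G) * ((a : G) * b) * (n.1 : G)⁻¹ = (a : G) * b
          calc (n.1 : G) * ((a : G) * b) * (n.1 : G)⁻¹ = (n.1 : G) * a * (n.1 : G)⁻¹ * ((n.1 : G) * b * (n.1 : G)⁻¹) := by group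
            _ = (a : G) * b := by rw [h1, h2])
        inv_mem' := fun {a} ha n => Subtype.ext (by
          have h1 : (n.1 : G) * a * (n.1 : G)⁻¹ = a := congrArg Subtype.val (ha n)
          show (n.1 : G) * (a : G)⁻¹ * (n.1 : G)⁻¹ = (a : G)⁻¹
          rw [← conj_inv, h1]) }
    have hFd : Nat.card F ∣ 16 := hC.leg_A.card ▸ card_subgroup_dvd_card F
    have hF16 : Nat.card F = 16 := by
      have h : 16 ≡ Nat.card F [MOD 13] := hC.leg_A.card ▸ hmod
      obtain ⟨i, hi, hiF⟩ := (Nat.dvd_prime_pow Nat.prime_two).1 (show Nat.card F ∣ 2 ^ 4 by simpa using hFd)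
      rw [hiF] at h ⊢
      interval_cases i <;> first | rfl | exact absurd h (by decide)
    have hFtop : F = ⊤ := (card_eq_iff_eq_top F).1 (by rw [hF16, hC.leg_A.card])
    have hzF : (⟨z, hC.leg_A.W_le hC.base.z_mem_W⟩ : hC.A) ∈ F := hFtop ▸ mem_top _
    have hgz : (g : G) * z * (g : G)⁻¹ = z := congrArg Subtype.val (hzF ⟨g, mem_zpowers g⟩)
    have hgH : (g : G) ∈ centralizer ({z} : Set G) :=
      mem_centralizer_singleton_iff.2 (mul_inv_eq_iff_eq_mul.1 hgz)
    have h768 := orderOf_dvd_natCard (centralizer ({z} : Set G)) hgH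
    rw [orderOf_coe, hg, hC.base.frame.card] at h768
    norm_num at h768
  intro y hy hy1
  refine (hmem y).1 ?_
  by_cases hyW : y ∈ hC.base.W
  · exact hzw v hvO hvW hvz y hyW hy1
  · exact hout y hy hyW

/-- Outside solvable groups all involutions of `W` are conjugate. -/
theorem W_conj (hns : ¬ Group.IsSolvable G) {x : G} (hx : x ∈ hC.base.W) (hx1 : x ≠ 1) : IsConj z x := by
  haveI := hC.base.normal
  obtain ⟨g, hne, hcomm⟩ := hC.base.frame.exists_conj_comm hns
  set y := g * z * g⁻¹ with hy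
  have hc : IsConj z y := isConj_iff.2 ⟨g, rfl⟩
  have hyy : y * y = 1 := by
    rw [hy, show g * z * g⁻¹ * (g * z * g⁻¹) = g * (z * z) * g⁻¹ by group, hC.base.frame.zsq]; group
  have hyS : y ∈ hC.base.S := hC.base.mem_S_of_two (mem_centralizer_singleton_iff.2 hcomm.symm)
    (Subgroup.Normal.conj_mem inferInstance _ (hC.base.W_le_K hC.base.z_mem_W) g) (n := 1)
    (by rw [pow_one, pow_two]; exact hyy)
  by_cases hyW : y ∈ hC.base.W
  · exact hC.base.W_class hyW hne hc hx hx1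
  have key : ∀ a ∈ hC.A, a ∉ hC.base.W → IsConj z a → IsConj z x := fun a ha haW hca => by
    obtain ⟨n, -, hn⟩ := hC.transitive_A ha haW hca x (hC.leg_A.W_le hx) hx1
    exact isConj_iff.2 ⟨n, hn⟩
  rcases hC.inv_AB hyS hyy with h | h
  · exact key y h hyW hc
  · refine key _ (hC.e0_B.1 h) (fun h' => hyW ?_) (hc.trans (isConj_iff.2 ⟨e 0, rfl⟩))
    rw [← hC.base.e0_conj_conj y]; exact hC.base.e0_W h'

end Base0

end CfsgLib.Recog.AutLThreeFour
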