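import Cfsg.Agent.Lib.Recog.AutLThreeFour.Simple
import Cfsg.Agent.Lib.Known.L34.Upper
import Cfsg.Agent.Lib.Known.AutPSL.Field
import Cfsg.Agent.Lib.Classical.SmallIso
import Cfsg.Agent.S0348
import Cfsg.Agent.S0813

/-!
Owner: helper28. The residual is the projective special linear group and the group is its automorphism group.
-/

set_option autoImplicit false
set_option linter.all false

namespace CfsgLib.Recog.AutLThreeFour

open Subgroup Matrix
open CfsgLib.Known.AutPSL (PSL SL proj innDiag)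

theorem sl_two_sq {F : Type*} [Field F] (h2 : (2 : F) = 0) (A : Matrix.SpecialLinearGroup (Fin 2) F)
    (h : A * A * (A * A) = 1) : A * A = 1 := by
  have hd := A.2
  rw [Matrix.det_fin_two] at hd
  obtain ⟨M, hM⟩ : ∃ M : Matrix (Fin 2) (Fin 2) F, M = A := ⟨_, rfl⟩
  rw [← hM] at hd
  have hne : ∀ x : F, x + x = 0 := fun x => by rw [← two_mul, h2, zero_mul]
  have hsq : M * M = (M 0 0 + M 1 1) • M + 1 := by
    ext i j
    fin_cases i <;> fin_cases j <;> simp [Matrix.mul_apply, Fin.sum_univ_two]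
    · linear_combination -hd - h2
    · ring
    · ring
    · linear_combination -hd - h2
  have h4 : (M 0 0 + M 1 1) ^ 2 • (M * M) = 0 := by
    have h' : M * M * (M * M) = 1 := by
      have := congrArg Subtype.val h
      simpa [hM] using this
    set t := M 0 0 + M 1 1
    have e1 : M * M * (M * M) = t ^ 2 • (M * M) + 1 := by
      conv_lhs => rw [hsq]
      rw [add_mul, mul_add, mul_add, one_mul, one_mul, mul_one, smul_mul_assoc, mul_smul_comm, smul_smul, ← pow_two]
      have : t • M + t • M = 0 := by rw [← two_smul F (t • M), h2, zero_smul]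
      rw [add_assoc, ← add_assoc (t • M) (t • M) 1, this, zero_add]
    rw [e1] at h'
    exact add_eq_right.1 h'
  have ht : M 0 0 + M 1 1 = 0 := by
    by_contra ht
    have h0 := (smul_eq_zero.1 h4).resolve_left (pow_ne_zero 2 ht)
    have hdet := congrArg Matrix.det h0
    rw [Matrix.det_mul, hM, A.2] at hdet
    simp at hdet
  refine Subtype.ext ?_
  show (A : Matrix (Fin 2) (Fin 2) F) * (A : Matrix (Fin 2) (Fin 2) F) = 1
  rw [← hM, hsq, ht, zero_smul, zero_add]

theorem center_sl_two {F : Type*} [Field F] [Fintype F] {m : ℕ} (hF : Fintype.card F = 2 ^ m) :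
    center (Matrix.SpecialLinearGroup (Fin 2) F) = ⊥ := by
  rw [← card_eq_one, CfsgLib.Classical.card_center_SL, Fintype.card_fin, hF]
  rcases m with _ | m
  · have := Fintype.one_lt_card (α := F)
    rw [hF] at this
    exact absurd this (lt_irrefl 1)
  · refine Nat.Coprime.gcd_eq_one ((Nat.prime_two.coprime_iff_not_dvd).2 fun h => ?_)
    have : 1 ≤ 2 ^ (m + 1) := Nat.one_le_two_pow
    rw [pow_succ'] at h this
    omega

theorem psl_two_sq {F : Type*} [Field F] [Fintype F] {m : ℕ} (hF : Fintype.card F = 2 ^ m)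
    (x : Matrix.ProjectiveSpecialLinearGroup (Fin 2) F) (h : x * x * (x * x) = 1) : x * x = 1 := by
  haveI : Fact (Nat.Prime 2) := ⟨Nat.prime_two⟩
  have hm : 1 ≤ m := by
    by_contra hm
    have := Fintype.one_lt_card (α := F)
    rw [hF, show m = 0 by omega] at this
    exact absurd this (lt_irrefl 1)
  haveI := CfsgLib.Known.AutPSL.charP_of_card hF hm
  obtain ⟨A, rfl⟩ := QuotientGroup.mk'_surjective _ x
  rw [← map_mul, ← map_mul, QuotientGroup.mk'_apply, QuotientGroup.eq_one_iff, center_sl_two hF, mem_bot] at h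
  rw [← map_mul, sl_two_sq (CharP.cast_eq_zero F 2 ▸ (Nat.cast_ofNat).symm) A h, map_one]

theorem suzuki_three {L : Type*} [Group L] (h : Cfsg.IsSuzuki L) : ¬ 3 ∣ Nat.card L := by
  obtain ⟨-, m, hm, hcard⟩ := h
  rw [hcard]
  have h3 : 2 ^ (2 * m + 1) % 3 = 2 := by rw [pow_succ, pow_mul, Nat.mul_mod, Nat.pow_mod]; norm_num
  generalize 2 ^ (2 * m + 1) = q at h3
  intro h
  have e1 : q ^ 2 % 3 = 1 := by rw [Nat.pow_mod, h3]
  have e2 : (q ^ 2 + 1) % 3 = 2 := by omega
  have e3 : (q - 1) % 3 = 1 := by omega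
  have : q ^ 2 * (q ^ 2 + 1) * (q - 1) % 3 = 2 := by
    rw [Nat.mul_mod, Nat.mul_mod (q ^ 2), e1, e2, e3]
  omega

/-- `64` exactly divides `|PSL(2, q)|` only for `q = 64` among the three kinds of fields. -/
theorem psl_two_q {q N : ℕ} (hN : Nat.gcd 2 (q - 1) * N = q * (q ^ 2 - 1)) (h64 : 64 ∣ N) (h128 : ¬ 128 ∣ N)
    (hq : q = 9 ∨ (∃ n : ℕ, q = 2 ^ n) ∨ (q.Prime ∧ ∃ k : ℕ, q = 2 ^ k + 1 ∨ q + 1 = 2 ^ k)) :
    ∃ n : ℕ, q = 2 ^ n := by
  rcases hq with h | h | ⟨hp, k, hk⟩
  · subst h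
    rw [show Nat.gcd 2 (9 - 1) = 2 from rfl] at hN
    omega
  · exact h
  exfalso
  rcases hp.eq_two_or_odd with h2 | hodd
  · subst h2
    rw [show Nat.gcd 2 (2 - 1) = 1 from rfl, one_mul] at hN
    omega
  have hg : Nat.gcd 2 (q - 1) = 2 := Nat.gcd_eq_left (by omega)
  rw [hg] at hN
  have h1 : 2 ≤ q := hp.two_le
  obtain ⟨x, rfl⟩ : ∃ x, q = x + 1 := ⟨q - 1, by omega⟩
  rw [show (x + 1) ^ 2 - 1 = x * (x + 2) by
    rw [show (x + 1) ^ 2 = x * (x + 2) + 1 by ring, Nat.add_sub_cancel]] at hN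
  by_cases hk2 : k ≤ 2
  · have hx4 : x ≤ 4 := by
      have := Nat.pow_le_pow_right (show 1 ≤ 2 by norm_num) hk2
      omega
    interval_cases x <;> norm_num at hN <;> omega
  obtain ⟨j, rfl⟩ := Nat.exists_eq_add_of_le (show 3 ≤ k by omega)
  have hN' : ∃ a b : ℕ, N = 2 ^ (3 + j) * (a * b) ∧ a % 2 = 1 ∧ b % 2 = 1 := by
    have e : (2 : ℕ) ^ (2 + j) % 2 = 0 := by rw [Nat.pow_mod]; simp
    have h3 : (2 : ℕ) ^ (3 + j) = 2 * 2 ^ (2 + j) := by rw [← pow_succ']; congr 1; omega
    have hpos : 1 ≤ (2 : ℕ) ^ (2 + j) := Nat.one_le_two_pow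
    rcases hk with hk | hk
    · obtain rfl : x = 2 ^ (3 + j) := by omega
      refine ⟨2 ^ (3 + j) + 1, 2 ^ (2 + j) + 1, ?_, by omega, by omega⟩
      have : 2 * N = 2 * (2 ^ (3 + j) * ((2 ^ (3 + j) + 1) * (2 ^ (2 + j) + 1))) := by
        rw [hN, h3]; ring
      omega
    · refine ⟨x + 1, 2 ^ (2 + j) - 1, ?_, by omega, by omega⟩
      have hx : x + 2 = 2 ^ (3 + j) := by omega
      have hx' : x = 2 * (2 ^ (2 + j) - 1) := by omega
      have : 2 * N = 2 * (2 ^ (3 + j) * ((x + 1) * (2 ^ (2 + j) - 1))) := by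
        rw [hN, hx]; nth_rewrite 2 [hx']; ring
      omega
  obtain ⟨a, b, rfl, ha, hb⟩ := hN'
  have hab : Nat.Coprime 2 (a * b) := (Nat.prime_two.coprime_iff_not_dvd).2 fun h => by
    rcases Nat.prime_two.dvd_mul.1 h with h | h <;> omega
  have hj : j = 3 := by
    rcases Nat.lt_trichotomy j 3 with h | h | h
    · have := (Nat.Coprime.pow_left 6 hab).dvd_of_dvd_mul_right (show 2 ^ 6 ∣ _ from h64)
      rw [Nat.pow_dvd_pow_iff_le_right (by norm_num)] at this
      omega
    · exact h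
    · exact absurd ((Nat.pow_dvd_pow 2 (show 7 ≤ 3 + j by omega)).mul_right _) h128
  subst hj
  norm_num at hk
  rcases hk with hk | hk
  · rw [hk] at hp; norm_num at hp
  · obtain rfl : x = 62 := by omega
    norm_num at hp

theorem card_aut_psl {F : Type*} [Field F] [Fintype F] (hF : Fintype.card F = 4) :
    Nat.card (MulAut (Matrix.ProjectiveSpecialLinearGroup (Fin 3) F)) = 241920 := by
  haveI : Fact (Nat.Prime 2) := ⟨Nat.prime_two⟩
  have h1 := CfsgLib.Classical.card_SL_eq_gcd_mul_card_PSL (F := F) (ι := Fin 3)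
  rw [hF, Fintype.card_fin, show Nat.gcd 3 (4 - 1) = 3 from rfl, CfsgLib.Known.L34.card_PSL hF] at h1
  rw [Cfsg.Agent.S0813.result 2 2 (by norm_num) (by rw [hF]; norm_num) 3 (by norm_num) (fun h => absurd h (by norm_num)),
    if_neg (by norm_num), CfsgLib.Classical.card_PGL_eq_card_SL, h1]

/-- The automorphism group of `PGL(3, 4)` is that of `PSL(3, 4)`. -/
theorem mulAut_pgl {F : Type*} [Field F] [Fintype F] (hF : Fintype.card F = 4) :
    Nonempty (MulAut (GL (Fin 3) F ⧸ center (GL (Fin 3) F)) ≃* MulAut (PSL 3 F)) := by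
  classical
  haveI : IsSimpleGroup (PSL 3 F) := CfsgLib.Classical.isSimpleGroup_PSL le_rfl
  set D : Subgroup (MulAut (PSL 3 F)) := (innDiag 3 F).range with hD
  haveI hDn : D.Normal := CfsgLib.Known.AutPSL.inndiag_normal (by norm_num)
  have hID : Cfsg.Inn (PSL 3 F) ≤ D := CfsgLib.Known.AutPSL.inn_le_inndiag
  have hker : (innDiag 3 F).ker = center (GL (Fin 3) F) := by
    ext g
    rw [MonoidHom.mem_ker, CfsgLib.Known.AutPSL.innDiag_apply, CfsgLib.Known.AutPSL.semilin_eq_one_iff (by norm_num),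
      Matrix.GeneralLinearGroup.mem_center_iff_val_mem_range_scalar]
    simp only [Set.mem_range, true_and, Matrix.scalar_apply, Matrix.smul_one_eq_diagonal]
    exact ⟨fun ⟨c, hc⟩ => ⟨c, hc.symm⟩, fun ⟨c, hc⟩ => ⟨c, hc.symm⟩⟩
  let eD : GL (Fin 3) F ⧸ center (GL (Fin 3) F) ≃* D :=
    (QuotientGroup.quotientMulEquivOfEq hker.symm).trans (QuotientGroup.quotientKerEquivRange (innDiag 3 F))
  refine ⟨(MulAut.congr eD).trans ?_⟩
  -- an automorphism centralising the inner ones is trivial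
  have hinj : Function.Injective (MulAut.conj : PSL 3 F →* MulAut (PSL 3 F)) := by
    rw [← MonoidHom.ker_eq_bot_iff]
    refine (IsSimpleGroup.eq_bot_or_eq_top_of_normal _ inferInstance).resolve_right fun h => ?_
    have hc : ∀ a b : PSL 3 F, a * b = b * a := fun a b => by
      have h1 : MulAut.conj a b = b := by
        rw [MonoidHom.mem_ker.1 (h ▸ mem_top a : a ∈ (MulAut.conj : PSL 3 F →* MulAut (PSL 3 F)).ker)]; rfl
      rw [MulAut.conj_apply, mul_inv_eq_iff_eq_mul] at h1
      exact h1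
    have hcard := CfsgLib.Known.L34.card_PSL hF
    have hp : (Nat.card (PSL 3 F)).Prime := by
      letI : CommGroup (PSL 3 F) := { (inferInstance : Group (PSL 3 F)) with mul_comm := hc }
      exact IsSimpleGroup.prime_card
    rw [hcard] at hp
    norm_num at hp
  have hcent : ∀ a : MulAut (PSL 3 F), (∀ x, a * MulAut.conj x * a⁻¹ = MulAut.conj x) → a = 1 := by
    intro a ha
    refine MulEquiv.ext fun x => hinj ?_
    rw [show MulAut.conj (a x) = a * MulAut.conj x * a⁻¹ from MulEquiv.ext fun y => by simp, ha]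
    rfl
  let c : MulAut (PSL 3 F) →* MulAut D := MulAut.conjNormal
  have hc : Function.Injective c := by
    rw [injective_iff_map_eq_one]
    intro a ha
    refine hcent a fun x => ?_
    have := congrArg (fun f : MulAut D => ((f ⟨MulAut.conj x, hID ⟨x, rfl⟩⟩ : D) : MulAut (PSL 3 F))) ha
    simpa [c] using this
  -- the inner automorphisms are invariant
  let I : Subgroup D := (Cfsg.Inn (PSL 3 F)).subgroupOf D
  let hIeq : I ≃* PSL 3 F := (subgroupOfEquivOfLe hID).trans (MonoidHom.ofInjective hinj).symm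
  haveI hIsimple : IsSimpleGroup I := hIeq.isSimpleGroup
  haveI hIn : I.Normal := by
    haveI : (Cfsg.Inn (PSL 3 F)).Normal := inferInstance
    infer_instance
  have hcardD : Nat.card D = 3 * 20160 := by
    rw [← Nat.card_congr eD.toEquiv]
    show Nat.card (Matrix.ProjGenLinGroup (Fin 3) F) = _
    rw [CfsgLib.Classical.card_PGL_eq_card_SL, CfsgLib.Classical.card_SL_eq_gcd_mul_card_PSL, hF, Fintype.card_fin,
      show Nat.gcd 3 (4 - 1) = 3 from rfl, CfsgLib.Known.L34.card_PSL hF]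
  have hIcard : Nat.card I = 20160 := (Nat.card_congr hIeq.toEquiv).trans (CfsgLib.Known.L34.card_PSL hF)
  have hchar : ∀ φ : MulAut D, ∀ d ∈ I, φ d ∈ I := by
    intro φ d hd
    haveI : IsSimpleGroup (I.map φ.toMonoidHom) := (I.equivMapOfInjective _ φ.injective).symm.isSimpleGroup
    haveI : (I.map φ.toMonoidHom).Normal := hIn.map _ φ.surjective
    rcases IsSimpleGroup.eq_bot_or_eq_top_of_normal (I.subgroupOf (I.map φ.toMonoidHom)) inferInstance with h | h
    · exfalso
      have h1 := card_le_card_group (I.map φ.toMonoidHom)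
      have h2 : Nat.card (I.map φ.toMonoidHom) ≤ I.index := by
        rw [index_eq_card]
        refine Nat.card_le_card_of_injective (fun x => (QuotientGroup.mk (x : D) : D ⧸ I)) fun x y hxy => ?_
        have : x⁻¹ * y ∈ I.subgroupOf (I.map φ.toMonoidHom) := by
          rw [mem_subgroupOf, Subgroup.coe_mul, Subgroup.coe_inv]; exact QuotientGroup.eq.1 hxy
        rw [h, mem_bot, inv_mul_eq_one] at this
        exact this
      rw [card_map_of_injective (f := φ.toMonoidHom) φ.injective, hIcard] at h2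
      have h3 := I.card_mul_index
      rw [hIcard, hcardD] at h3
      omega
    · exact subgroupOf_eq_top.1 h ⟨d, hd, rfl⟩
  refine (MulEquiv.ofBijective c ⟨hc, fun φ => ?_⟩).symm
  let r : MulAut I :=
    { toFun := fun x => ⟨φ x, hchar φ _ x.2⟩
      invFun := fun x => ⟨φ⁻¹ x, hchar φ⁻¹ _ x.2⟩
      left_inv := fun x => Subtype.ext (φ.symm_apply_apply x)
      right_inv := fun x => Subtype.ext (φ.apply_symm_apply x)
      map_mul' := fun x y => Subtype.ext (map_mul φ (x : D) (y : D)) }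
  set a : MulAut (PSL 3 F) := MulAut.congr hIeq r with ha
  have hval : ∀ y : I, ((y : D) : MulAut (PSL 3 F)) = MulAut.conj (hIeq y) := fun y =>
    by simp [hIeq, MonoidHom.apply_ofInjective_symm] <;> rfl
  have hagree : ∀ x : I, c a (x : D) = φ x := by
    intro x
    apply Subtype.ext
    show a * ((x : D) : MulAut (PSL 3 F)) * a⁻¹ = ((φ x : D) : MulAut (PSL 3 F))
    rw [hval x, show ((φ x : D) : MulAut (PSL 3 F)) = MulAut.conj (hIeq (r x)) from hval (r x),
      show hIeq (r x) = a (hIeq x) by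
        show hIeq (r x) = hIeq (r (hIeq.symm (hIeq x)))
        rw [MulEquiv.symm_apply_apply]]
    exact MulEquiv.ext fun y => by simp
  refine ⟨a, MulEquiv.ext fun d => ?_⟩
  set ψ : MulAut D := (c a)⁻¹ * φ with hψ
  have hfix : ∀ x : I, ψ x = x := fun x => by
    show (c a).symm (φ x) = x
    rw [← hagree x, MulEquiv.symm_apply_apply]
  suffices h : ψ d = d by
    rw [show φ d = c a (ψ d) from ((c a).apply_symm_apply (φ d)).symm, h]
  have hh : ∀ x : PSL 3 F, (((ψ d : D) : MulAut (PSL 3 F)))⁻¹ * d * MulAut.conj x * ((((ψ d : D) : MulAut (PSL 3 F)))⁻¹ * d)⁻¹ = MulAut.conj x := by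
    intro x
    set i : I := ⟨⟨MulAut.conj x, hID ⟨x, rfl⟩⟩, mem_subgroupOf.2 ⟨x, rfl⟩⟩ with hi
    have h1 : ψ (d * (i : D) * d⁻¹) = d * (i : D) * d⁻¹ := hfix ⟨_, hIn.conj_mem _ i.2 d⟩
    rw [map_mul, map_mul, map_inv, hfix i] at h1
    have h2 := congrArg (fun y : D => (y : MulAut (PSL 3 F))) h1
    simp only [Subgroup.coe_mul, Subgroup.coe_inv] at h2
    have hiv : ((i : D) : MulAut (PSL 3 F)) = MulAut.conj x := rfl
    rw [hiv] at h2
    calc _ = (((ψ d : D) : MulAut (PSL 3 F)))⁻¹ * ((d : MulAut (PSL 3 F)) * MulAut.conj x * (d : MulAut (PSL 3 F))⁻¹) * ((ψ d : D) : MulAut (PSL 3 F)) := by group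
      _ = MulAut.conj x := by rw [← h2]; group
  exact Subtype.ext (inv_mul_eq_one.1 (hcent _ hh))

/-- Isomorphic fields give isomorphic projective general linear groups. -/
theorem pgl_congr {F F' : Type*} [Field F] [Field F'] (r : F ≃+* F') :
    Nonempty (GL (Fin 3) F ⧸ center (GL (Fin 3) F) ≃* GL (Fin 3) F' ⧸ center (GL (Fin 3) F')) :=
  ⟨QuotientGroup.congr _ _ (Units.mapEquiv (r.mapMatrix (m := Fin 3)).toMulEquiv)
    (CfsgLib.Known.AutPSL.map_center_eq _)⟩

theorem Sig.fix_ev : ∀ s : Sig, (∀ i j : Fin 4, Sig.act s (Mo.gen i * Mo.gen j) = Mo.gen i * Mo.gen j) →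
    s = Sig.idS ∨ s = innS Mo.om := by
  decide +kernel

theorem Pt.ev_gen : ∀ i j : Fin 4, Pt.Ev (0, Mo.gen i * Mo.gen j) := by decide +kernel

variable {G : Type*} [Group G] [Finite G] {z : G} {e : Fin 4 → G} {K : Subgroup G} {p u : G}

namespace Base0

variable (hC : Base0 z e K p u) (hns : ¬ Group.IsSolvable G)
include hC hns

theorem iso_res2 : ∃ (F : Type) (_ : Field F) (_ : Fintype F), Fintype.card F = 4 ∧
    Nonempty (↥hC.res2 ≃* Matrix.ProjectiveSpecialLinearGroup (Fin 3) F) := by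
  haveI := hC.simple hns
  obtain ⟨h64, h128⟩ := hC.card_res2 hns
  rcases Cfsg.Agent.S0348.result (hC.nonabelian hns) (hC.cit hns) with ⟨F, iF, iFt, hF, ⟨f⟩⟩ | h | h
  · exfalso
    have hcard := CfsgLib.Classical.Two.card_PSL_two (F := F)
    rw [← Nat.card_congr f.toEquiv] at hcard
    obtain ⟨n, hn⟩ := psl_two_q hcard h64 h128 hF
    obtain ⟨a, ha, b, hb, hab⟩ := hC.noncomm
    have hx : ∀ x ∈ hC.base.S, x * x * (x * x) = 1 → x * x = 1 := by
      intro x hx hx4
      have := psl_two_sq hn (f ⟨x, hC.S_le_res2 hx⟩) (by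
        rw [← map_mul, ← map_mul, ← map_one f]; exact congrArg f (Subtype.ext hx4))
      rw [← map_mul, ← map_one f] at this
      exact congrArg Subtype.val (f.injective this)
    apply hab
    have haS : a * b ∈ hC.base.S := mul_mem ha.2 hb.2
    have hai := inv_eq_of_mul_eq_one_left (hC.leg_A.sq a ha)
    have hbi := inv_eq_of_mul_eq_one_left (hC.leg_B.sq b hb)
    have hc : a * b * a * b ∈ hC.base.W := by
      obtain ⟨g, hg, hga⟩ := hC.base.exists_Φ ha.2
      obtain ⟨t, ht, htb⟩ := hC.base.exists_Φ hb.2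
      have hi1 : ∀ t, Pt.Ev t → (hC.base.Φ t)⁻¹ = hC.base.Φ (Pt.mul (Pt.mul t t) t) := fun t ht =>
        inv_eq_of_mul_eq_one_right (by rw [hC.Φ_mul, Pt.inv_eq t ht, hC.Φ_one])
      rw [show a * b * a * b = a * b * a⁻¹ * b⁻¹ by rw [hai, hbi],
        ← hga, ← htb, hi1 g hg, hi1 t ht, hC.Φ_mul, hC.Φ_mul, hC.Φ_mul, hC.base.Φ_W]
      exact Pt.comm_W g hg t ht
    have h4 := hx _ haS (by
      rw [show a * b * (a * b) = a * b * a * b by group]; exact hC.base.W_inv hc)
    have := inv_eq_of_mul_eq_one_left h4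
    rw [_root_.mul_inv_rev, hai, hbi] at this
    exact this.symm
  · exact h
  · exact absurd (hC.three_dvd hns) (suzuki_three h)

theorem cent_trivial : centralizer (hC.res2 : Set G) = ⊥ := by
  rw [eq_bot_iff]
  intro c hc
  have hcom : ∀ g ∈ hC.res2, g * c = c * g := fun g hg => mem_centralizer_iff.1 hc g hg
  have hzL : z ∈ hC.res2 := hC.S_le_res2 (hC.base.W_le_S hC.base.z_mem_W)
  obtain ⟨s, hs⟩ := hC.base.frame.exists_acts (mem_centralizer_singleton_iff.2 (hcom z hzL).symm)
  have hfix : ∀ i j : Fin 4, Sig.act s (Mo.gen i * Mo.gen j) = Mo.gen i * Mo.gen j := by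
    intro i j
    refine (hC.base.frame.commutes_iff hs _).1 (hcom _ ?_).symm
    have h := hC.S_le_res2 (hC.base.Φ_mem_S (0, Mo.gen i * Mo.gen j) (Pt.ev_gen i j))
    simpa [Base.Φ, Base.R] using h
  have hcW : c ∈ hC.base.W := by
    rcases Sig.fix_ev s hfix with rfl | rfl
    · rcases hC.base.frame.eq_or_of_acts hC.base.frame.acts_one hs with rfl | rfl
      · exact one_mem _
      · rw [one_mul]; exact hC.base.z_mem_W
    · rcases hC.base.frame.eq_or_of_acts (hC.base.frame.acts_θ Mo.om) hs with rfl | rfl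
      · exact hC.base.mem_W.2 (by simp)
      · exact hC.base.mem_W.2 (by simp)
  haveI := hC.simple hns
  obtain ⟨a, b, hab⟩ := hC.nonabelian hns
  have hcL : c ∈ hC.res2 := hC.S_le_res2 (hC.base.W_le_S hcW)
  have hz : (⟨c, hcL⟩ : hC.res2) ∈ center ↥hC.res2 := mem_center_iff.2 fun g => Subtype.ext (hcom g g.2)
  rcases IsSimpleGroup.eq_bot_or_eq_top_of_normal (center ↥hC.res2) inferInstance with h | h
  · rw [h, mem_bot] at hz
    exact mem_bot.2 (congrArg Subtype.val hz)
  · exact absurd (mem_center_iff.1 (h ▸ mem_top b) a) hab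

theorem card_ge : 12 * Nat.card ↥hC.res2 ≤ Nat.card G := by
  haveI := hC.res2_normal
  set M := hC.res2.subgroupOf K with hM
  have h3 : 3 ∣ M.index := by
    rw [index_eq_card]
    have ho : orderOf (QuotientGroup.mk (s := M) ⟨u, hC.base.u_mem⟩) = 3 := by
      haveI : Fact (Nat.Prime 3) := ⟨Nat.prime_three⟩
      refine orderOf_eq_prime ?_ ?_
      · rw [← QuotientGroup.mk_pow, show (⟨u, hC.base.u_mem⟩ : K) ^ 3 = 1 from
          Subtype.ext (by simpa [pow_succ] using hC.base.hu3), QuotientGroup.mk_one]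
      · intro h
        exact hC.u_not_mem hns (mem_subgroupOf.1 ((QuotientGroup.eq_one_iff _).1 h))
    exact ho ▸ orderOf_dvd_natCard _
  have h1 := M.card_mul_index
  rw [Nat.card_congr (subgroupOfEquivOfLe hC.res2_le).toEquiv] at h1
  have h2 := K.card_mul_index
  rw [hC.base.index] at h2
  have h4 : 3 ≤ M.index := Nat.le_of_dvd (Nat.pos_of_ne_zero index_ne_zero_of_finite) h3
  have := Nat.mul_le_mul_left (Nat.card ↥hC.res2) h4
  omega

theorem iso_aut {F : Type*} [Field F] [Fintype F] (hF : Fintype.card F = 4) :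
    Nonempty (G ≃* MulAut (GL (Fin 3) F ⧸ center (GL (Fin 3) F))) := by
  obtain ⟨F', iF, iFt, hF', ⟨f⟩⟩ := hC.iso_res2 hns
  haveI := hC.res2_normal
  let c : G →* MulAut (PSL 3 F') := (MulAut.congr f).toMonoidHom.comp (MulAut.conjNormal (H := hC.res2))
  have hcinj : Function.Injective c := by
    rw [injective_iff_map_eq_one]
    intro g hg
    rw [← mem_bot, ← hC.cent_trivial hns, mem_centralizer_iff]
    intro x hx
    have h : MulAut.conjNormal (H := hC.res2) g = 1 := (MulAut.congr f).injective (hg.trans (map_one _).symm)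
    have h' := congrArg (fun φ : MulAut hC.res2 => ((φ ⟨x, hx⟩ : hC.res2) : G)) h
    simp only [MulAut.conjNormal_apply, MulAut.one_apply] at h'
    exact (mul_inv_eq_iff_eq_mul.1 h').symm
  have hL : Nat.card ↥hC.res2 = 20160 := (Nat.card_congr f.toEquiv).trans (CfsgLib.Known.L34.card_PSL hF')
  have hge := hC.card_ge hns
  have hle := Nat.card_le_card_of_injective c hcinj
  rw [card_aut_psl hF'] at hle
  have hbij : Function.Bijective c :=
    (Nat.bijective_iff_injective_and_card c).2 ⟨hcinj, by rw [card_aut_psl hF']; omega⟩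
  obtain ⟨E⟩ := mulAut_pgl hF'
  obtain ⟨g⟩ := pgl_congr (FiniteField.ringEquivOfCardEq (show Fintype.card F' = Fintype.card F by rw [hF, hF']))
  exact ⟨((MulEquiv.ofBijective c hbij).trans E.symm).trans (MulAut.congr g)⟩

end Base0

end CfsgLib.Recog.AutLThreeFour
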