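import Cfsg.Agent.Lib.Recog.AutLThreeFour.Untwist

/-!
Owner: helper28. The two elementary abelian subgroups of order 16 of the Sylow 2-subgroup.
-/

set_option autoImplicit false
set_option linter.all false

namespace CfsgLib.Recog.AutLThreeFour

open Subgroup

variable {G : Type*} [Group G] {z : G} {e : Fin 4 → G} {K : Subgroup G} {p u : G}

/-- What is used of either elementary abelian subgroup of order 16. -/
structure Leg (hB : Base z e K p u) (A : Subgroup G) : Prop where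
  le : A ≤ hB.S
  W_le : hB.W ≤ A
  card : Nat.card ↥A = 16
  sq : ∀ x ∈ A, x * x = 1
  comm : ∀ x ∈ A, ∀ y ∈ A, x * y = y * x
  self : ∀ x ∈ A, x ∉ hB.W → ∀ s ∈ hB.S, s * x = x * s → s ∈ A
  coset : ∀ x ∈ A, x ∉ hB.W → ∀ v ∈ hB.W, ∃ s ∈ hB.S, s * x * s⁻¹ = x * v
  u_conj : ∀ x ∈ A, u * x * u⁻¹ ∈ A
  moves : ∀ x ∈ A, x ∉ hB.W → x⁻¹ * (u * x * u⁻¹) ∉ hB.W
  cover : ∀ x ∈ A, x ∉ hB.W → ∀ y ∈ A, y ∉ hB.W →
    x⁻¹ * y ∈ hB.W ∨ (u * x * u⁻¹)⁻¹ * y ∈ hB.W ∨ (u * (u * x * u⁻¹) * u⁻¹)⁻¹ * y ∈ hB.W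

namespace Pt

/-- The effect of the 3-cycle on the indices. -/
def cy : Fin 4 → Fin 4 := ![0, 2, 3, 1]

theorem cy_key : ∀ k l : Fin 4, Sig.cyc.1 * Sig.vperm k * (Sig.cyc.1)⁻¹ = Sig.vperm l → l = cy k := by decide +kernel

theorem xr_zero : ∀ k l : Fin 4, xr k l = 0 → k = l := by decide +kernel

theorem cy_props : ∀ k : Fin 4, k ≠ 0 → cy k ≠ k ∧ cy k ≠ 0 ∧
    ∀ l : Fin 4, l ≠ 0 → l = k ∨ l = cy k ∨ l = cy (cy k) := by decide +kernel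

end Pt

namespace Base

variable (hB : Base z e K p u)
include hB

theorem card_W_le : Nat.card ↥hB.W ≤ 4 := by
  classical
  let f : ↥hB.W → ({1, z, hB.frame.θ Mo.om, hB.frame.θ Mo.om * z} : Set G) := fun x =>
    ⟨x.1, by simpa using hB.mem_W.1 x.2⟩
  refine (Nat.card_le_card_of_injective f fun a b h => Subtype.ext (congrArg (fun t => t.1) h)).trans ?_
  rw [Nat.card_coe_set_eq]
  exact (Set.ncard_insert_le _ _).trans (Nat.succ_le_succ ((Set.ncard_insert_le _ _).trans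
    (Nat.succ_le_succ ((Set.ncard_insert_le _ _).trans (by rw [Set.ncard_singleton])))))

/-- Conjugation by `u` on the indices. -/
theorem idx_u {s t : Pt} (h : hB.Φ t = u * hB.Φ s * u⁻¹) : t.1 = Pt.cy s.1 := by
  obtain ⟨a, ha⟩ := hB.frame.exists_acts (inv_mem hB.hu.1)
  have h2 := hB.frame.acts_mul (hB.frame.acts_mul hB.hu (hB.acts_Φ s)) ha
  rw [← h] at h2
  have h3 : (Sig.comp (innS t.2) (Sig.vee t.1)).1 = Sig.cyc.1 * (Sig.comp (innS s.2) (Sig.vee s.1)).1 * a.1 :=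
    congrArg Prod.fst (hB.frame.acts_unique (hB.acts_Φ t) h2)
  have h4 : Sig.cyc.1 * a.1 = 1 := congrArg Prod.fst (hB.frame.acts_unique (hB.frame.acts_mul hB.hu ha)
    (show Acts z e (u * u⁻¹) Sig.idS by rw [mul_inv_cancel]; exact hB.frame.acts_one))
  rw [eq_inv_of_mul_eq_one_right h4] at h3
  exact Pt.cy_key _ _ (by simpa [Sig.comp, innS, Sig.vee] using h3.symm)

theorem Φ_W (t : Pt) : hB.Φ t ∈ hB.W ↔ Pt.IsW t := by
  constructor
  · rintro ⟨m, hm, h⟩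
    have h' : hB.Φ t = hB.Φ (0, m) := by rw [h]; simp [Base.Φ, Base.R]
    rw [hB.Φ_inj h']
    exact hm
  · rintro ⟨h0, h1⟩
    refine ⟨t.2, ⟨rfl, h1⟩, ?_⟩
    simp [Base.Φ, Base.R, h0]

theorem Φ_P : hB.Φ Pt.P = p := by simp [Base.Φ, Base.R, Pt.P]

theorem Φ_P' : hB.Φ Pt.P' = e 0 * p * (e 0)⁻¹ := by
  show hB.frame.θ (Mo.gen 0 * Mo.gen 1) * hB.R 1 = _
  have h := hB.R_mul_θ 1 (Mo.gen 0)⁻¹
  rw [show Pt.vact 1 (Mo.gen 0)⁻¹ = Mo.gen 1 by decide +kernel, map_inv, hB.frame.θ_gen, hB.frame.θ_gen] at h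
  rw [map_mul, hB.frame.θ_gen, hB.frame.θ_gen, mul_assoc, ← h, ← mul_assoc]
  rfl

theorem e0_u : e 0 * u = u * e 0 := by
  have h := (hB.frame.commutes_iff hB.hu (Mo.gen 0)).2 (by decide +kernel)
  rw [hB.frame.θ_gen] at h
  exact h.symm

theorem e0_W {x : G} (hx : x ∈ hB.W) : e 0 * x * (e 0)⁻¹ ∈ hB.W := by
  obtain ⟨m, hm, rfl⟩ := hx
  refine ⟨Mo.gen 0 * m * (Mo.gen 0)⁻¹, ?_, ?_⟩
  · revert hm; revert m; decide +kernel
  · rw [map_mul, map_mul, map_inv, hB.frame.θ_gen]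

theorem e0_inv : (e 0)⁻¹ = e 0 := inv_eq_of_mul_eq_one_left (hB.frame.rel.sq 0)

theorem e0_conj_conj (x : G) : e 0 * (e 0 * x * (e 0)⁻¹) * (e 0)⁻¹ = x := by
  rw [hB.e0_inv, show e 0 * (e 0 * x * e 0) * e 0 = (e 0 * e 0) * x * (e 0 * e 0) by group, hB.frame.rel.sq,
    one_mul, mul_one]

end Base

namespace Base0

variable [Finite G] (hC : Base0 z e K p u)
include hC

theorem R_mul : ∀ k l : Fin 4, hC.base.R k * hC.base.R l = hC.base.R (Pt.xr k l) := by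
  have hp := hC.hp2
  set q := u * p * u⁻¹ with hqdef
  have hq : q * q = 1 := by simpa [Base.R, hp, hqdef] using hC.base.R_sq 2
  have hr : p * q * (p * q) = 1 := by simpa [Base.R, hp, hqdef] using hC.base.R_sq 3
  have hqp : q * p = p * q := by
    calc q * p = (p * p) * (q * p) * (q * q) := by rw [hp, hq, one_mul, mul_one]
      _ = p * (p * q * (p * q)) * q := by group
      _ = p * q := by rw [hr, mul_one]
  have h1 : ∀ x : G, x * p * p = x := fun x => by rw [mul_assoc, hp, mul_one]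
  have h2 : ∀ x : G, x * q * q = x := fun x => by rw [mul_assoc, hq, mul_one]
  have h3 : ∀ x : G, x * q * p = x * p * q := fun x => by rw [mul_assoc, hqp, mul_assoc]
  intro k l
  fin_cases k <;> fin_cases l <;>
    simp [Base.R, Pt.xr, ← hqdef, ← mul_assoc, hp, hq, hqp, h1, h2, h3]

theorem Φ_mul (s t : Pt) : hC.base.Φ s * hC.base.Φ t = hC.base.Φ (Pt.mul s t) := by
  simp only [Base.Φ, Pt.mul, map_mul]
  rw [← hC.R_mul]
  calc hC.base.frame.θ s.2 * hC.base.R s.1 * (hC.base.frame.θ t.2 * hC.base.R t.1)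
      = hC.base.frame.θ s.2 * (hC.base.R s.1 * hC.base.frame.θ t.2) * hC.base.R t.1 := by group
    _ = _ := by rw [hC.base.R_mul_θ]; group

theorem Φ_comm (s t : Pt) : hC.base.Φ s * hC.base.Φ t = hC.base.Φ t * hC.base.Φ s ↔ Pt.mul s t = Pt.mul t s := by
  rw [hC.Φ_mul, hC.Φ_mul]
  exact ⟨fun h => hC.base.Φ_inj h, fun h => by rw [h]⟩

theorem Φ_one : hC.base.Φ Pt.one = 1 := by simp [Base.Φ, Base.R, Pt.one]

/-- The first subgroup of order 16. -/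
noncomputable def A (hC : Base0 z e K p u) : Subgroup G := centralizer ({p} : Set G) ⊓ hC.base.S

/-- The second subgroup of order 16. -/
noncomputable def B (hC : Base0 z e K p u) : Subgroup G :=
  centralizer ({e 0 * p * (e 0)⁻¹} : Set G) ⊓ hC.base.S

theorem mem_A {t : Pt} (ht : Pt.Ev t) : hC.base.Φ t ∈ hC.A ↔ Pt.IsA t := by
  have h := hC.Φ_comm t Pt.P
  rw [hC.base.Φ_P] at h
  exact ⟨fun hx => ⟨ht, h.1 (mem_centralizer_singleton_iff.1 hx.1)⟩,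
    fun hx => ⟨mem_centralizer_singleton_iff.2 (h.2 hx.2), hC.base.Φ_mem_S t ht⟩⟩

theorem mem_B {t : Pt} (ht : Pt.Ev t) : hC.base.Φ t ∈ hC.B ↔ Pt.IsB t := by
  have h := hC.Φ_comm t Pt.P'
  rw [hC.base.Φ_P'] at h
  exact ⟨fun hx => ⟨ht, h.1 (mem_centralizer_singleton_iff.1 hx.1)⟩,
    fun hx => ⟨mem_centralizer_singleton_iff.2 (h.2 hx.2), hC.base.Φ_mem_S t ht⟩⟩

theorem exists_A {x : G} (hx : x ∈ hC.A) : ∃ t, Pt.IsA t ∧ hC.base.Φ t = x := by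
  obtain ⟨t, ht, rfl⟩ := hC.base.exists_Φ hx.2
  exact ⟨t, (hC.mem_A ht).1 hx, rfl⟩

theorem q_props : u * p * u⁻¹ ∈ hC.A ∧ u * p * u⁻¹ ∉ hC.base.W := by
  have h : hC.base.Φ (2, 1) = u * p * u⁻¹ := by simp [Base.Φ, Base.R]
  rw [← h, hC.mem_A (by decide), hC.base.Φ_W]
  decide +kernel

theorem leg_A : Leg hC.base hC.A := by
  have hW : hC.base.W ≤ hC.A := fun x hx => by
    obtain ⟨t, ht, rfl⟩ := hC.base.exists_Φ (hC.base.W_le_S hx)
    exact (hC.mem_A ht).2 (Pt.W_le_A t ((hC.base.Φ_W t).1 hx)).1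
  have hsq : ∀ x ∈ hC.A, x * x = 1 := fun x hx => by
    obtain ⟨t, ht, rfl⟩ := hC.exists_A hx
    rw [hC.Φ_mul, Pt.A_sq t ht, hC.Φ_one]
  have hcomm : ∀ x ∈ hC.A, ∀ y ∈ hC.A, x * y = y * x := fun x hx y hy => by
    obtain ⟨t, ht, rfl⟩ := hC.exists_A hx
    obtain ⟨s, hs, rfl⟩ := hC.exists_A hy
    exact (hC.Φ_comm t s).2 (Pt.A_comm t ht s hs)
  have hself : ∀ x ∈ hC.A, x ∉ hC.base.W → ∀ s ∈ hC.base.S, s * x = x * s → s ∈ hC.A := fun x hx hxW y hy h => by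
    obtain ⟨t, ht, rfl⟩ := hC.exists_A hx
    obtain ⟨s, hs, rfl⟩ := hC.base.exists_Φ hy
    exact (hC.mem_A hs).2 (Pt.A_self t ht (fun h' => hxW ((hC.base.Φ_W t).2 h')) s hs ((hC.Φ_comm s t).1 h))
  have hidx : ∀ s t : Pt, Pt.IsA s → Pt.IsA t → ((hC.base.Φ s)⁻¹ * hC.base.Φ t ∈ hC.base.W ↔ s.1 = t.1) := by
    intro s t hs ht
    have hinv : (hC.base.Φ s)⁻¹ = hC.base.Φ s :=
      inv_eq_of_mul_eq_one_left (by rw [hC.Φ_mul, Pt.A_sq s hs, hC.Φ_one])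
    rw [hinv, hC.Φ_mul, hC.base.Φ_W]
    exact ⟨fun h => Pt.xr_zero _ _ h.1, Pt.A_diff s hs t ht⟩
  have hu : ∀ x ∈ hC.A, u * x * u⁻¹ ∈ hC.A := by
    intro x hx
    refine hself _ hC.q_props.1 hC.q_props.2 _ (hC.base.S_conj hC.base.hu.1 hx.2) ?_
    have h := mem_centralizer_singleton_iff.1 hx.1
    calc u * x * u⁻¹ * (u * p * u⁻¹) = u * (x * p) * u⁻¹ := by group
      _ = u * (p * x) * u⁻¹ := by rw [h]
      _ = u * p * u⁻¹ * (u * x * u⁻¹) := by group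
  have hout : ∀ t, Pt.IsA t → hC.base.Φ t ∉ hC.base.W → t.1 ≠ 0 := fun t ht h h0 =>
    h ((hC.base.Φ_W t).2 (Pt.A_zero t ht h0))
  refine ⟨inf_le_right, hW, ?_, hsq, hcomm, hself, ?_, hu, ?_, ?_⟩
  · rw [← Pt.card_A, ← Fintype.card_subtype, ← Nat.card_eq_fintype_card]
    refine (Nat.card_congr (Equiv.ofBijective (fun t : {t : Pt // Pt.IsA t} =>
      (⟨hC.base.Φ t.1, (hC.mem_A t.2.1).2 t.2⟩ : hC.A))
      ⟨fun a b h => Subtype.ext (hC.base.Φ_inj (congrArg Subtype.val h)), fun x => ?_⟩)).symm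
    obtain ⟨t, ht, htx⟩ := hC.exists_A x.2
    exact ⟨⟨t, ht⟩, Subtype.ext htx⟩
  · intro x hx hxW v hv
    obtain ⟨t, ht, rfl⟩ := hC.exists_A hx
    obtain ⟨r, hr, rfl⟩ := hC.base.exists_Φ (hC.base.W_le_S hv)
    obtain ⟨s, hs, h⟩ := Pt.A_coset t ht (fun h' => hxW ((hC.base.Φ_W t).2 h')) r ((hC.base.Φ_W r).1 hv)
    refine ⟨_, hC.base.Φ_mem_S s hs, ?_⟩
    rw [mul_inv_eq_iff_eq_mul, hC.Φ_mul, h, ← hC.Φ_mul, ← hC.Φ_mul]
  · intro x hx hxW h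
    obtain ⟨s, hs, rfl⟩ := hC.exists_A hx
    obtain ⟨t, ht, htx⟩ := hC.exists_A (hu _ hx)
    rw [← htx, hidx s t hs ht, hC.base.idx_u htx] at h
    exact (Pt.cy_props _ (hout s hs hxW)).1 h.symm
  · intro x hx hxW y hy hyW
    obtain ⟨s, hs, rfl⟩ := hC.exists_A hx
    obtain ⟨r, hr, rfl⟩ := hC.exists_A hy
    obtain ⟨t, ht, htx⟩ := hC.exists_A (hu _ hx)
    obtain ⟨t', ht', htx'⟩ := hC.exists_A (hu _ (hu _ hx))
    have i1 : t.1 = Pt.cy s.1 := hC.base.idx_u htx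
    have i2 : t'.1 = Pt.cy t.1 := hC.base.idx_u (by rw [htx', htx])
    rw [← htx', ← htx, hidx s r hs hr, hidx t r ht hr, hidx t' r ht' hr, i2, i1]
    rcases (Pt.cy_props _ (hout s hs hxW)).2.2 r.1 (hout r hr hyW) with h | h | h
    · exact Or.inl h.symm
    · exact Or.inr (Or.inl h.symm)
    · exact Or.inr (Or.inr h.symm)

theorem e0_S {x : G} (hx : x ∈ hC.base.S) : e 0 * x * (e 0)⁻¹ ∈ hC.base.S :=
  hC.base.S_conj hC.base.e0_props.1 hx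

theorem e0_A {x : G} : x ∈ hC.A ↔ e 0 * x * (e 0)⁻¹ ∈ hC.B := by
  constructor
  · intro hx
    refine ⟨mem_centralizer_singleton_iff.2 ?_, hC.e0_S hx.2⟩
    calc e 0 * x * (e 0)⁻¹ * (e 0 * p * (e 0)⁻¹) = e 0 * (x * p) * (e 0)⁻¹ := by group
      _ = e 0 * (p * x) * (e 0)⁻¹ := by rw [mem_centralizer_singleton_iff.1 hx.1]
      _ = e 0 * p * (e 0)⁻¹ * (e 0 * x * (e 0)⁻¹) := by group
  · intro hx
    refine ⟨mem_centralizer_singleton_iff.2 ?_, ?_⟩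
    · refine mul_left_cancel (a := e 0) (mul_right_cancel (b := (e 0)⁻¹) ?_)
      calc e 0 * (x * p) * (e 0)⁻¹ = e 0 * x * (e 0)⁻¹ * (e 0 * p * (e 0)⁻¹) := by group
        _ = e 0 * p * (e 0)⁻¹ * (e 0 * x * (e 0)⁻¹) := mem_centralizer_singleton_iff.1 hx.1
        _ = e 0 * (p * x) * (e 0)⁻¹ := by group
    · rw [← hC.base.e0_conj_conj x]; exact hC.e0_S hx.2

theorem e0_B {x : G} : x ∈ hC.B ↔ e 0 * x * (e 0)⁻¹ ∈ hC.A := by
  conv_lhs => rw [← hC.base.e0_conj_conj x]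
  exact hC.e0_A.symm

theorem leg_B : Leg hC.base hC.B := by
  have hA := hC.leg_A
  have hcc := hC.base.e0_conj_conj
  have hW : ∀ {x}, x ∉ hC.base.W → e 0 * x * (e 0)⁻¹ ∉ hC.base.W := fun {x} h h' =>
    h (hcc x ▸ hC.base.e0_W h')
  have hu : ∀ x : G, e 0 * (u * x * u⁻¹) * (e 0)⁻¹ = u * (e 0 * x * (e 0)⁻¹) * u⁻¹ := by
    intro x
    have h' : u⁻¹ * (e 0)⁻¹ = (e 0)⁻¹ * u⁻¹ := by rw [← mul_inv_rev, hC.base.e0_u, mul_inv_rev]
    calc e 0 * (u * x * u⁻¹) * (e 0)⁻¹ = (e 0 * u) * x * (u⁻¹ * (e 0)⁻¹) := by group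
      _ = (u * e 0) * x * ((e 0)⁻¹ * u⁻¹) := by rw [hC.base.e0_u, h']
      _ = u * (e 0 * x * (e 0)⁻¹) * u⁻¹ := by group
  have hm : ∀ a b : G, e 0 * (a * b) * (e 0)⁻¹ = e 0 * a * (e 0)⁻¹ * (e 0 * b * (e 0)⁻¹) := fun a b => by group
  refine ⟨inf_le_right, fun x hx => hC.e0_B.2 (hA.W_le (hC.base.e0_W hx)), ?_, ?_, ?_, ?_, ?_, ?_, ?_, ?_⟩
  · rw [← hA.card]
    exact Nat.card_congr ((MulAut.conj (e 0)).toEquiv.subtypeEquiv fun x => hC.e0_B)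
  · intro x hx
    have h := hA.sq _ (hC.e0_B.1 hx)
    rw [← hm, conj_eq_one_iff] at h
    exact h
  · intro x hx y hy
    have h := hA.comm _ (hC.e0_B.1 hx) _ (hC.e0_B.1 hy)
    rw [← hm, ← hm] at h
    exact mul_left_cancel (mul_right_cancel h)
  · intro x hx hxW s hs h
    exact hC.e0_B.2 (hA.self _ (hC.e0_B.1 hx) (hW hxW) _ (hC.e0_S hs) (by rw [← hm, ← hm, h]))
  · intro x hx hxW v hv
    obtain ⟨s, hs, h⟩ := hA.coset _ (hC.e0_B.1 hx) (hW hxW) _ (hC.base.e0_W hv)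
    refine ⟨e 0 * s * (e 0)⁻¹, hC.e0_S hs, ?_⟩
    rw [← hm] at h
    rw [← hcc (x * v), ← h]
    conv_lhs => rw [← hcc x]
    group
  · intro x hx
    rw [hC.e0_B, hu]
    exact hA.u_conj _ (hC.e0_B.1 hx)
  · intro x hx hxW h
    apply hA.moves _ (hC.e0_B.1 hx) (hW hxW)
    have := hC.base.e0_W h
    rw [hm, hu] at this
    convert this using 2
    group
  · intro x hx hxW y hy hyW
    have h := hA.cover _ (hC.e0_B.1 hx) (hW hxW) _ (hC.e0_B.1 hy) (hW hyW)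
    rw [← hu, ← hu] at h
    have back : ∀ a b : G, (e 0 * a * (e 0)⁻¹)⁻¹ * (e 0 * b * (e 0)⁻¹) ∈ hC.base.W → a⁻¹ * b ∈ hC.base.W := by
      intro a b h'
      have := hC.base.e0_W h'
      rw [hm, ← conj_inv, hcc, hcc] at this
      exact this
    exact h.imp (back _ _) (Or.imp (back _ _) (back _ _))

/-- Involutions of `S₀` lie in one of the two subgroups. -/
theorem inv_AB {x : G} (hx : x ∈ hC.base.S) (hxx : x * x = 1) : x ∈ hC.A ∨ x ∈ hC.B := by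
  obtain ⟨t, ht, rfl⟩ := hC.base.exists_Φ hx
  rw [hC.Φ_mul, ← hC.Φ_one] at hxx
  exact (Pt.inv_AB t ht (hC.base.Φ_inj hxx)).imp (hC.mem_A ht).2 (hC.mem_B ht).2

theorem inf_AB {x : G} (hA : x ∈ hC.A) (hB' : x ∈ hC.B) : x ∈ hC.base.W := by
  obtain ⟨t, ht, rfl⟩ := hC.base.exists_Φ hA.2
  exact (hC.base.Φ_W t).2 (Pt.AB t ((hC.mem_A ht).1 hA) ((hC.mem_B ht).1 hB'))

theorem center_le {x : G} (hx : x ∈ hC.base.S) (h : ∀ y ∈ hC.base.S, x * y = y * x) : x ∈ hC.base.W :=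
  hC.inf_AB ⟨mem_centralizer_singleton_iff.2 (h _ (by have h' := hC.base.Φ_mem_S Pt.P (by decide); rwa [hC.base.Φ_P] at h')), hx⟩
    ⟨mem_centralizer_singleton_iff.2 (h _ (by have h' := hC.base.Φ_mem_S Pt.P' (by decide); rwa [hC.base.Φ_P'] at h')), hx⟩

/-- Elements normalising `S₀` normalise `W`. -/
theorem normalizes_W {n : G} (hn : ∀ x ∈ hC.base.S, n * x * n⁻¹ ∈ hC.base.S) {x : G} (hx : x ∈ hC.base.W) :
    n * x * n⁻¹ ∈ hC.base.W := by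
  have hbij : ∀ y ∈ hC.base.S, ∃ y' ∈ hC.base.S, n * y' * n⁻¹ = y := by
    let f : hC.base.S → hC.base.S := fun y => ⟨n * y * n⁻¹, hn _ y.2⟩
    have hf : Function.Injective f := fun a b h =>
      Subtype.ext (mul_left_cancel (mul_right_cancel (congrArg Subtype.val h)))
    intro y hy
    obtain ⟨y', hy'⟩ := Finite.injective_iff_surjective.1 hf ⟨y, hy⟩
    exact ⟨y', y'.2, congrArg Subtype.val hy'⟩
  refine hC.center_le (hn _ (hC.base.W_le_S hx)) fun y hy => ?_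
  obtain ⟨y', hy', rfl⟩ := hbij y hy
  have h := hC.base.comm_W (hC.base.S_le_H hy') (hC.base.S_le_K hy') hx
  calc n * x * n⁻¹ * (n * y' * n⁻¹) = n * (x * y') * n⁻¹ := by group
    _ = n * (y' * x) * n⁻¹ := by rw [h]
    _ = n * y' * n⁻¹ * (n * x * n⁻¹) := by group

theorem exists_mem_AB {x : G} (hx : x ∈ hC.base.S) : ∃ a ∈ hC.A, a * x ∈ hC.B := by
  obtain ⟨t, ht, rfl⟩ := hC.base.exists_Φ hx
  obtain ⟨a, ha, hb⟩ := Pt.gen_AB t ht
  refine ⟨_, (hC.mem_A ha.1).2 ha, ?_⟩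
  rw [hC.Φ_mul]
  exact (hC.mem_B hb.1).2 hb

theorem noncomm : ∃ a ∈ hC.A, ∃ b ∈ hC.B, a * b ≠ b * a := by
  obtain ⟨h1, h2, h3, -⟩ := Pt.noncomm
  exact ⟨_, (hC.mem_A h2.1).2 h2, _, (hC.mem_B h3.1).2 h3, fun h => h1 ((hC.Φ_comm _ _).1 h)⟩

/-- An elementary abelian subgroup of order 16 of `S₀` is one of the two. -/
theorem eq_A_or_B {T : Subgroup G} (hT : T ≤ hC.base.S) (hcard : Nat.card ↥T = 16)
    (hsq : ∀ x ∈ T, x * x = 1) (hcomm : ∀ x ∈ T, ∀ y ∈ T, x * y = y * x) : T = hC.A ∨ T = hC.B := by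
  obtain ⟨x, hxT, hxW⟩ : ∃ x ∈ T, x ∉ hC.base.W := by
    by_contra h
    push_neg at h
    have := (card_le_of_le h).trans hC.base.card_W_le
    omega
  rcases hC.inv_AB (hT hxT) (hsq x hxT) with h | h
  · exact Or.inl (eq_of_le_of_card_ge (fun y hy => hC.leg_A.self x h hxW y (hT hy) (hcomm y hy x hxT))
      (by rw [hcard, hC.leg_A.card]))
  · exact Or.inr (eq_of_le_of_card_ge (fun y hy => hC.leg_B.self x h hxW y (hT hy) (hcomm y hy x hxT))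
      (by rw [hcard, hC.leg_B.card]))

end Base0

end CfsgLib.Recog.AutLThreeFour
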