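import Mathlib.Algebra.Group.Pi.Basic
import Mathlib.Algebra.Group.MinimalAxioms
import Mathlib.Tactic.FinCases
import Mathlib.Tactic.Ring
import Mathlib.Data.ZMod.Basic
import Mathlib.GroupTheory.Perm.Basic
import Mathlib.Data.Fintype.Perm
import Mathlib.GroupTheory.SpecificGroups.Cyclic
import Mathlib.Tactic.Group

/-!
Owner: helper28. The extraspecial group of order 32 of minus type on four pairwise non-commuting involutions
and its signed permutation automorphisms.
-/

set_option autoImplicit false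
set_option linter.all false

namespace CfsgLib.Recog.AutLThreeFour

/-- `e₀^a e₁^b e₂^c e₃^d z^f`. -/
@[ext] structure Mo where
  a : ZMod 2
  b : ZMod 2
  c : ZMod 2
  d : ZMod 2
  f : ZMod 2
deriving DecidableEq

namespace Mo

def equiv : Mo ≃ ZMod 2 × ZMod 2 × ZMod 2 × ZMod 2 × ZMod 2 where
  toFun m := (m.a, m.b, m.c, m.d, m.f)
  invFun t := ⟨t.1, t.2.1, t.2.2.1, t.2.2.2.1, t.2.2.2.2⟩

instance : Fintype Mo := Fintype.ofEquiv _ equiv.symm

theorem card_eq : Fintype.card Mo = 32 := by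
  rw [Fintype.card_congr equiv]; rfl

instance : Mul Mo :=
  ⟨fun m n => ⟨m.a + n.a, m.b + n.b, m.c + n.c, m.d + n.d,
    m.f + n.f + m.b * n.a + m.c * (n.a + n.b) + m.d * (n.a + n.b + n.c)⟩⟩

instance : One Mo := ⟨⟨0, 0, 0, 0, 0⟩⟩

instance : Inv Mo :=
  ⟨fun m => ⟨m.a, m.b, m.c, m.d, m.f + m.b * m.a + m.c * (m.a + m.b) + m.d * (m.a + m.b + m.c)⟩⟩

theorem mul_def (m n : Mo) : m * n = ⟨m.a + n.a, m.b + n.b, m.c + n.c, m.d + n.d,
    m.f + n.f + m.b * n.a + m.c * (n.a + n.b) + m.d * (n.a + n.b + n.c)⟩ := rfl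

theorem one_def : (1 : Mo) = ⟨0, 0, 0, 0, 0⟩ := rfl

instance : Group Mo :=
  Group.ofLeftAxioms
    (fun x y w => by ext <;> simp only [mul_def] <;> ring)
    (fun x => by ext <;> simp only [mul_def, one_def] <;> ring)
    (by decide)

def gen : Fin 4 → Mo
  | 0 => ⟨1, 0, 0, 0, 0⟩
  | 1 => ⟨0, 1, 0, 0, 0⟩
  | 2 => ⟨0, 0, 1, 0, 0⟩
  | 3 => ⟨0, 0, 0, 1, 0⟩

def zz : Mo := ⟨0, 0, 0, 0, 1⟩

/-- The product of the four generators. -/
def om : Mo := ⟨1, 1, 1, 1, 0⟩

/-- `q` is a multiple of `z`. -/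
def zp (x : ZMod 2) : Mo := ⟨0, 0, 0, 0, x⟩

theorem decomp : ∀ n : Mo, n = gen 0 ^ n.a.val * gen 1 ^ n.b.val * gen 2 ^ n.c.val * gen 3 ^ n.d.val * zz ^ n.f.val := by
  decide

theorem central : ∀ m : Mo, (∀ i, m * gen i = gen i * m) → m = 1 ∨ m = zz := by decide

end Mo

/-- A signed permutation: `i ↦ e (π i) z^(c i)`. -/
abbrev Sig := Equiv.Perm (Fin 4) × (ZMod 2 × ZMod 2 × ZMod 2 × ZMod 2)

namespace Sig

def sgn (s : Sig) : Fin 4 → ZMod 2
  | 0 => s.2.1
  | 1 => s.2.2.1
  | 2 => s.2.2.2.1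
  | 3 => s.2.2.2.2

def img (s : Sig) (i : Fin 4) : Mo := Mo.gen (s.1 i) * Mo.zp (sgn s i)

/-- The automorphism of the model. -/
def act (s : Sig) (m : Mo) : Mo :=
  img s 0 ^ m.a.val * img s 1 ^ m.b.val * img s 2 ^ m.c.val * img s 3 ^ m.d.val * Mo.zz ^ m.f.val

def comp (s t : Sig) : Sig :=
  (s.1 * t.1, sgn t 0 + sgn s (t.1 0), sgn t 1 + sgn s (t.1 1), sgn t 2 + sgn s (t.1 2), sgn t 3 + sgn s (t.1 3))

def idS : Sig := (1, 0, 0, 0, 0)

theorem sgn_comp (s t : Sig) : ∀ i, sgn (comp s t) i = sgn t i + sgn s (t.1 i)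
  | 0 => rfl
  | 1 => rfl
  | 2 => rfl
  | 3 => rfl

theorem ext' {s t : Sig} (h : s.1 = t.1) (h' : ∀ i, sgn s i = sgn t i) : s = t := by
  obtain ⟨p, a, b, c, d⟩ := s
  obtain ⟨p', a', b', c', d'⟩ := t
  exact Prod.ext h (Prod.ext (h' 0) (Prod.ext (h' 1) (Prod.ext (h' 2) (h' 3))))

theorem card_sig : Fintype.card Sig = 384 := by
  rw [Fintype.card_prod, Fintype.card_perm]; rfl

end Sig

section Theta

variable {G : Type*} [Group G] (e : Fin 4 → G) (z : G)

/-- The map from the model. -/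
def theta (m : Mo) : G := e 0 ^ m.a.val * e 1 ^ m.b.val * e 2 ^ m.c.val * e 3 ^ m.d.val * z ^ m.f.val

/-- Four pairwise non-commuting involutions with commutator `z`. -/
structure Rel : Prop where
  sq : ∀ i, e i * e i = 1
  zsq : z * z = 1
  swap : ∀ i j, i ≠ j → e j * e i = e i * e j * z
  zc : ∀ i, z * e i = e i * z

variable {e z}

theorem zmod_two_cases : ∀ x : ZMod 2, x = 0 ∨ x = 1 := by decide

theorem theta_mul_gen (h : Rel e z) (m : Mo) (k : Fin 4) : theta e z (m * Mo.gen k) = theta e z m * e k := by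
  obtain ⟨a, b, c, d, f⟩ := m
  have hsq : ∀ i (x : G), x * e i * e i = x := fun i x => by rw [mul_assoc, h.sq, mul_one]
  have hz : ∀ x : G, x * z * z = x := fun x => by rw [mul_assoc, h.zsq, mul_one]
  have hze : ∀ i (x : G), x * z * e i = x * e i * z := fun i x => by rw [mul_assoc, h.zc, ← mul_assoc]
  have s10 : ∀ x : G, x * e 1 * e 0 = x * e 0 * e 1 * z := fun x => by
    rw [mul_assoc, h.swap 0 1 (by decide), ← mul_assoc, ← mul_assoc]
  have s20 : ∀ x : G, x * e 2 * e 0 = x * e 0 * e 2 * z := fun x => by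
    rw [mul_assoc, h.swap 0 2 (by decide), ← mul_assoc, ← mul_assoc]
  have s30 : ∀ x : G, x * e 3 * e 0 = x * e 0 * e 3 * z := fun x => by
    rw [mul_assoc, h.swap 0 3 (by decide), ← mul_assoc, ← mul_assoc]
  have s21 : ∀ x : G, x * e 2 * e 1 = x * e 1 * e 2 * z := fun x => by
    rw [mul_assoc, h.swap 1 2 (by decide), ← mul_assoc, ← mul_assoc]
  have s31 : ∀ x : G, x * e 3 * e 1 = x * e 1 * e 3 * z := fun x => by
    rw [mul_assoc, h.swap 1 3 (by decide), ← mul_assoc, ← mul_assoc]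
  have s32 : ∀ x : G, x * e 3 * e 2 = x * e 2 * e 3 * z := fun x => by
    rw [mul_assoc, h.swap 2 3 (by decide), ← mul_assoc, ← mul_assoc]
  have t10 : e 1 * e 0 = e 0 * e 1 * z := h.swap 0 1 (by decide)
  have t20 : e 2 * e 0 = e 0 * e 2 * z := h.swap 0 2 (by decide)
  have t30 : e 3 * e 0 = e 0 * e 3 * z := h.swap 0 3 (by decide)
  have t21 : e 2 * e 1 = e 1 * e 2 * z := h.swap 1 2 (by decide)
  have t31 : e 3 * e 1 = e 1 * e 3 * z := h.swap 1 3 (by decide)
  have t32 : e 3 * e 2 = e 2 * e 3 * z := h.swap 2 3 (by decide)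
  have q : (1 + 1 : ZMod 2) = 0 := by decide
  rcases zmod_two_cases a with rfl | rfl <;> rcases zmod_two_cases b with rfl | rfl <;>
    rcases zmod_two_cases c with rfl | rfl <;> rcases zmod_two_cases d with rfl | rfl <;>
    rcases zmod_two_cases f with rfl | rfl <;> fin_cases k <;>
    simp [theta, Mo.mul_def, Mo.gen, q, ZMod.val_one, ← mul_assoc, h.sq, h.zsq, h.zc, hsq, hz, hze,
      s10, s20, s30, s21, s31, s32, t10, t20, t30, t21, t31, t32]

theorem theta_mul_zz (h : Rel e z) (m : Mo) : theta e z (m * Mo.zz) = theta e z m * z := by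
  obtain ⟨a, b, c, d, f⟩ := m
  have q : (1 + 1 : ZMod 2) = 0 := by decide
  rcases zmod_two_cases f with rfl | rfl <;>
    simp [theta, Mo.mul_def, Mo.zz, q, ZMod.val_one, mul_assoc, h.zsq]

/-- The model maps homomorphically. -/
def thetaHom (h : Rel e z) : Mo →* G where
  toFun := theta e z
  map_one' := by
    show theta e z ⟨0, 0, 0, 0, 0⟩ = 1
    simp [theta]
  map_mul' m n := by
    have hp : ∀ (k : Fin 4) (v : ℕ) (m : Mo), theta e z (m * Mo.gen k ^ v) = theta e z m * e k ^ v := by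
      intro k v
      induction v with
      | zero => intro m; simp
      | succ v ih => intro m; rw [pow_succ, pow_succ, ← mul_assoc, theta_mul_gen h, ih, mul_assoc]
    have hq : ∀ (v : ℕ) (m : Mo), theta e z (m * Mo.zz ^ v) = theta e z m * z ^ v := by
      intro v
      induction v with
      | zero => intro m; simp
      | succ v ih => intro m; rw [pow_succ, pow_succ, ← mul_assoc, theta_mul_zz h, ih, mul_assoc]
    conv_lhs => rw [Mo.decomp n]
    simp only [← mul_assoc]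
    rw [hq, hp, hp, hp, hp]
    simp only [theta, mul_assoc]

theorem thetaHom_apply (h : Rel e z) (m : Mo) : thetaHom h m = theta e z m := rfl

theorem thetaHom_zz (h : Rel e z) : thetaHom h Mo.zz = z := by
  simp [thetaHom_apply, theta, Mo.zz, ZMod.val_one]

theorem thetaHom_gen (h : Rel e z) (i : Fin 4) : thetaHom h (Mo.gen i) = e i := by
  fin_cases i <;> simp [thetaHom_apply, theta, Mo.gen, ZMod.val_one]

theorem thetaHom_injective (h : Rel e z) (hz : z ≠ 1) : Function.Injective (thetaHom h) := by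
  rw [injective_iff_map_eq_one]
  intro m hm
  have hc : ∀ i, m * Mo.gen i = Mo.gen i * m := by
    intro i
    by_contra hne
    have key : ∀ (x : Mo) (j : Fin 4), x * Mo.gen j = Mo.gen j * x ∨ x * Mo.gen j = Mo.gen j * x * Mo.zz := by decide
    have h1 := congrArg (thetaHom h) ((key m i).resolve_left hne)
    simp only [map_mul, hm, one_mul, mul_one, thetaHom_zz] at h1
    exact hz (mul_eq_left.1 h1.symm)
  rcases Mo.central m hc with rfl | rfl
  · rfl
  · exact absurd (thetaHom_zz h ▸ hm) hz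

/-- An element acting by a signed permutation acts through `act`. -/
theorem conj_theta (h : Rel e z) {g : G} {s : Sig} (hgz : g * z * g⁻¹ = z)
    (hg : ∀ i, g * e i * g⁻¹ = e (s.1 i) * z ^ (Sig.sgn s i).val) (m : Mo) :
    g * thetaHom h m * g⁻¹ = thetaHom h (Sig.act s m) := by
  have hi : ∀ i, thetaHom h (Sig.img s i) = MulAut.conj g (e i) := fun i => by
    rw [Sig.img, map_mul, thetaHom_gen, MulAut.conj_apply, hg]
    congr 1
    rcases zmod_two_cases (Sig.sgn s i) with e' | e' <;> simp [e', Mo.zp, thetaHom_apply, theta, ZMod.val_one]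
  have hzz : MulAut.conj g z = z := hgz
  show MulAut.conj g (thetaHom h m) = _
  conv_lhs => rw [Mo.decomp m]
  simp only [Sig.act, map_mul, map_pow, hi, thetaHom_zz, thetaHom_gen, hzz]

end Theta

end CfsgLib.Recog.AutLThreeFour
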