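import Cfsg.Agent.Lib.Recog.AutLThreeFour.Outer
import Mathlib.Tactic.LinearCombination

/-!
Owner: helper28. The Sylow 2-subgroup of `C_K(z)` on pairs (four-group part, element of the model).
-/

set_option autoImplicit false
set_option linter.all false

namespace CfsgLib.Recog.AutLThreeFour

namespace Sig

/-- The fixed-point-free involutions, and the identity, as permutations. -/
def vperm : Fin 4 → Equiv.Perm (Fin 4)
  | 0 => 1
  | 1 => Equiv.swap 0 1 * Equiv.swap 2 3
  | 2 => Equiv.swap 0 2 * Equiv.swap 1 3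
  | 3 => Equiv.swap 0 3 * Equiv.swap 1 2

def vee (k : Fin 4) : Sig := (vperm k, 0, 0, 0, 0)

/-- The three-cycle fixing `0`. -/
def cyc : Sig := (Equiv.swap 1 3 * Equiv.swap 1 2, 0, 0, 0, 0)

end Sig

/-- An element `θ m * R k`. -/
abbrev Pt := Fin 4 × Mo

namespace Pt

/-- The four-group law on the indices. -/
def xr (k l : Fin 4) : Fin 4 := ![![0, 1, 2, 3], ![1, 0, 3, 2], ![2, 3, 0, 1], ![3, 2, 1, 0]] k l

/-- The action of the four-group on the model, written out. -/
def vact (k : Fin 4) (m : Mo) : Mo :=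
  match k with
  | 0 => m
  | 1 => ⟨m.b, m.a, m.d, m.c, m.f + m.a * m.b + m.c * m.d⟩
  | 2 => ⟨m.c, m.d, m.a, m.b, m.f + (m.a + m.b) * (m.c + m.d)⟩
  | 3 => ⟨m.d, m.c, m.b, m.a, m.f + m.a * m.b + m.a * m.c + m.a * m.d + m.b * m.c + m.b * m.d + m.c * m.d⟩

def mul (s t : Pt) : Pt := (xr s.1 t.1, s.2 * vact s.1 t.2)

def one : Pt := (0, 1)

def Ev (t : Pt) : Prop := t.2.a + t.2.b + t.2.c + t.2.d = 0

def P : Pt := (1, 1)

def P' : Pt := (1, Mo.gen 0 * Mo.gen 1)

def IsW (t : Pt) : Prop := t.1 = 0 ∧ (t.2 = 1 ∨ t.2 = Mo.zz ∨ t.2 = Mo.om ∨ t.2 = Mo.om * Mo.zz)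

def IsA (t : Pt) : Prop := Ev t ∧ mul t P = mul P t

def IsB (t : Pt) : Prop := Ev t ∧ mul t P' = mul P' t

instance : DecidablePred Ev := fun t => inferInstanceAs (Decidable (_ = _))
instance : DecidablePred IsW := fun t => inferInstanceAs (Decidable (_ ∧ _))
instance : DecidablePred IsA := fun t => inferInstanceAs (Decidable (_ ∧ _))
instance : DecidablePred IsB := fun t => inferInstanceAs (Decidable (_ ∧ _))

/-- The square in the twisted case. -/
def sqTw (t : Pt) : Mo := t.2 * vact t.1 t.2 * (if t.1 = 0 then 1 else Mo.zz)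

set_option maxRecDepth 100000

theorem act_vee : ∀ (k : Fin 4) (m : Mo), Sig.act (Sig.vee k) m = vact k m := by decide +kernel

theorem ev_mul (s t : Pt) (h1 : Ev s) (h2 : Ev t) : Ev (mul s t) := by
  have h : ∀ (k : Fin 4) (n : Mo), (vact k n).a + (vact k n).b + (vact k n).c + (vact k n).d = n.a + n.b + n.c + n.d := by
    decide
  have h' := h s.1 t.2
  simp only [Ev, mul, Mo.mul_def] at h1 h2 ⊢
  linear_combination h1 + h2 + h'

theorem inv_AB : ∀ t : Pt, Ev t → mul t t = one → IsA t ∨ IsB t := by decide +kernel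

theorem A_sq : ∀ t : Pt, IsA t → mul t t = one := by decide +kernel

theorem A_comm : ∀ s : Pt, IsA s → ∀ t : Pt, IsA t → mul s t = mul t s := by decide +kernel

theorem A_self : ∀ t : Pt, IsA t → ¬ IsW t → ∀ s : Pt, Ev s → mul s t = mul t s → IsA s := by decide +kernel

theorem A_zero : ∀ t : Pt, IsA t → t.1 = 0 → IsW t := by decide +kernel

theorem A_coset : ∀ t : Pt, IsA t → ¬ IsW t → ∀ v : Pt, IsW v → ∃ g : Pt, Ev g ∧ mul g t = mul (mul t v) g := by
  decide +kernel

theorem A_diff : ∀ s : Pt, IsA s → ∀ t : Pt, IsA t → s.1 = t.1 → IsW (mul s t) := by decide +kernel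

theorem W_le_A : ∀ t : Pt, IsW t → IsA t ∧ IsB t := by decide +kernel

theorem AB : ∀ t : Pt, IsA t → IsB t → IsW t := by decide +kernel

theorem gen_AB : ∀ t : Pt, Ev t → ∃ a : Pt, IsA a ∧ IsB (mul a t) := by decide +kernel

theorem card_A : (Finset.univ.filter IsA).card = 16 := by decide +kernel

theorem A_perm : ∀ k : Fin 4, ∃ t : Pt, IsA t ∧ t.1 = k := by decide +kernel

theorem noncomm : mul P P' ≠ mul P' P ∧ IsA P ∧ IsB P' ∧ ¬ IsW P := by decide +kernel

theorem tw_inv : ∀ t : Pt, Ev t → sqTw t = 1 → IsW t := by decide +kernel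

theorem tw_count :
    (Finset.univ.filter fun t : Pt => Ev t ∧ sqTw t = Mo.zz).card ≠
      (Finset.univ.filter fun t : Pt => Ev t ∧ sqTw t = Mo.om).card ∧
    (Finset.univ.filter fun t : Pt => Ev t ∧ sqTw t = Mo.zz).card ≠
      (Finset.univ.filter fun t : Pt => Ev t ∧ sqTw t = Mo.om * Mo.zz).card := by
  decide +kernel

end Pt

end CfsgLib.Recog.AutLThreeFour
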