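import Cfsg.Agent.Lib.Recog.AutLThreeFour.Transfer

/-!
Owner: helper28. The two transfers are visible at two involutions of `C(z)`: a normal subgroup of index 4.
-/

set_option autoImplicit false
set_option linter.all false

namespace CfsgLib.Recog.AutLThreeFour

open Subgroup
open CfsgLib.Transfer.Coset

variable {G : Type*} [Group G] {z : G} {e : Fin 4 → G}

theorem visible_of (hF : Frame z e) {Ψ : Parity (centralizer ({z} : Set G))} {t : G} {τ : Sig}
    (ht : Acts z e t τ) (htt : t * t = 1) (h1 : Ψ.toFun t = 1) (x y w : Mo)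
    (hx : Sig.act τ x = x) (hy : Sig.act τ y = y) (hxy : x * y * x⁻¹ * y⁻¹ = Mo.zz) (hw : Sig.act τ w ≠ w)
    (key : ∀ s, Sig.comp s s = Sig.idS → Sig.comp s τ = Sig.comp τ s → Sig.act s x = x → Sig.act s y = y →
      s = Sig.idS ∨ s = τ ∨ s = innS w ∨ s = Sig.comp τ (innS w)) : Visible hF Ψ t := by
  refine ⟨ht.1, htt, h1, ⟨x, y, ((hF.commutes_iff ht x).2 hx).symm, ((hF.commutes_iff ht y).2 hy).symm, hxy⟩, ?_⟩
  intro u hu huu hut hum
  obtain ⟨s, hs⟩ := hF.exists_acts hu
  have hw' : ¬ t * hF.θ w = hF.θ w * t := fun h => hw ((hF.commutes_iff ht w).1 h)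
  have hzt : z * t = t * z := (mem_centralizer_singleton_iff.1 ht.1).symm
  rcases key s (hF.acts_unique (hF.acts_mul hs hs) (huu ▸ hF.acts_one))
      (hF.acts_unique (hF.acts_mul hs ht) (hut ▸ hF.acts_mul ht hs))
      ((hF.commutes_iff hs x).1 (hum x ((hF.commutes_iff ht x).2 hx).symm))
      ((hF.commutes_iff hs y).1 (hum y ((hF.commutes_iff ht y).2 hy).symm)) with h | h | h | h <;> subst h
  · rcases hF.eq_or_of_acts hF.acts_one hs with h | h
    · exact Or.inl h
    · exact Or.inr (Or.inl (by rw [h, one_mul]))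
  · rcases hF.eq_or_of_acts ht hs with h | h
    · exact Or.inr (Or.inr (Or.inl h))
    · exact Or.inr (Or.inr (Or.inr h))
  · exfalso; apply hw'
    rcases hF.eq_or_of_acts (hF.acts_θ w) hs with rfl | rfl
    · exact hut.symm
    · rw [mul_assoc, hzt, ← mul_assoc, ← mul_assoc] at hut
      exact (mul_right_cancel hut).symm
  · exfalso; apply hw'
    rcases hF.eq_or_of_acts (hF.acts_mul ht (hF.acts_θ w)) hs with rfl | rfl
    · rw [mul_assoc t (hF.θ w)] at hut
      exact (mul_left_cancel hut).symm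
    · rw [mul_assoc (t * hF.θ w) z t, hzt, ← mul_assoc, ← mul_assoc t (t * hF.θ w)] at hut
      rw [mul_assoc t (hF.θ w)] at hut
      exact (mul_left_cancel (mul_right_cancel hut)).symm

/-- Two of the sixteen sign vectors. -/
def Sig.sigma : Sig := (Equiv.swap 0 1, 0, 0, 0, 0)

def Sig.sigma' : Sig := (Equiv.swap 0 1, 0, 0, 1, 1)

set_option synthInstance.maxSize 4000 in
set_option maxRecDepth 100000 in
theorem key_gen : ∀ s, Sig.comp s s = Sig.idS → Sig.comp s (innS (Mo.gen 3)) = Sig.comp (innS (Mo.gen 3)) s →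
    Sig.act s (Mo.gen 0 * Mo.gen 1) = Mo.gen 0 * Mo.gen 1 → Sig.act s (Mo.gen 1 * Mo.gen 2) = Mo.gen 1 * Mo.gen 2 →
    s = Sig.idS ∨ s = innS (Mo.gen 3) ∨ s = innS (Mo.gen 0 * Mo.gen 1 * Mo.gen 2) ∨
      s = Sig.comp (innS (Mo.gen 3)) (innS (Mo.gen 0 * Mo.gen 1 * Mo.gen 2)) := by
  decide

set_option synthInstance.maxSize 4000 in
set_option maxRecDepth 100000 in
theorem key_sigma : ∀ s, Sig.comp s s = Sig.idS → Sig.comp s Sig.sigma = Sig.comp Sig.sigma s →
    Sig.act s (Mo.gen 2) = Mo.gen 2 → Sig.act s (Mo.gen 3) = Mo.gen 3 →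
    s = Sig.idS ∨ s = Sig.sigma ∨ s = innS (Mo.gen 0 * Mo.gen 1) ∨
      s = Sig.comp Sig.sigma (innS (Mo.gen 0 * Mo.gen 1)) := by
  decide

set_option synthInstance.maxSize 4000 in
set_option maxRecDepth 100000 in
theorem key_sigma' : ∀ s, Sig.comp s s = Sig.idS → Sig.comp s Sig.sigma' = Sig.comp Sig.sigma' s →
    Sig.act s (Mo.gen 0 * Mo.gen 1 * Mo.gen 2) = Mo.gen 0 * Mo.gen 1 * Mo.gen 2 →
    Sig.act s (Mo.gen 0 * Mo.gen 1 * Mo.gen 3) = Mo.gen 0 * Mo.gen 1 * Mo.gen 3 →
    s = Sig.idS ∨ s = Sig.sigma' ∨ s = innS (Mo.gen 0 * Mo.gen 1) ∨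
      s = Sig.comp Sig.sigma' (innS (Mo.gen 0 * Mo.gen 1)) := by
  decide

theorem sqrt_even : ∀ π : Equiv.Perm (Fin 4), Equiv.Perm.sign π = 1 → ∃ q : Equiv.Perm (Fin 4), q * q = π := by
  decide

theorem sqrt_signs : ∀ c : ZMod 2 × ZMod 2 × ZMod 2 × ZMod 2, c.1 + c.2.1 + c.2.2.1 + c.2.2.2 = 0 →
    ∃ q ∈ [1, Equiv.swap (0 : Fin 4) 1, Equiv.swap 2 3, Equiv.swap 0 2, Equiv.swap 1 3, Equiv.swap 0 3,
        Equiv.swap 1 2, Equiv.swap 0 1 * Equiv.swap 2 3],
      ∃ d : ZMod 2 × ZMod 2 × ZMod 2 × ZMod 2, Sig.comp (q, d) (q, d) = (1, c) := by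
  decide

set_option synthInstance.maxSize 4000 in
set_option maxRecDepth 100000 in
theorem sum_of_mov : ∀ s : Sig, Sig.par s = 0 → Sig.mov s = 0 → s.2.1 + s.2.2.1 + s.2.2.2.1 + s.2.2.2.2 = 0 := by
  decide

/-- Both characters vanish only on products of two squares. -/
theorem sq_cover (s : Sig) (hp : Sig.par s = 0) (hm : Sig.mov s = 0) :
    ∃ a b, Sig.comp (Sig.comp a a) (Sig.comp b b) = s := by
  obtain ⟨p, c⟩ := s
  obtain ⟨q, hq⟩ := sqrt_even p (by
    rcases Int.units_eq_one_or (Equiv.Perm.sign p) with h | h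
    · exact h
    · simp [Sig.par, h] at hp)
  obtain ⟨r, -, d, hd⟩ := sqrt_signs c (sum_of_mov _ hp hm)
  refine ⟨(q, 0, 0, 0, 0), (r, d), ?_⟩
  rw [hd]
  refine Sig.ext' ?_ fun i => ?_
  · show q * q * 1 = p
    rw [hq, mul_one]
  · rw [Sig.sgn_comp]
    have h0 : ∀ (q : Equiv.Perm (Fin 4)) (i : Fin 4), Sig.sgn (q, 0, 0, 0, 0) i = 0 := fun q i => by
      fin_cases i <;> rfl
    rw [Sig.sgn_comp, h0, h0, add_zero, add_zero]
    fin_cases i <;> rfl

namespace Frame

variable (hF : Frame z e)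
include hF

theorem exists_visible [Finite G] :
    (∀ Ψ : Parity (centralizer ({z} : Set G)), Ψ.toFun (e 3) = 1 → Visible hF Ψ (e 3)) ∧
      ∃ t, movF z e t = 1 ∧ parF z e t = 1 ∧ t ∈ centralizer ({z} : Set G) ∧
        ∀ Ψ : Parity (centralizer ({z} : Set G)), Ψ.toFun t = 1 → Visible hF Ψ t := by
  constructor
  · intro Ψ h
    refine visible_of hF (τ := innS (Mo.gen 3)) (hF.θ_gen 3 ▸ hF.acts_θ _) (hF.rel.sq 3) h
      (Mo.gen 0 * Mo.gen 1) (Mo.gen 1 * Mo.gen 2) (Mo.gen 0 * Mo.gen 1 * Mo.gen 2) (by decide) (by decide) (by decide) (by decide) key_gen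
  · obtain ⟨g, hg⟩ := hF.acts_surj Sig.sigma
    have hgg : g * g = 1 ∨ g * g = z := by
      have h := hF.acts_mul hg hg
      rw [show Sig.comp Sig.sigma Sig.sigma = Sig.idS by decide] at h
      rcases hF.eq_or_of_acts hF.acts_one h with h | h
      · exact Or.inl h
      · exact Or.inr (by rw [h, one_mul])
    rcases hgg with hgg | hgg
    · exact ⟨g, (hF.movF_eq hg).trans (by decide), (hF.parF_eq hg).trans (by decide), hg.1, fun Ψ h =>
        visible_of hF hg hgg h (Mo.gen 2) (Mo.gen 3) (Mo.gen 0 * Mo.gen 1)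
          (by decide) (by decide) (by decide) (by decide) key_sigma⟩
    · set m := Mo.gen 2 * Mo.gen 3 with hm
      have hgm : g * hF.θ m = hF.θ m * g := (hF.commutes_iff hg m).2 (by rw [hm]; decide)
      have h1 : g * hF.θ m * (g * hF.θ m) = 1 := by
        rw [show g * hF.θ m * (g * hF.θ m) = g * (hF.θ m * g) * hF.θ m by group, ← hgm,
          show g * (g * hF.θ m) * hF.θ m = (g * g) * (hF.θ m * hF.θ m) by group, ← map_mul,
          show m * m = Mo.zz by rw [hm]; decide, hF.θ_zz, hgg, hF.zsq]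
      have hs : Acts z e (g * hF.θ m) Sig.sigma' := by
        have h := hF.acts_mul hg (hF.acts_θ m)
        rwa [show Sig.comp Sig.sigma (innS m) = Sig.sigma' by rw [hm]; decide] at h
      exact ⟨_, (hF.movF_eq hs).trans (by decide), (hF.parF_eq hs).trans (by decide), hs.1, fun Ψ h =>
        visible_of hF hs h1 h (Mo.gen 0 * Mo.gen 1 * Mo.gen 2) (Mo.gen 0 * Mo.gen 1 * Mo.gen 3)
          (Mo.gen 0 * Mo.gen 1) (by decide) (by decide) (by decide) (by decide) key_sigma'⟩

theorem parF_gen : parF z e (e 3) = 0 ∧ movF z e (e 3) = 1 := by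
  have h : Acts z e (e 3) (innS (Mo.gen 3)) := hF.θ_gen 3 ▸ hF.acts_θ _
  exact ⟨(hF.parF_eq h).trans (by decide), (hF.movF_eq h).trans (by decide)⟩

/-- The normal subgroup of index 4. -/
theorem exists_index_four [Finite G] : ∃ K : Subgroup G, K.Normal ∧ K.index = 4 ∧
    ∀ g ∈ centralizer ({z} : Set G), g ∈ K ↔ movF z e g = 0 ∧ parF z e g = 0 := by
  classical
  haveI : Fintype (G ⧸ centralizer ({z} : Set G)) := Fintype.ofFinite _
  set U : Finset (G ⧸ centralizer ({z} : Set G)) := Finset.univ with hU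
  let T : G →* Multiplicative (ZMod 2) × Multiplicative (ZMod 2) := MonoidHom.mk'
    (fun g => (Multiplicative.ofAdd (hF.movP.T U g), Multiplicative.ofAdd (hF.parP.T U g)))
    fun a b => by
      rw [hF.movP.T_mul (fun _ _ => Finset.mem_univ _), hF.parP.T_mul (fun _ _ => Finset.mem_univ _)]
      rfl
  obtain ⟨hv1, t, htm, htp, htH, hv2⟩ := hF.exists_visible
  let Sg : Parity (centralizer ({z} : Set G)) :=
    { toFun := fun g => movF z e g + parF z e g
      map_mul := fun a ha b hb => by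
        rw [show movF z e (a * b) = _ from hF.movP.map_mul a ha b hb,
          show parF z e (a * b) = _ from hF.parP.map_mul a ha b hb]
        exact add_add_add_comm _ _ _ _ }
  have hlin : ∀ g, Sg.T U g = hF.movP.T U g + hF.parP.T U g := fun g => by
    simp only [Parity.T, ← Finset.sum_add_distrib]; rfl
  obtain ⟨hp3, hm3⟩ := hF.parF_gen
  have a1 : hF.movP.T U (e 3) = 1 := (hv1 hF.movP hm3).T_eq_one
  have a2 : hF.parP.T U (e 3) = 0 := by
    have h := (hv1 Sg (by show movF z e (e 3) + parF z e (e 3) = 1; rw [hm3, hp3]; rfl)).T_eq_one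
    rw [← hU, hlin, a1] at h
    exact left_eq_add.1 h.symm
  have b1 : hF.movP.T U t = 1 := (hv2 hF.movP htm).T_eq_one
  have b2 : hF.parP.T U t = 1 := (hv2 hF.parP htp).T_eq_one
  have hT3 : T (e 3) = (Multiplicative.ofAdd 1, Multiplicative.ofAdd 0) := by
    show (_, _) = _; rw [a1, a2]
  have hTt : T t = (Multiplicative.ofAdd 1, Multiplicative.ofAdd 1) := by
    show (_, _) = _; rw [b1, b2]
  have hsurj : Function.Surjective T := by
    intro v
    have : ∀ v : Multiplicative (ZMod 2) × Multiplicative (ZMod 2), v = 1 ∨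
        v = (Multiplicative.ofAdd 1, Multiplicative.ofAdd 0) ∨ v = (Multiplicative.ofAdd 1, Multiplicative.ofAdd 1) ∨
        v = (Multiplicative.ofAdd 1, Multiplicative.ofAdd 0) * (Multiplicative.ofAdd 1, Multiplicative.ofAdd 1) := by
      decide
    rcases this v with h | h | h | h
    · exact ⟨1, by rw [map_one, h]⟩
    · exact ⟨_, h ▸ hT3⟩
    · exact ⟨_, h ▸ hTt⟩
    · exact ⟨e 3 * t, by rw [map_mul, hT3, hTt, h]⟩
  have hsq : ∀ g : G, T (g * g) = 1 := fun g => by
    rw [map_mul]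
    have : ∀ v : Multiplicative (ZMod 2) × Multiplicative (ZMod 2), v * v = 1 := by decide
    exact this _
  have hz : T z = 1 := by
    have h : z = hF.θ (Mo.gen 0 * Mo.gen 1) * hF.θ (Mo.gen 0 * Mo.gen 1) := by
      rw [← map_mul, show Mo.gen 0 * Mo.gen 1 * (Mo.gen 0 * Mo.gen 1) = Mo.zz by decide, hF.θ_zz]
    rw [h, hsq]
  have hker : ∀ g ∈ centralizer ({z} : Set G), movF z e g = 0 → parF z e g = 0 → T g = 1 := by
    intro g hg hm hp
    obtain ⟨s, hs⟩ := hF.exists_acts hg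
    rw [hF.movF_eq hs] at hm
    rw [hF.parF_eq hs] at hp
    obtain ⟨a, b, hab⟩ := sq_cover s hp hm
    obtain ⟨u, hu⟩ := hF.acts_surj a
    obtain ⟨v, hv⟩ := hF.acts_surj b
    have h := hab ▸ hF.acts_mul (hF.acts_mul hu hu) (hF.acts_mul hv hv)
    rcases hF.eq_or_of_acts h hs with rfl | rfl
    · rw [map_mul, hsq, hsq, mul_one]
    · rw [map_mul, map_mul, hsq, hsq, hz, mul_one, mul_one]
  refine ⟨T.ker, inferInstance, ?_, fun g hg => ⟨fun h => ?_, fun h => hker g hg h.1 h.2⟩⟩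
  · rw [index_ker, MonoidHom.range_eq_top.2 hsurj, card_top, Nat.card_eq_fintype_card]
    rfl
  · -- the restriction of `T` has the same kernel as the two characters
    have hte : e 3 ∈ centralizer ({z} : Set G) := hF.e_mem 3
    have hm : ∀ a ∈ centralizer ({z} : Set G), ∀ b ∈ centralizer ({z} : Set G),
        movF z e (a * b) = movF z e a + movF z e b ∧ parF z e (a * b) = parF z e a + parF z e b :=
      fun a ha b hb => ⟨hF.movP.map_mul a ha b hb, hF.parP.map_mul a ha b hb⟩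
    rcases zmod_two_cases (movF z e g) with h1 | h1 <;> rcases zmod_two_cases (parF z e g) with h2 | h2
    · exact ⟨h1, h2⟩
    all_goals exfalso
    · have h3 := hker (g * e 3 * t) (mul_mem (mul_mem hg hte) htH)
        (by rw [(hm _ (mul_mem hg hte) _ htH).1, (hm _ hg _ hte).1, h1, hm3, htm]; decide)
        (by rw [(hm _ (mul_mem hg hte) _ htH).2, (hm _ hg _ hte).2, h2, hp3, htp]; decide)
      rw [map_mul, map_mul, (MonoidHom.mem_ker).1 h, one_mul, hT3, hTt] at h3
      exact absurd h3 (by decide)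
    · have h3 := hker (g * e 3) (mul_mem hg hte) (by rw [(hm _ hg _ hte).1, h1, hm3]; decide)
        (by rw [(hm _ hg _ hte).2, h2, hp3]; decide)
      rw [map_mul, (MonoidHom.mem_ker).1 h, one_mul, hT3] at h3
      exact absurd h3 (by decide)
    · have h3 := hker (g * t) (mul_mem hg htH) (by rw [(hm _ hg _ htH).1, h1, htm]; decide)
        (by rw [(hm _ hg _ htH).2, h2, htp]; decide)
      rw [map_mul, (MonoidHom.mem_ker).1 h, one_mul, hTt] at h3
      exact absurd h3 (by decide)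

end Frame

end CfsgLib.Recog.AutLThreeFour
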