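import Cfsg.Agent.Lib.Recog.AutLThreeFour.CentU
import Cfsg.Agent.Lib.TwoGroups.StrongEmbedding

/-!
Owner: helper28. The subgroup generated by the 2-elements of the subgroup of index 4.
-/

set_option autoImplicit false
set_option linter.all false

namespace CfsgLib.Recog.AutLThreeFour

open Subgroup
open scoped Pointwise

theorem Pt.comm_W : ∀ g : Pt, Pt.Ev g → ∀ t : Pt, Pt.Ev t →
    Pt.IsW (Pt.mul (Pt.mul (Pt.mul g t) (Pt.mul (Pt.mul g g) g)) (Pt.mul (Pt.mul t t) t)) := by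
  decide +kernel

theorem Pt.inv_eq : ∀ g : Pt, Pt.Ev g → Pt.mul g (Pt.mul (Pt.mul g g) g) = Pt.one := by decide +kernel

variable {G : Type*} [Group G] [Finite G] {z : G} {e : Fin 4 → G} {K : Subgroup G} {p u : G}

namespace Leg

/-- `A/W` has only three nontrivial elements. -/
theorem four {hB : Base z e K p u} {A : Subgroup G} (hA : Leg hB A) {x y c : G} (hx : x ∈ A) (hy : y ∈ A)
    (hc : c ∈ A) (hxW : x ∉ hB.W) (hyW : y ∉ hB.W) (hcW : c ∉ hB.W) (hxy : x * y ∉ hB.W) (hxc : x * c ∉ hB.W)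
    (hyc : y * c ∉ hB.W) : x * y * c ∈ hB.W := by
  have hinv : ∀ a ∈ A, a⁻¹ = a := fun a ha => inv_eq_of_mul_eq_one_left (hA.sq a ha)
  have h1 := hA.u_conj x hx
  have h2 := hA.u_conj _ h1
  have hrel : ∀ a b d : G, a ∈ A → b ∈ A → d ∈ A → a⁻¹ * b ∈ hB.W → a⁻¹ * d ∈ hB.W → b * d ∈ hB.W := by
    intro a b d ha hb hd h h'
    have := mul_mem (inv_mem h) h'
    rw [mul_inv_rev, inv_inv, mul_assoc, mul_inv_cancel_left, hinv b hb] at this
    exact this
  have hy' := hA.cover x hx hxW y hy hyW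
  have hc' := hA.cover x hx hxW c hc hcW
  have hxy' := hA.cover x hx hxW (x * y) (mul_mem hx hy) hxy
  have hxi : ∀ a, x⁻¹ * a = x * a := fun a => by rw [hinv x hx]
  rw [hxi] at hy' hc' hxy'
  have hxxy : x * (x * y) = y := by rw [← mul_assoc, hA.sq x hx, one_mul]
  rw [hxxy] at hxy'
  have hyxy : y * (x * y) = x := by
    rw [hA.comm x hx y hy, ← mul_assoc, hA.sq y hy, one_mul]
  have k1 : ∀ a ∈ A, a⁻¹ * y ∈ hB.W → a⁻¹ * c ∈ hB.W → False := fun a ha h h' => hyc (hrel a y c ha hy hc h h')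
  have k2 : ∀ a ∈ A, a⁻¹ * y ∈ hB.W → a⁻¹ * (x * y) ∈ hB.W → False := fun a ha h h' =>
    hxW (by have h3 := hrel a y _ ha hy (mul_mem hx hy) h h'; rwa [hyxy] at h3)
  have k3 : ∀ a ∈ A, a⁻¹ * (x * y) ∈ hB.W → a⁻¹ * c ∈ hB.W → x * y * c ∈ hB.W :=
    fun a ha h h' => hrel a _ c ha (mul_mem hx hy) hc h h'
  rcases hy'.resolve_left hxy with hy2 | hy2
  · rcases hc'.resolve_left hxc with hc2 | hc2
    · exact (k1 _ h1 hy2 hc2).elim
    · rcases hxy'.resolve_left hyW with hm2 | hm2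
      · exact (k2 _ h1 hy2 hm2).elim
      · exact k3 _ h2 hm2 hc2
  · rcases hc'.resolve_left hxc with hc2 | hc2
    · rcases hxy'.resolve_left hyW with hm2 | hm2
      · exact k3 _ h1 hm2 hc2
      · exact (k2 _ h2 hy2 hm2).elim
    · exact (k1 _ h2 hy2 hc2).elim

end Leg

namespace Base0

variable (hC : Base0 z e K p u) (hns : ¬ Group.IsSolvable G)
include hC

/-- The subgroup generated by the 2-elements of `K`. -/
def res2 (hC : Base0 z e K p u) : Subgroup G := closure {g : G | g ∈ K ∧ ∃ k, g ^ 2 ^ k = 1}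

theorem res2_normal : hC.res2.Normal := by
  haveI := hC.base.normal
  refine ⟨fun n hn g => ?_⟩
  induction hn using closure_induction with
  | mem x hx =>
    obtain ⟨hxK, k, hk⟩ := hx
    exact subset_closure ⟨Subgroup.Normal.conj_mem inferInstance x hxK g, k, by rw [conj_pow, hk]; group⟩
  | one => rw [show g * 1 * g⁻¹ = 1 by group]; exact one_mem _
  | mul a b _ _ ha hb => rw [show g * (a * b) * g⁻¹ = g * a * g⁻¹ * (g * b * g⁻¹) by group]; exact mul_mem ha hb
  | inv a _ ha => rw [show g * a⁻¹ * g⁻¹ = (g * a * g⁻¹)⁻¹ by group]; exact inv_mem ha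

theorem res2_le : hC.res2 ≤ K := by
  rw [res2, closure_le]; exact fun x hx => hx.1

theorem mem_res2_of_two {g : G} (hg : g ∈ K) {k : ℕ} (h : g ^ 2 ^ k = 1) : g ∈ hC.res2 := subset_closure ⟨hg, k, h⟩

theorem S_le_res2 : hC.base.S ≤ hC.res2 := fun g hg => by
  obtain ⟨k, hk⟩ := hC.base.isPGroup_S ⟨g, hg⟩
  exact hC.mem_res2_of_two (hC.base.S_le_K hg) (k := k) (by simpa using congrArg Subtype.val hk)

theorem A_le_res2 : hC.A ≤ hC.res2 := fun _ h => hC.S_le_res2 h.2

include hns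

theorem u_not_mem : u ∉ hC.res2 := by
  obtain ⟨N, hN, huN, h⟩ := hC.exists_not_u hns
  intro hu
  have key : ∀ g ∈ hC.res2, ∀ hg : g ∈ K, (⟨g, hg⟩ : ↥K) ∈ N := by
    intro g hg
    induction hg using closure_induction with
    | mem x hx =>
      obtain ⟨hxK, k, hk⟩ := hx
      intro hx'
      refine h _ ((Nat.Coprime.pow_left k (show Nat.Coprime 2 3 by norm_num)).coprime_dvd_left ?_)
      exact orderOf_dvd_of_pow_eq_one (Subtype.ext (by simpa using hk))
    | one => intro _; exact one_mem N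
    | mul a b ha hb iha ihb => intro _; exact mul_mem (iha (hC.res2_le ha)) (ihb (hC.res2_le hb))
    | inv a ha iha => intro _; exact inv_mem (iha (hC.res2_le ha))
  exact huN (key u hu hC.base.u_mem)

theorem mem_S_of_res2 {g : G} (hg : g ∈ hC.res2) (hz : g ∈ centralizer ({z} : Set G)) : g ∈ hC.base.S := by
  have hu := hC.u_not_mem hns
  rcases hC.base.exists_pow_u hz (hC.res2_le hg) with h | h | h
  · exact h
  · refine absurd ?_ hu
    have := mul_mem (hC.S_le_res2 h) (inv_mem hg)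
    simpa using this
  · refine absurd ?_ hu
    have h1 := mul_mem (hC.S_le_res2 h) (inv_mem hg)
    rw [mul_inv_cancel_right] at h1
    have h2 := inv_mem h1
    rwa [inv_eq_of_mul_eq_one_left (show u * (u * u) = 1 by rw [← mul_assoc]; exact hC.base.hu3)] at h2

theorem mem_S_of_cent {g x : G} (hg : g ∈ hC.res2) (hx : x ∈ hC.base.W) (hx1 : x ≠ 1) (h : g * x = x * g) :
    g ∈ hC.base.S := by
  have h' : g ∈ centralizer ({x} : Set G) ⊓ K := ⟨mem_centralizer_singleton_iff.2 h, hC.res2_le hg⟩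
  rw [hC.centW hns hx hx1] at h'
  exact hC.mem_S_of_res2 hns hg h'.1

/-- An odd-order normal subgroup of a subgroup of the residual containing `W` is trivial. -/
theorem odd_trivial {X : Subgroup G} (hX : X ≤ hC.res2) (hWX : hC.base.W ≤ X) {N : Subgroup ↥X} [N.Normal]
    (hN : Odd (Nat.card ↥N)) : N = ⊥ := by
  have hfix : ∀ t, (ht : t ∈ hC.base.W) → t ≠ 1 → ∀ a ∈ N, (⟨t, hWX ht⟩ : X) * a = a * ⟨t, hWX ht⟩ → a = 1 := by
    intro t ht ht1 a ha h
    have haS := hC.mem_S_of_cent hns (hX a.2) ht ht1 (congrArg Subtype.val h).symm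
    obtain ⟨k, hk⟩ := hC.base.isPGroup_S ⟨_, haS⟩
    have h2 : orderOf a ∣ 2 ^ k := orderOf_dvd_of_pow_eq_one (Subtype.ext (by simpa using congrArg Subtype.val hk))
    have hodd := odd_orderOf_of_mem hN ha
    rw [← orderOf_eq_one_iff]
    exact Nat.eq_one_of_dvd_coprimes (Nat.Coprime.pow_right k (Nat.coprime_two_right.2 hodd)) (dvd_refl _) h2
  have hinv : ∀ t, (ht : t ∈ hC.base.W) → t ≠ 1 → ∀ a ∈ N, (⟨t, hWX ht⟩ : X) * a * ⟨t, hWX ht⟩ = a⁻¹ :=
    fun t ht ht1 a ha => inverts_of_fixed_trivial (Subtype.ext (hC.base.W_inv ht)) (hfix t ht ht1) ha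
  rw [eq_bot_iff]
  intro a ha
  obtain ⟨hw1, hwz, hwz1, -⟩ := hC.base.w_props
  have hwm : hC.base.frame.θ Mo.om ∈ hC.base.W := hC.base.mem_W.2 (by simp)
  set zz : X := ⟨z, hWX hC.base.z_mem_W⟩ with hzz
  set ww : X := ⟨_, hWX hwm⟩ with hww
  have hw2 : ww * ww = 1 := Subtype.ext (hC.base.W_inv hwm)
  have hz2 : zz * zz = 1 := Subtype.ext hC.base.frame.zsq
  have h1 : ww * zz * a = a * (ww * zz) := by
    have e1 : zz * a * zz = a⁻¹ := hinv z hC.base.z_mem_W hC.base.frame.z1 a ha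
    have e2 : ww * a⁻¹ * ww = a := by
      have := hinv _ hwm hw1 a⁻¹ (inv_mem ha)
      rwa [inv_inv] at this
    calc ww * zz * a = ww * (zz * a * zz) * zz⁻¹ := by group
      _ = ww * a⁻¹ * zz⁻¹ := by rw [e1]
      _ = (ww * a⁻¹ * ww) * (ww * zz) := by
        rw [inv_eq_of_mul_eq_one_left hz2, mul_assoc (ww * a⁻¹) ww (ww * zz), ← mul_assoc ww ww zz, hw2, one_mul]
      _ = a * (ww * zz) := by rw [e2]
  have hm : hC.base.frame.θ Mo.om * z ∈ hC.base.W := hC.base.mem_W.2 (by simp)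
  exact mem_bot.2 (hfix _ hm hwz1 a ha h1)

/-- The second case: `z` has no conjugate in `A ∖ W`. -/
theorem exists_conj_A : ∃ x ∈ hC.A, x ∉ hC.base.W ∧ IsConj z x := by
  by_contra hno
  push_neg at hno
  haveI := hC.base.normal
  haveI := hC.res2_normal
  have hSclass : ∀ x ∈ hC.base.S, IsConj z x → x ∈ hC.base.W := by
    intro x hx hc
    by_contra hxW
    obtain ⟨g, rfl⟩ := isConj_iff.1 hc
    have hxx : g * z * g⁻¹ * (g * z * g⁻¹) = 1 := by
      rw [show g * z * g⁻¹ * (g * z * g⁻¹) = g * (z * z) * g⁻¹ by group, hC.base.frame.zsq]; group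
    rcases hC.inv_AB hx hxx with h | h
    · exact hno _ h hxW hc
    · refine hno _ (hC.e0_B.1 h) (fun h' => hxW ?_) (hc.trans (isConj_iff.2 ⟨e 0, rfl⟩))
      rw [← hC.base.e0_conj_conj (g * z * g⁻¹)]; exact hC.base.e0_W h'
  have hnorm : ∀ {n : G}, n ∈ hC.res2 → (∀ x ∈ hC.base.W, n * x * n⁻¹ ∈ hC.base.W) →
      ∀ s ∈ hC.base.S, n * s * n⁻¹ ∈ hC.base.S := by
    intro n hn hnW s hs
    have hy : n * z * n⁻¹ ∈ hC.base.W := hnW z hC.base.z_mem_W
    refine hC.mem_S_of_cent hns (Subgroup.Normal.conj_mem hC.res2_normal s (hC.S_le_res2 hs) n) hy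
      (fun h => hC.base.frame.z1 (conj_eq_one_iff.1 h)) ?_
    calc n * s * n⁻¹ * (n * z * n⁻¹) = n * (s * z) * n⁻¹ := by group
      _ = n * (z * s) * n⁻¹ := by rw [mem_centralizer_singleton_iff.1 (hC.base.S_le_H hs)]
      _ = _ := by group
  have hfree : ∀ {n : G}, n ∈ hC.res2 → n ∉ hC.base.S → ∀ x ∈ hC.base.W, x ≠ 1 → n * x * n⁻¹ ≠ x :=
    fun {n} hn hnS x hx hx1 h => hnS (hC.mem_S_of_cent hns hn hx hx1 (mul_inv_eq_iff_eq_mul.1 h))
  -- centralisers of the involutions of `A ∖ W`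
  have hdich : ∀ i ∈ hC.A, i ∉ hC.base.W →
      (∀ g ∈ hC.res2, g * i = i * g → g ∈ hC.base.S) ∨
      ∃ n ∈ hC.res2, n * i = i * n ∧ n ∉ hC.base.S ∧ ∀ x ∈ hC.base.W, n * x * n⁻¹ ∈ hC.base.W := by
    intro i hi hiW
    by_contra hboth
    push_neg at hboth
    obtain ⟨⟨g₀, hg₀, hg₀i, hg₀S⟩, hno'⟩ := hboth
    have hno2 : ∀ n ∈ hC.res2, n * i = i * n → (∀ x ∈ hC.base.W, n * x * n⁻¹ ∈ hC.base.W) → n ∈ hC.base.S := by
      intro n hn hni hnW
      by_contra hnS
      obtain ⟨x, hx, hxn⟩ := hno' n hn hni hnS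
      exact hxn (hnW x hx)
    set X := centralizer ({i} : Set G) ⊓ hC.res2 with hX
    have hAX : hC.A ≤ X := fun a ha =>
      ⟨mem_centralizer_singleton_iff.2 (hC.leg_A.comm a ha i hi), hC.A_le_res2 ha⟩
    have hmemA : ∀ n ∈ X, n ∈ hC.base.S → n ∈ hC.A := fun n hn hnS =>
      hC.leg_A.self i hi hiW n hnS (mem_centralizer_singleton_iff.1 hn.1)
    haveI : Fact (Nat.Prime 2) := ⟨Nat.prime_two⟩
    have hAp : IsPGroup 2 ↥hC.A := hC.base.isPGroup_S.to_le inf_le_right
    obtain ⟨P, hP⟩ := (hAp.comap_of_injective X.subtype X.subtype_injective).exists_le_sylow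
    have hWnorm : ∀ n : G, (∀ a ∈ hC.A, n * a * n⁻¹ ∈ hC.A) → ∀ x ∈ hC.base.W, n * x * n⁻¹ ∈ hC.base.W := by
      intro n hn x hx
      by_cases hx1 : x = 1
      · subst hx1; rw [show n * 1 * n⁻¹ = 1 by group]; exact one_mem _
      · exact hSclass _ (hn x (hC.leg_A.W_le hx)).2 ((hC.W_conj hns hx hx1).trans (isConj_iff.2 ⟨n, rfl⟩))
    have hPA : (P : Subgroup X).map X.subtype = hC.A := by
      by_contra hne
      obtain ⟨n, hnP, hnA, hn⟩ := exists_normalizing (P.2.map X.subtype)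
        (fun a ha => ⟨⟨a, hAX ha⟩, hP (mem_subgroupOf.2 ha), rfl⟩) (Ne.symm hne)
      have hnX : n ∈ X := map_subtype_le _ hnP
      exact hnA (hmemA n hnX (hno2 n hnX.2 (mem_centralizer_singleton_iff.1 hnX.1)
        (hWnorm n fun a ha => (hn a).1 ha)))
    have hPmem : ∀ a : X, a ∈ (P : Subgroup X) ↔ (a : G) ∈ hC.A := by
      intro a
      rw [← hPA]
      exact ⟨fun h => ⟨a, h, rfl⟩, fun ⟨b, hb, hba⟩ => (Subtype.ext hba : b = a) ▸ hb⟩
    haveI hPc : IsMulCommutative (P : Subgroup X) := ⟨⟨fun a b => Subtype.ext (Subtype.ext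
      (hC.leg_A.comm _ ((hPmem a.1).1 a.2) _ ((hPmem b.1).1 b.2)))⟩⟩
    have hzX : z ∈ X := hAX (hC.leg_A.W_le hC.base.z_mem_W)
    set zz : X := ⟨z, hzX⟩ with hzz
    have hzo : orderOf zz = 2 := orderOf_eq_prime (Subtype.ext (by simp [pow_two, hzz, hC.base.frame.zsq]))
      fun h => hC.base.frame.z1 (congrArg Subtype.val h)
    have hiso : ∀ g : X, g * zz * g⁻¹ ∈ P → g * zz * g⁻¹ = zz := by
      intro g hg
      obtain ⟨n, hn, hne⟩ := Sylow.conj_eq_normalizer_conj_of_mem P zz g⁻¹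
        ((hPmem zz).2 (hC.leg_A.W_le hC.base.z_mem_W)) (by rw [inv_inv]; exact hg)
      rw [inv_inv] at hne
      have hnA : ∀ a ∈ hC.A, ((n⁻¹ : X) : G) * a * ((n⁻¹ : X) : G)⁻¹ ∈ hC.A := by
        intro a ha
        have h := (mem_normalizer_iff.1 (inv_mem hn) ⟨a, hAX ha⟩).1 ((hPmem _).2 ha)
        exact (hPmem _).1 h
      have hnS := hno2 ((n⁻¹ : X) : G) (n⁻¹).2.2 (mem_centralizer_singleton_iff.1 (n⁻¹).2.1) (hWnorm _ hnA)
      rw [hne]
      refine Subtype.ext ?_
      have h := mem_centralizer_singleton_iff.1 (hC.base.S_le_H hnS)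
      simp only [Subgroup.coe_mul, Subgroup.coe_inv] at h ⊢
      rw [hzz, h, mul_assoc, inv_mul_cancel, mul_one]
    haveI : (Cfsg.oddCore ↥X).Normal := by unfold Cfsg.oddCore; infer_instance
    have hO := hC.odd_trivial hns (X := X) inf_le_right (fun x hx => hAX (hC.leg_A.W_le hx))
      (N := Cfsg.oddCore ↥X) (ZStar.odd_card_oddCore _)
    refine hg₀S (hC.mem_S_of_res2 hns hg₀ ?_)
    have h := ZStar.mem_oddCore_of_sylow P hzo ((hPmem zz).2 (hC.leg_A.W_le hC.base.z_mem_W)) hiso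
      ⟨g₀, mem_centralizer_singleton_iff.2 hg₀i, hg₀⟩
    rw [hO, mem_bot, mul_inv_eq_one, mul_inv_eq_iff_eq_mul] at h
    exact mem_centralizer_singleton_iff.2 (congrArg Subtype.val h).symm
  have hA := hC.leg_A
  have hall : ∀ i ∈ hC.A, i ∉ hC.base.W → ∀ g ∈ hC.res2, g * i = i * g → g ∈ hC.base.S := by
    intro i hi hiW
    rcases hdich i hi hiW with h | ⟨n, hn, hni, hnS, hnW⟩
    · exact h
    exfalso
    -- the square of `n` centralises `A/W` and fixes no involution of `W`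
    have hkey : ∀ (T : Subgroup G) (hT : Leg hC.base T) (i n : G), i ∈ T → i ∉ hC.base.W → n ∈ hC.res2 →
        n * i = i * n → n ∉ hC.base.S → (∀ x ∈ hC.base.W, n * x * n⁻¹ ∈ hC.base.W) →
        (∀ x ∈ hC.base.W, x ≠ 1 → n * n * x * (n * n)⁻¹ ≠ x) ∧
          ∀ a ∈ T, a * (n * n * a * (n * n)⁻¹) ∈ hC.base.W := by
      intro T hT i n hi hiW hn hni hnS hnW
      have hW' : ∀ w ∈ hC.base.W, ∃ w' ∈ hC.base.W, n * w' * n⁻¹ = w := by
        intro w hw
        let f : hC.base.W → hC.base.W := fun x => ⟨n * x * n⁻¹, hnW x x.2⟩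
        have hf : Function.Injective f := fun a b h =>
          Subtype.ext (mul_left_cancel (mul_right_cancel (congrArg Subtype.val h)))
        obtain ⟨x, hx⟩ := Finite.injective_iff_surjective.1 hf ⟨w, hw⟩
        exact ⟨x, x.2, congrArg Subtype.val hx⟩
      refine ⟨fun x hx hx1 h => hnS ?_, ?_⟩
      · have h2 := hC.mem_S_of_cent hns (mul_mem hn hn) hx hx1 (mul_inv_eq_iff_eq_mul.1 h)
        refine hC.mem_S_of_res2 hns hn ?_
        have h3 := hC.base.cube_mem (hC.res2_le hn) hnW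
        have := mul_mem (inv_mem (hC.base.S_le_H h2)) h3
        simpa [mul_assoc] using this
      have hnT : ∀ a ∈ T, n * a * n⁻¹ ∈ T := fun a ha => by
        refine hT.self i hi hiW _ (hnorm hn hnW a (hT.le ha)) ?_
        calc n * a * n⁻¹ * i = n * a * (n⁻¹ * i * n) * n⁻¹ := by group
          _ = n * a * i * n⁻¹ := by rw [show n⁻¹ * i * n = i by rw [mul_assoc, ← hni, inv_mul_cancel_left]]
          _ = n * (i * a) * n⁻¹ := by rw [← hT.comm a ha i hi, mul_assoc n a i]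
          _ = (n * i) * a * n⁻¹ := by group
          _ = i * (n * a * n⁻¹) := by rw [hni]; group
      have hout : ∀ a, a ∉ hC.base.W → n * a * n⁻¹ ∉ hC.base.W := fun a ha h => by
        obtain ⟨w, hw, hwe⟩ := hW' _ h
        rw [mul_left_cancel (mul_right_cancel hwe)] at hw
        exact ha hw
      have hm : ∀ a, n * n * a * (n * n)⁻¹ = n * (n * a * n⁻¹) * n⁻¹ := fun a => by group
      have hfixi : n * i * n⁻¹ = i := mul_inv_eq_iff_eq_mul.2 hni
      have hWW := fun {a b : G} (ha : a ∈ hC.base.W) (hb : b ∈ hC.base.W) => mul_mem ha hb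
      intro a ha
      rw [hm]
      by_cases haW : a ∈ hC.base.W
      · exact mul_mem haW (hnW _ (hnW a haW))
      by_cases hai : i * a ∈ hC.base.W
      · have h1 := hnW _ (hnW _ hai)
        rw [show n * (n * (i * a) * n⁻¹) * n⁻¹ = n * (n * i * n⁻¹) * n⁻¹ * (n * (n * a * n⁻¹) * n⁻¹) by group,
          hfixi, hfixi] at h1
        have h2 := mul_mem (inv_mem hai) h1
        rwa [mul_inv_rev, mul_assoc, inv_mul_cancel_left, inv_eq_of_mul_eq_one_left (hT.sq a ha)] at h2
      set b := n * a * n⁻¹ with hb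
      have hbT := hnT a ha
      have hib : i * b ∉ hC.base.W := by
        intro h
        refine hai ?_
        obtain ⟨w, hw, hwe⟩ := hW' _ h
        have : w = i * a := by
          refine mul_left_cancel (a := n) (mul_right_cancel (b := n⁻¹) ?_)
          rw [hwe, hb, show n * (i * a) * n⁻¹ = n * i * n⁻¹ * (n * a * n⁻¹) by group, hfixi]
        rwa [this] at hw
      by_cases hab : a * b ∈ hC.base.W
      · have h1 := hnW _ hab
        rw [show n * (a * b) * n⁻¹ = n * a * n⁻¹ * (n * b * n⁻¹) by group, ← hb] at h1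
        have h2 := mul_mem hab h1
        rwa [show a * b * (b * (n * b * n⁻¹)) = a * (b * b) * (n * b * n⁻¹) by group, hT.sq b hbT, mul_one] at h2
      · have h1 := hT.four hi ha hbT hiW haW (hout a haW) hai hib hab
        have h2 := hnW _ h1
        rw [show n * (i * a * b) * n⁻¹ = n * i * n⁻¹ * (n * a * n⁻¹) * (n * b * n⁻¹) by group, hfixi, ← hb] at h2
        have h3 := mul_mem h1 h2
        rwa [show i * a * b * (i * b * (n * b * n⁻¹)) = i * a * (b * i) * b * (n * b * n⁻¹) by group,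
          hT.comm b hbT i hi, show i * a * (i * b) * b * (n * b * n⁻¹) = i * (a * i) * (b * b) * (n * b * n⁻¹) by group,
          hT.comm a ha i hi, hT.sq b hbT, mul_one, ← mul_assoc i i a, hT.sq i hi, one_mul] at h3
    obtain ⟨hmfree, hmA⟩ := hkey hC.A hA i n hi hiW hn hni hnS hnW
    set n' := e 0 * n * (e 0)⁻¹ with hn'
    have hcc := hC.base.e0_conj_conj
    have hn'W : ∀ x ∈ hC.base.W, n' * x * n'⁻¹ ∈ hC.base.W := fun x hx => by
      have h := hC.base.e0_W (hnW _ (hC.base.e0_W hx))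
      rw [hC.base.e0_inv] at h
      rw [hn', hC.base.e0_inv, mul_inv_rev, mul_inv_rev, hC.base.e0_inv]
      convert h using 1
      group
    obtain ⟨hm'free, hm'B⟩ := hkey hC.B hC.leg_B (e 0 * i * (e 0)⁻¹) n' (hC.e0_A.1 hi)
      (fun h => hiW (hcc i ▸ hC.base.e0_W h))
      (hC.res2_normal.conj_mem n hn (e 0))
      (by rw [hn', show e 0 * n * (e 0)⁻¹ * (e 0 * i * (e 0)⁻¹) = e 0 * (n * i) * (e 0)⁻¹ by group, hni]; group)
      (fun h => hnS (hcc n ▸ hC.e0_S h)) hn'W
    set m := n * n with hmdef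
    set m' := n' * n' with hm'def
    have hmW : ∀ x ∈ hC.base.W, m * x * m⁻¹ ∈ hC.base.W := fun x hx => by
      rw [hmdef, show n * n * x * (n * n)⁻¹ = n * (n * x * n⁻¹) * n⁻¹ by group]; exact hnW _ (hnW x hx)
    have hm'W : ∀ x ∈ hC.base.W, m' * x * m'⁻¹ ∈ hC.base.W := fun x hx => by
      rw [hm'def, show n' * n' * x * (n' * n')⁻¹ = n' * (n' * x * n'⁻¹) * n'⁻¹ by group]; exact hn'W _ (hn'W x hx)
    have hz1 := hC.base.frame.z1
    set y₁ := m * z * m⁻¹ with hy₁
    set y₂ := m * y₁ * m⁻¹ with hy₂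
    have hy₁W : y₁ ∈ hC.base.W := hmW _ hC.base.z_mem_W
    have hy₁1 : y₁ ≠ 1 := fun h => hz1 (conj_eq_one_iff.1 h)
    have hy₁z : y₁ ≠ z := hmfree z hC.base.z_mem_W hz1
    have hy₂W : y₂ ∈ hC.base.W := hmW _ hy₁W
    have hy₂1 : y₂ ≠ 1 := fun h => hy₁1 (conj_eq_one_iff.1 h)
    have hy₂₁ : y₂ ≠ y₁ := hmfree y₁ hy₁W hy₁1
    have hm2 : ∀ x ∈ hC.base.W, x ≠ 1 → m * m * x * (m * m)⁻¹ ≠ x := by
      intro x hx hx1 h
      apply hnS
      have h2 := hC.mem_S_of_cent hns (mul_mem (mul_mem hn hn) (mul_mem hn hn)) hx hx1 (mul_inv_eq_iff_eq_mul.1 h)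
      refine hC.mem_S_of_res2 hns hn ?_
      have h3 := hC.base.cube_mem (hC.res2_le hn) hnW
      have := mul_mem (inv_mem h3) (hC.base.S_le_H h2)
      simpa [hmdef, mul_assoc] using this
    have hy₂z : y₂ ≠ z := fun h => hm2 z hC.base.z_mem_W hz1 (by
      rw [show m * m * z * (m * m)⁻¹ = m * (m * z * m⁻¹) * m⁻¹ by group]; exact h)
    obtain ⟨M, hM, hMW, hMfree, hMA, hMm'⟩ : ∃ M ∈ hC.res2, (∀ x ∈ hC.base.W, M * x * M⁻¹ ∈ hC.base.W) ∧
        (∀ x ∈ hC.base.W, x ≠ 1 → M * x * M⁻¹ ≠ x) ∧ (∀ a ∈ hC.A, a * (M * a * M⁻¹) ∈ hC.base.W) ∧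
        M⁻¹ * m' ∈ hC.base.S := by
      have hto : ∀ M ∈ hC.res2, m' * z * m'⁻¹ = M * z * M⁻¹ → M⁻¹ * m' ∈ hC.base.S := by
        intro M hM h
        have hn'r : n' ∈ hC.res2 := hC.res2_normal.conj_mem n hn (e 0)
        refine hC.mem_S_of_res2 hns (mul_mem (inv_mem hM) (mul_mem hn'r hn'r)) (mem_centralizer_singleton_iff.2 ?_)
        calc M⁻¹ * m' * z = M⁻¹ * (m' * z * m'⁻¹) * m' := by group
          _ = M⁻¹ * (M * z * M⁻¹) * m' := by rw [h]
          _ = z * (M⁻¹ * m') := by group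
      have h' : m' * z * m'⁻¹ = y₁ ∨ m' * z * m'⁻¹ = y₂ := by
        rcases hC.base.mem_W.1 (hm'W _ hC.base.z_mem_W) with h | h | h | h
        · exact absurd (conj_eq_one_iff.1 h) hz1
        · exact absurd h (hm'free z hC.base.z_mem_W hz1)
        all_goals
          rcases hC.base.mem_W.1 hy₁W with a | a | a | a <;> rcases hC.base.mem_W.1 hy₂W with b | b | b | b <;>
            first
              | exact absurd a hy₁1
              | exact absurd a hy₁z
              | exact absurd b hy₂1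
              | exact absurd b hy₂z
              | exact absurd (b.trans a.symm) hy₂₁
              | exact Or.inl (h.trans a.symm)
              | exact Or.inr (h.trans b.symm)
      rcases h' with h | h
      · exact ⟨m, mul_mem hn hn, hmW, hmfree, hmA, hto m (mul_mem hn hn) h⟩
      · refine ⟨m * m, mul_mem (mul_mem hn hn) (mul_mem hn hn), fun x hx => ?_, hm2, fun a ha => ?_,
          hto _ (mul_mem (mul_mem hn hn) (mul_mem hn hn)) ?_⟩
        · rw [show m * m * x * (m * m)⁻¹ = m * (m * x * m⁻¹) * m⁻¹ by group]; exact hmW _ (hmW x hx)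
        · have h1 := hmA a ha
          have h2 := hmW _ h1
          rw [show m * (a * (m * a * m⁻¹)) * m⁻¹ = m * a * m⁻¹ * (m * m * a * (m * m)⁻¹) by group] at h2
          have h3 := mul_mem h1 h2
          have hsq : m * a * m⁻¹ * (m * a * m⁻¹) = 1 := by
            rw [show m * a * m⁻¹ * (m * a * m⁻¹) = m * (a * a) * m⁻¹ by group, hA.sq a ha]; group
          rwa [show a * (m * a * m⁻¹) * (m * a * m⁻¹ * (m * m * a * (m * m)⁻¹)) =
            a * (m * a * m⁻¹ * (m * a * m⁻¹)) * (m * m * a * (m * m)⁻¹) by group, hsq, mul_one] at h3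
        · rw [h, hy₂, hy₁]; group
    obtain ⟨a, ha, b, hb, hab⟩ := hC.noncomm
    -- `M` centralises `B/W`
    set s := M⁻¹ * m' with hs
    have hMB : b * (M * b * M⁻¹) ∈ hC.base.W := by
      have h1 := hm'B b hb
      have hsb : (s * b * s⁻¹ * b⁻¹) ∈ hC.base.W := by
        obtain ⟨g, hg, hgs⟩ := hC.base.exists_Φ hMm'
        obtain ⟨t, ht, htb⟩ := hC.base.exists_Φ hb.2
        have hi1 : ∀ t, Pt.Ev t → (hC.base.Φ t)⁻¹ = hC.base.Φ (Pt.mul (Pt.mul t t) t) := fun t ht =>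
          inv_eq_of_mul_eq_one_right (by rw [hC.Φ_mul, Pt.inv_eq t ht, hC.Φ_one])
        rw [← hgs, ← htb, hi1 g hg, hi1 t ht, hC.Φ_mul, hC.Φ_mul, hC.Φ_mul, hC.base.Φ_W]
        exact Pt.comm_W g hg t ht
      have h2 := hMW _ hsb
      rw [show M * (s * b * s⁻¹ * b⁻¹) * M⁻¹ = m' * b * m'⁻¹ * (M * b * M⁻¹)⁻¹ by rw [hs]; group] at h2
      have h3 := mul_mem h1 h2
      have hsq : m' * b * m'⁻¹ * (m' * b * m'⁻¹) = 1 := by
        rw [show m' * b * m'⁻¹ * (m' * b * m'⁻¹) = m' * (b * b) * m'⁻¹ by group, hC.leg_B.sq b hb]; group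
      rwa [inv_eq_of_mul_eq_one_left (show M * b * M⁻¹ * (M * b * M⁻¹) = 1 by
          rw [show M * b * M⁻¹ * (M * b * M⁻¹) = M * (b * b) * M⁻¹ by group, hC.leg_B.sq b hb]; group),
        show b * (m' * b * m'⁻¹) * (m' * b * m'⁻¹ * (M * b * M⁻¹)) =
          b * (m' * b * m'⁻¹ * (m' * b * m'⁻¹)) * (M * b * M⁻¹) by group, hsq, mul_one] at h3
    set va := a * (M * a * M⁻¹) with hva
    set vb := b * (M * b * M⁻¹) with hvb
    have hva' : va ∈ hC.base.W := hMA a ha
    have hMa : M * a * M⁻¹ = a * va := by rw [hva, ← mul_assoc, hA.sq a ha, one_mul]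
    have hMb : M * b * M⁻¹ = b * vb := by rw [hvb, ← mul_assoc, hC.leg_B.sq b hb, one_mul]
    have hcW : ∀ g ∈ hC.base.S, ∀ x ∈ hC.base.W, g * x = x * g := fun g hg x hx =>
      hC.base.comm_W (hC.base.S_le_H hg) (hC.base.S_le_K hg) hx
    set c := a * b * a * b with hc
    have hcc' : c ∈ hC.base.W := by
      obtain ⟨g, hg, hga⟩ := hC.base.exists_Φ ha.2
      obtain ⟨t, ht, htb⟩ := hC.base.exists_Φ hb.2
      have hi1 : ∀ t, Pt.Ev t → (hC.base.Φ t)⁻¹ = hC.base.Φ (Pt.mul (Pt.mul t t) t) := fun t ht =>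
        inv_eq_of_mul_eq_one_right (by rw [hC.Φ_mul, Pt.inv_eq t ht, hC.Φ_one])
      rw [hc, show a * b * a * b = a * b * a⁻¹ * b⁻¹ by
        rw [inv_eq_of_mul_eq_one_left (hA.sq a ha), inv_eq_of_mul_eq_one_left (hC.leg_B.sq b hb)],
        ← hga, ← htb, hi1 g hg, hi1 t ht, hC.Φ_mul, hC.Φ_mul, hC.Φ_mul, hC.base.Φ_W]
      exact Pt.comm_W g hg t ht
    have hc1 : c ≠ 1 := fun h => hab (by
      calc a * b = a * b * (b * a * a * b) := by
            rw [show b * a * a * b = b * (a * a) * b by group, hA.sq a ha, mul_one, hC.leg_B.sq b hb, mul_one]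
        _ = (a * b * b * a) * (a * b) := by group
        _ = (a * b * b * a) * (a * b * 1) := by rw [mul_one]
        _ = 1 * (a * b) := by rw [mul_one, mul_assoc a b b, hC.leg_B.sq b hb, mul_one, hA.sq a ha]
        _ = (b * a) * (a * b * a * b) := by
            rw [one_mul, show b * a * (a * b * a * b) = b * (a * a) * b * a * b by group, hA.sq a ha, mul_one,
              hC.leg_B.sq b hb, one_mul]
        _ = b * a := by rw [← hc, h, mul_one])
    apply hMfree c hcc' hc1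
    rw [hc, show M * (a * b * a * b) * M⁻¹ = (M * a * M⁻¹) * (M * b * M⁻¹) * (M * a * M⁻¹) * (M * b * M⁻¹) by group,
      hMa, hMb]
    have e1 : va * b = b * va := (hcW b hb.2 va hva').symm
    have e2 : vb * a = a * vb := (hcW a ha.2 vb hMB).symm
    have e3 : va * vb = vb * va := hC.W_comm hva' hMB
    calc a * va * (b * vb) * (a * va) * (b * vb) = a * (va * b) * (vb * a) * (va * b) * vb := by group
      _ = a * (b * va) * (a * vb) * (b * va) * vb := by rw [e1, e2]
      _ = a * b * (va * a) * (vb * b) * (va * vb) := by group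
      _ = a * b * (a * va) * (b * vb) * (va * vb) := by
          rw [← hcW a ha.2 va hva', ← hcW b hb.2 vb hMB]
      _ = a * b * a * (va * b) * (vb * va) * vb := by group
      _ = a * b * a * b * (va * va) * (vb * vb) := by rw [e1, ← e3]; group
      _ = a * b * a * b := by rw [hC.base.W_inv hva', hC.base.W_inv hMB, mul_one, mul_one]
  -- all centralisers of involutions lie in `S`
  have hinvS : ∀ t ∈ hC.base.S, t * t = 1 → t ≠ 1 → ∀ g ∈ hC.res2, g * t = t * g → g ∈ hC.base.S := by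
    intro t ht htt ht1 g hg hgt
    by_cases htW : t ∈ hC.base.W
    · exact hC.mem_S_of_cent hns hg htW ht1 hgt
    rcases hC.inv_AB ht htt with h | h
    · exact hall t h htW g hg hgt
    · have h1 := hall _ (hC.e0_B.1 h) (fun h' => htW (hC.base.e0_conj_conj t ▸ hC.base.e0_W h')) _
        (hC.res2_normal.conj_mem g hg (e 0)) (by
          rw [show e 0 * g * (e 0)⁻¹ * (e 0 * t * (e 0)⁻¹) = e 0 * (g * t) * (e 0)⁻¹ by group, hgt]; group)
      rw [← hC.base.e0_conj_conj g]; exact hC.e0_S h1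
  let M : Subgroup ↥hC.res2 := (normalizer (hC.base.W : Set G)).subgroupOf hC.res2
  have hinvM : ∀ t : hC.res2, t ∈ M → orderOf t = 2 → (t : G) ∈ hC.base.S ∧ (t : G) * t = 1 ∧ (t : G) ≠ 1 := by
    intro t ht ho
    have h2 : t * t = 1 := by rw [← pow_two, ← ho, pow_orderOf_eq_one]
    have h2' : (t : G) * t = 1 := by simpa using congrArg Subtype.val h2
    refine ⟨hC.base.mem_S_of_normalizes (hC.res2_le t.2) (fun x hx => (mem_normalizer_iff.1 ht x).1 hx) (k := 1)
      (by rw [pow_one, pow_two]; exact h2'), h2', fun h => ?_⟩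
    rw [show t = 1 from Subtype.ext h, orderOf_one] at ho
    exact absurd ho (by norm_num)
  by_cases htop : M = ⊤
  · -- then the group is solvable
    apply hns
    have hKW : ∀ k ∈ K, k * z * k⁻¹ ∈ hC.base.W := by
      intro k hk
      set y : hC.res2 := ⟨k * z * k⁻¹, hC.res2_normal.conj_mem z (hC.S_le_res2 (hC.base.W_le_S hC.base.z_mem_W)) k⟩
      have ho : orderOf y = 2 := by
        rw [← orderOf_coe]
        refine orderOf_eq_prime ?_ fun h => hC.base.frame.z1 (conj_eq_one_iff.1 h)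
        rw [conj_pow, pow_two, hC.base.frame.zsq]; group
      obtain ⟨hy, -, -⟩ := hinvM y (htop ▸ mem_top _) ho
      exact hSclass _ hy (isConj_iff.2 ⟨k, rfl⟩)
    let X : Subgroup ↥K := (centralizer ({z} : Set G)).subgroupOf K
    haveI hXn : X.Normal := ⟨fun h hh k => by
      rw [mem_subgroupOf] at hh ⊢
      rw [mem_centralizer_singleton_iff]
      have hkz := hKW _ (inv_mem k.2)
      rw [inv_inv] at hkz
      have hc := hC.base.comm_W hh h.2 hkz
      simp only [Subgroup.coe_mul, Subgroup.coe_inv]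
      calc (k : G) * h * (k : G)⁻¹ * z = k * ((h : G) * ((k : G)⁻¹ * z * k)) * (k : G)⁻¹ := by group
        _ = k * ((k : G)⁻¹ * z * k * h) * (k : G)⁻¹ := by rw [hc]
        _ = z * ((k : G) * h * (k : G)⁻¹) := by group⟩
    haveI : Group.IsSolvable ↥X := by
      haveI := hC.base.frame.solvable_H
      exact solvable_of_solvable_injective (f := (K.subtype.comp X.subtype).codRestrict (centralizer ({z} : Set G))
        fun g => mem_subgroupOf.1 g.2) fun a b h => Subtype.ext (Subtype.ext (congrArg Subtype.val h :))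
    haveI : Group.IsSolvable (↥K ⧸ X) := by
      refine CfsgLib.FTDep.OutCases.solvable_of_lt_sixty (lt_of_le_of_lt (b := Nat.card ↥hC.base.W) ?_ (by rw [hC.card_W]; norm_num))
      refine Nat.card_le_card_of_injective (fun q => (⟨(q.out : G) * z * (q.out : G)⁻¹, hKW _ q.out.2⟩ : hC.base.W)) ?_
      intro q r h
      have h' : (q.out : G) * z * (q.out : G)⁻¹ = (r.out : G) * z * (r.out : G)⁻¹ := congrArg Subtype.val h
      rw [← QuotientGroup.out_eq' q, ← QuotientGroup.out_eq' r, QuotientGroup.eq, mem_subgroupOf,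
        mem_centralizer_singleton_iff, Subgroup.coe_mul, Subgroup.coe_inv]
      calc (q.out : G)⁻¹ * r.out * z = (q.out : G)⁻¹ * ((r.out : G) * z * (r.out : G)⁻¹) * r.out := by group
        _ = (q.out : G)⁻¹ * ((q.out : G) * z * (q.out : G)⁻¹) * r.out := by rw [h']
        _ = z * ((q.out : G)⁻¹ * r.out) := by group
    haveI : Group.IsSolvable ↥K := solvable_of_ker_le_range X.subtype (QuotientGroup.mk' X)
      (by rw [QuotientGroup.ker_mk', Subgroup.range_subtype])
    haveI : Group.IsSolvable (G ⧸ K) :=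
      CfsgLib.FTDep.OutCases.solvable_of_lt_sixty (by rw [← Subgroup.index_eq_card, hC.base.index]; norm_num)
    exact solvable_of_ker_le_range K.subtype (QuotientGroup.mk' K)
      (by rw [QuotientGroup.ker_mk', Subgroup.range_subtype])
  · have hzR : z ∈ hC.res2 := hC.S_le_res2 (hC.base.W_le_S hC.base.z_mem_W)
    have hzM : (⟨z, hzR⟩ : hC.res2) ∈ M := by
      refine mem_subgroupOf.2 (mem_normalizer_iff.2 fun x => ?_)
      have hkey : ∀ y ∈ hC.base.W, z * y * z⁻¹ = y := fun y hy => by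
        rw [hC.W_comm hC.base.z_mem_W hy, mul_inv_cancel_right]
      constructor
      · intro hx; rw [hkey x hx]; exact hx
      · intro hx
        have h2 : x = z * x * z⁻¹ := by
          calc x = z⁻¹ * (z * x * z⁻¹) * z := by group
            _ = z⁻¹ * (z * (z * x * z⁻¹) * z⁻¹) * z := by rw [hkey _ hx]
            _ = z * x * z⁻¹ := by group
        rw [h2]; exact hx
    have hzo : orderOf (⟨z, hzR⟩ : hC.res2) = 2 := orderOf_eq_prime
      (Subtype.ext (by simp [pow_two, hC.base.frame.zsq])) fun h => hC.base.frame.z1 (congrArg Subtype.val h)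
    have hse : Cfsg.IsStronglyEmbedded M := by
      rw [CfsgLib.Signalizer.stronglyEmbedded_iff_conj]
      refine ⟨htop, even_iff_two_dvd.2 (hzo ▸ orderOf_dvd_natCard M hzM), fun t ht ho g hg => ?_⟩
      obtain ⟨htS, -, -⟩ := hinvM t ht ho
      obtain ⟨hyS, hyy, hy1⟩ := hinvM _ hg ((CfsgLib.Signalizer.orderOf_conj g t).trans ho)
      simp only [Subgroup.coe_mul, Subgroup.coe_inv] at hyS hyy hy1
      have hgW : ∀ x ∈ hC.base.W, (g : G) * x * (g : G)⁻¹ ∈ hC.base.W := by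
        intro x hx
        by_cases hx1 : x = 1
        · subst hx1; rw [show (g : G) * 1 * (g : G)⁻¹ = 1 by group]; exact one_mem _
        refine hSclass _ (hinvS _ hyS hyy hy1 _
          (mul_mem (mul_mem g.2 (hC.S_le_res2 (hC.base.W_le_S hx))) (inv_mem g.2)) ?_)
          ((hC.W_conj hns hx hx1).trans (isConj_iff.2 ⟨g, rfl⟩))
        have hc := hC.base.comm_W (hC.base.S_le_H htS) (hC.base.S_le_K htS) hx
        calc (g : G) * x * (g : G)⁻¹ * ((g : G) * t * (g : G)⁻¹) = g * (x * t) * (g : G)⁻¹ := by group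
          _ = g * ((t : G) * x) * (g : G)⁻¹ := by rw [hc]
          _ = (g : G) * t * (g : G)⁻¹ * ((g : G) * x * (g : G)⁻¹) := by group
      refine mem_subgroupOf.2 (mem_normalizer_iff.2 fun x => ⟨hgW x, fun hx => ?_⟩)
      let f : hC.base.W → hC.base.W := fun y => ⟨(g : G) * y * (g : G)⁻¹, hgW y y.2⟩
      have hf : Function.Injective f := fun a b h =>
        Subtype.ext (mul_left_cancel (mul_right_cancel (congrArg Subtype.val h)))
      obtain ⟨y, hy⟩ := Finite.injective_iff_surjective.1 hf ⟨_, hx⟩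
      have h' : (g : G) * y * (g : G)⁻¹ = g * x * (g : G)⁻¹ := congrArg Subtype.val hy
      rw [← mul_left_cancel (mul_right_cancel h')]; exact y.2
    obtain ⟨hq, hqW⟩ := hC.q_props
    have hpc := TwoGroups.SE.isConj_involutions hse hzo
      (b := (⟨u * p * u⁻¹, hC.A_le_res2 hq⟩ : hC.res2)) (by
        rw [← orderOf_coe]
        exact orderOf_eq_prime (by rw [pow_two]; exact hA.sq _ hq) fun h => hqW (by
          show u * p * u⁻¹ ∈ hC.base.W
          rw [show u * p * u⁻¹ = 1 from h]; exact one_mem _))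
    exact hno _ hq hqW (hC.res2.subtype.map_isConj hpc)

end Base0

end CfsgLib.Recog.AutLThreeFour
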