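import Cfsg.Agent.Lib.Recog.AutLThreeFour.Residual

/-!
Owner: helper28. The residual is simple and the centralisers of its involutions are 2-groups.
-/

set_option autoImplicit false
set_option linter.all false

namespace CfsgLib.Recog.AutLThreeFour

open Subgroup
open scoped Pointwise

variable {G : Type*} [Group G] [Finite G] {z : G} {e : Fin 4 → G} {K : Subgroup G} {p u : G}

namespace Base0

variable (hC : Base0 z e K p u) (hns : ¬ Group.IsSolvable G)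
include hC hns

/-- Conjugation by the residual reaches every involution of `A`. -/
theorem conj_A : ∀ y ∈ hC.A, y ≠ 1 → ∃ l ∈ hC.res2, l ∈ hC.NA ∧ l * z * l⁻¹ = y := by
  haveI := hC.base.normal
  haveI hn2 := hC.res2_normal
  obtain ⟨x, hx, hxW, hc⟩ := hC.exists_conj_A hns
  have htr := hC.transitive_A hx hxW hc
  have hNA : ∀ {n a : G}, n ∈ hC.NA → a ∈ hC.A → n * a * n⁻¹ ∈ hC.A := fun {n a} hn ha =>
    (mem_normalizer_iff.1 hn.1 a).1 ha
  set O := fun y : G => ∃ l ∈ hC.res2, l * z * l⁻¹ = y with hO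
  have hstable : ∀ {h y : G}, h ∈ centralizer ({z} : Set G) → O y → O (h * y * h⁻¹) := by
    rintro h y hh ⟨l, hl, rfl⟩
    refine ⟨h * l * h⁻¹, Subgroup.Normal.conj_mem hn2 l hl h, ?_⟩
    have hc' : h⁻¹ * z * h = z := by
      rw [mul_assoc, ← mem_centralizer_singleton_iff.1 hh, inv_mul_cancel_left]
    calc h * l * h⁻¹ * z * (h * l * h⁻¹)⁻¹ = h * l * (h⁻¹ * z * h) * l⁻¹ * h⁻¹ := by group
      _ = h * (l * z * l⁻¹) * h⁻¹ := by rw [hc']; group
  have hcos : ∀ {a v : G}, a ∈ hC.A → a ∉ hC.base.W → v ∈ hC.base.W → O a → O (a * v) := by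
    intro a v ha haW hv hOa
    obtain ⟨s, hs, h⟩ := hC.leg_A.coset a ha haW v hv
    exact h ▸ hstable (hC.base.S_le_H hs) hOa
  -- four translates of one element cannot all go into `W`
  have hfour : ∀ {m a : G}, m ∈ hC.NA → a ∈ hC.A → a ∉ hC.base.W → ∃ v ∈ hC.base.W, m * (a * v) * m⁻¹ ∉ hC.base.W := by
    intro m a hm ha haW
    by_contra hno
    push_neg at hno
    let f : hC.base.W → hC.base.W := fun v => ⟨m * (a * v) * m⁻¹, hno v v.2⟩
    have hf : Function.Injective f := fun v w h =>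
      Subtype.ext (mul_left_cancel (mul_left_cancel (mul_right_cancel (congrArg Subtype.val h))))
    obtain ⟨v, hv⟩ := Finite.injective_iff_surjective.1 hf ⟨1, one_mem _⟩
    have h1 : m * (a * v) * m⁻¹ = 1 := congrArg Subtype.val hv
    rw [conj_eq_one_iff] at h1
    exact haW (by rw [eq_inv_of_mul_eq_one_left h1]; exact inv_mem v.2)
  obtain ⟨n, hn, hnx⟩ := htr x hx (fun h => hxW (h ▸ one_mem _))
  obtain ⟨a₀, ha₀, ha₀W, hOa₀⟩ : ∃ a, a ∈ hC.A ∧ a ∉ hC.base.W ∧ O a := by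
    obtain ⟨v, hv, hvW⟩ := hfour (inv_mem hn) hx hxW
    obtain ⟨s, hs, hsx⟩ := hC.leg_A.coset x hx hxW v hv
    refine ⟨_, hNA (inv_mem hn) (mul_mem hx (hC.leg_A.W_le hv)), hvW, n⁻¹ * s * n, ?_, ?_⟩
    · have := Subgroup.Normal.conj_mem hn2 s (hC.S_le_res2 hs) n⁻¹
      simpa using this
    · calc n⁻¹ * s * n * z * (n⁻¹ * s * n)⁻¹ = n⁻¹ * (s * (n * z * n⁻¹) * s⁻¹) * (n⁻¹)⁻¹ := by group
        _ = n⁻¹ * (x * v) * (n⁻¹)⁻¹ := by rw [hnx, hsx]
  have hu : ∀ {a : G}, a ∈ hC.A → a ∉ hC.base.W → u * a * u⁻¹ ∉ hC.base.W := by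
    intro a ha haW h
    apply haW
    have h' := hC.base.comm_W hC.base.hu.1 hC.base.u_mem h
    have : a = u * a * u⁻¹ := by
      calc a = u⁻¹ * (u * a * u⁻¹ * u) := by group
        _ = u⁻¹ * (u * (u * a * u⁻¹)) := by rw [h']
        _ = u * a * u⁻¹ := by group
    rw [this]; exact h
  have hout : ∀ a ∈ hC.A, a ∉ hC.base.W → O a := by
    intro a ha haW
    have h1 := hu ha₀ ha₀W
    have hA1 := hC.leg_A.u_conj _ ha₀
    have h2 := hu hA1 h1
    have hO1 := hstable hC.base.hu.1 hOa₀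
    rcases hC.leg_A.cover a₀ ha₀ ha₀W a ha haW with h | h | h
    · have := hcos ha₀ ha₀W h hOa₀
      rwa [mul_inv_cancel_left] at this
    · have := hcos hA1 h1 h hO1
      rwa [mul_inv_cancel_left] at this
    · have := hcos (hC.leg_A.u_conj _ hA1) h2 h (hstable hC.base.hu.1 hO1)
      rwa [mul_inv_cancel_left] at this
  intro y hy hy1
  obtain ⟨l, hl, rfl⟩ : O y := by
    by_cases hyW : y ∈ hC.base.W
    · obtain ⟨m, hm, rfl⟩ := htr y hy hy1
      obtain ⟨v, hv, hvW⟩ := hfour hm ha₀ ha₀W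
      obtain ⟨l, hl, hlz⟩ := hcos ha₀ ha₀W hv hOa₀
      obtain ⟨l', hl', hl'z⟩ := hout _ (hNA hm (mul_mem ha₀ (hC.leg_A.W_le hv))) hvW
      refine ⟨m * l⁻¹ * m⁻¹ * l', mul_mem (Subgroup.Normal.conj_mem hn2 _ (inv_mem hl) m) hl', ?_⟩
      calc m * l⁻¹ * m⁻¹ * l' * z * (m * l⁻¹ * m⁻¹ * l')⁻¹
          = m * l⁻¹ * m⁻¹ * (l' * z * l'⁻¹) * (m * l * m⁻¹) := by group
        _ = m * l⁻¹ * (a₀ * v) * l * m⁻¹ := by rw [hl'z]; group
        _ = m * z * m⁻¹ := by rw [← hlz]; group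
    · exact hout y hy hyW
  refine ⟨l, hl, ?_, rfl⟩
  obtain ⟨m, hm, hmy⟩ := htr _ hy hy1
  have h' : m⁻¹ * l ∈ hC.NA := hC.H_le_NA ⟨mem_centralizer_singleton_iff.2 (by
    calc m⁻¹ * l * z = m⁻¹ * (l * z * l⁻¹) * l := by group
      _ = m⁻¹ * (m * z * m⁻¹) * l := by rw [hmy]
      _ = z * (m⁻¹ * l) := by group), show m⁻¹ * l ∈ K from mul_mem (inv_mem hm.2) (hC.res2_le hl)⟩
  have := mul_mem hm h'
  rwa [mul_inv_cancel_left] at this

/-- Every involution of `S₀` is conjugate to `z` in the residual. -/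
theorem conj_S {t : G} (ht : t ∈ hC.base.S) (htt : t * t = 1) (ht1 : t ≠ 1) :
    ∃ l ∈ hC.res2, l * z * l⁻¹ = t := by
  rcases hC.inv_AB ht htt with h | h
  · obtain ⟨l, hl, -, hlt⟩ := hC.conj_A hns t h ht1
    exact ⟨l, hl, hlt⟩
  · obtain ⟨l, hl, -, hlt⟩ := hC.conj_A hns _ (hC.e0_B.1 h) (fun h' => ht1 (conj_eq_one_iff.1 h'))
    refine ⟨e 0 * l * (e 0)⁻¹, hC.res2_normal.conj_mem l hl (e 0), ?_⟩
    have h0 := mem_centralizer_singleton_iff.1 hC.base.e0_props.1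
    have hc : (e 0)⁻¹ * z * e 0 = z := by rw [mul_assoc, ← h0, inv_mul_cancel_left]
    calc e 0 * l * (e 0)⁻¹ * z * (e 0 * l * (e 0)⁻¹)⁻¹ = e 0 * l * ((e 0)⁻¹ * z * e 0) * l⁻¹ * (e 0)⁻¹ := by group
      _ = e 0 * (l * z * l⁻¹) * (e 0)⁻¹ := by rw [hc]; group
      _ = t := by rw [hlt, hC.base.e0_conj_conj]

/-- 2-elements of the residual are conjugate into `S₀`. -/
theorem conj_two {x : G} (hx : x ∈ hC.res2) {k : ℕ} (hk : x ^ 2 ^ k = 1) :
    ∃ l ∈ hC.res2, l * x * l⁻¹ ∈ hC.base.S := by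
  haveI : Fact (Nat.Prime 2) := ⟨Nat.prime_two⟩
  have hp : IsPGroup 2 ↥(zpowers (⟨x, hx⟩ : hC.res2)) := by
    rintro ⟨y, n, rfl⟩
    refine ⟨k, Subtype.ext (Subtype.ext ?_)⟩
    simp only [SubgroupClass.coe_pow, SubgroupClass.coe_zpow, OneMemClass.coe_one]
    rw [← zpow_natCast, ← zpow_mul, mul_comm, zpow_mul, zpow_natCast, hk, one_zpow]
  obtain ⟨Q, hQ⟩ := hp.exists_le_sylow
  obtain ⟨P, hP⟩ := (hC.base.isPGroup_S.comap_of_injective hC.res2.subtype hC.res2.subtype_injective).exists_le_sylow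
  have hPS : (P : Subgroup hC.res2).map hC.res2.subtype = hC.base.S :=
    hC.base.eq_S hC.hW (P.2.map _) ((map_subtype_le _).trans hC.res2_le) fun a ha =>
      ⟨⟨a, hC.S_le_res2 ha⟩, hP (mem_subgroupOf.2 ha), rfl⟩
  obtain ⟨c, hc⟩ := MulAction.exists_smul_eq hC.res2 Q P
  refine ⟨c, c.2, ?_⟩
  rw [← hPS]
  refine ⟨c * ⟨x, hx⟩ * c⁻¹, ?_, by simp⟩
  show c * (⟨x, hx⟩ : hC.res2) * c⁻¹ ∈ (P : Subgroup hC.res2)
  rw [← hc]
  exact Subgroup.smul_mem_pointwise_smul _ _ _ (hQ (mem_zpowers _))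

/-- Every involution of the residual is conjugate to `z` there. -/
theorem conj_inv {t : G} (ht : t ∈ hC.res2) (htt : t * t = 1) (ht1 : t ≠ 1) :
    ∃ l ∈ hC.res2, l * z * l⁻¹ = t := by
  obtain ⟨c, hc, hcS⟩ := hC.conj_two hns ht (k := 1) (by rw [pow_one, pow_two]; exact htt)
  obtain ⟨l, hl, hlt⟩ := hC.conj_S hns hcS
    (by rw [show c * t * c⁻¹ * (c * t * c⁻¹) = c * (t * t) * c⁻¹ by group, htt]; group)
    (fun h => ht1 (conj_eq_one_iff.1 h))
  refine ⟨c⁻¹ * l, mul_mem (inv_mem hc) hl, ?_⟩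
  calc c⁻¹ * l * z * (c⁻¹ * l)⁻¹ = c⁻¹ * (l * z * l⁻¹) * c := by group
    _ = t := by rw [hlt]; group

theorem simple : IsSimpleGroup ↥hC.res2 := by
  have hzL : z ∈ hC.res2 := hC.S_le_res2 (hC.base.W_le_S hC.base.z_mem_W)
  haveI : Nontrivial ↥hC.res2 := ⟨⟨z, hzL⟩, 1, fun h => hC.base.frame.z1 (congrArg Subtype.val h)⟩
  refine ⟨fun N hN => ?_⟩
  haveI := hN
  rcases Nat.even_or_odd (Nat.card ↥N) with hev | hodd
  swap
  · exact Or.inl (hC.odd_trivial hns le_rfl (fun w hw => hC.S_le_res2 (hC.base.W_le_S hw)) hodd)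
  right
  haveI : Fact (Nat.Prime 2) := ⟨Nat.prime_two⟩
  obtain ⟨t, ht⟩ := exists_prime_orderOf_dvd_card' (G := ↥N) 2 hev.two_dvd
  have htt : ((t : hC.res2) : G) * (t : hC.res2) = 1 := by
    have h : t * t = 1 := by rw [← pow_two, ← ht, pow_orderOf_eq_one]
    exact congrArg (fun a : ↥N => ((a : hC.res2) : G)) h
  have ht1 : ((t : hC.res2) : G) ≠ 1 := fun h => by
    rw [show t = 1 from Subtype.ext (Subtype.ext h), orderOf_one] at ht
    exact absurd ht (by norm_num)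
  have hconj : ∀ {a : hC.res2}, a ∈ N → ∀ l ∈ hC.res2, ∀ {b : hC.res2}, l * (a : G) * l⁻¹ = b → b ∈ N := by
    intro a ha l hl b h
    rw [show b = ⟨l, hl⟩ * a * ⟨l, hl⟩⁻¹ from Subtype.ext (by simpa using h.symm)]
    exact hN.conj_mem a ha _
  obtain ⟨l, hl, hlt⟩ := hC.conj_inv hns t.1.2 htt ht1
  have hzN : (⟨z, hzL⟩ : hC.res2) ∈ N := hconj t.2 l⁻¹ (inv_mem hl) (by
    show l⁻¹ * ((t : hC.res2) : G) * l⁻¹⁻¹ = z
    rw [← hlt]; group)
  have hinv : ∀ a, (ha : a ∈ hC.base.S) → a * a = 1 → (⟨a, hC.S_le_res2 ha⟩ : hC.res2) ∈ N := by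
    intro a ha haa
    by_cases ha1 : a = 1
    · rw [show (⟨a, hC.S_le_res2 ha⟩ : hC.res2) = 1 from Subtype.ext ha1]; exact one_mem _
    obtain ⟨l, hl, hla⟩ := hC.conj_S hns ha haa ha1
    exact hconj hzN l hl hla
  have hS : ∀ a, (ha : a ∈ hC.base.S) → (⟨a, hC.S_le_res2 ha⟩ : hC.res2) ∈ N := by
    intro a ha
    obtain ⟨a', ha', hb⟩ := hC.exists_mem_AB ha
    have h := mul_mem (inv_mem (hinv a' ha'.2 (hC.leg_A.sq a' ha')))
      (hinv _ hb.2 (hC.leg_B.sq _ hb))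
    convert h using 1
    exact Subtype.ext (by simp)
  have htop : ∀ a, (ha : a ∈ hC.res2) → (⟨a, ha⟩ : hC.res2) ∈ N := by
    intro a ha
    induction ha using closure_induction with
    | mem x hx =>
      obtain ⟨hxK, k, hk⟩ := hx
      obtain ⟨c, hc, hcS⟩ := hC.conj_two hns (hC.mem_res2_of_two hxK hk) hk
      exact hconj (hS _ hcS) c⁻¹ (inv_mem hc) (by
        show c⁻¹ * (c * x * c⁻¹) * c⁻¹⁻¹ = x
        group)
    | one => exact one_mem N
    | mul x y hx hy ihx ihy => exact mul_mem ihx ihy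
    | inv x hx ih => exact inv_mem ih
  exact eq_top_iff.2 fun a _ => htop a a.2

theorem nonabelian : ∃ a b : ↥hC.res2, a * b ≠ b * a := by
  obtain ⟨a, ha, b, hb, hab⟩ := hC.noncomm
  exact ⟨⟨a, hC.A_le_res2 ha⟩, ⟨b, hC.S_le_res2 hb.2⟩, fun h => hab (congrArg Subtype.val h)⟩

theorem cit (t : ↥hC.res2) (ht : orderOf t = 2) : IsPGroup 2 ↥(centralizer ({t} : Set ↥hC.res2)) := by
  have h2 : t * t = 1 := by rw [← pow_two, ← ht, pow_orderOf_eq_one]
  obtain ⟨l, hl, hlt⟩ := hC.conj_inv hns t.2 (congrArg Subtype.val h2) (fun h => by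
    rw [show t = 1 from Subtype.ext h, orderOf_one] at ht
    exact absurd ht (by norm_num))
  rintro ⟨g, hg⟩
  have hg' : (g : G) * t = t * g := congrArg Subtype.val (mem_centralizer_singleton_iff.1 hg)
  have hS : l⁻¹ * g * l ∈ hC.base.S := hC.mem_S_of_res2 hns (mul_mem (mul_mem (inv_mem hl) g.2) hl)
    (mem_centralizer_singleton_iff.2 (by
      calc l⁻¹ * g * l * z = l⁻¹ * ((g : G) * (l * z * l⁻¹)) * l := by group
        _ = l⁻¹ * ((g : G) * t) * l := by rw [hlt]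
        _ = l⁻¹ * ((t : G) * g) * l := by rw [hg']
        _ = l⁻¹ * ((l * z * l⁻¹) * g) * l := by rw [hlt]
        _ = z * (l⁻¹ * g * l) := by group))
  obtain ⟨k, hk⟩ := hC.base.isPGroup_S ⟨_, hS⟩
  refine ⟨k, Subtype.ext (Subtype.ext ?_)⟩
  have hk' : (l⁻¹ * (g : G) * l) ^ 2 ^ k = 1 := congrArg Subtype.val hk
  rw [show l⁻¹ * (g : G) * l = l⁻¹ * g * l⁻¹⁻¹ by group, conj_pow, conj_eq_one_iff] at hk'
  simpa using hk'

theorem three_dvd : 3 ∣ Nat.card ↥hC.res2 := by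
  classical
  haveI := hC.base.normal
  set N := hC.NA ⊓ hC.res2 with hN
  letI : MulAction N G := MulAction.compHom G (MulAut.conj.comp N.subtype)
  have hmem : ∀ y, y ∈ MulAction.orbit N z ↔ ∃ n ∈ N, n * z * n⁻¹ = y := fun y => by
    rw [MulAction.mem_orbit_iff]
    exact ⟨fun ⟨n, h⟩ => ⟨n, n.2, h⟩, fun ⟨n, hn, h⟩ => ⟨⟨n, hn⟩, h⟩⟩
  have horb : MulAction.orbit N z = (hC.A : Set G) \ {1} := by
    refine Set.ext fun y => ⟨fun hy => ?_, fun hy => ?_⟩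
    · obtain ⟨n, hn, rfl⟩ := (hmem y).1 hy
      exact ⟨(mem_normalizer_iff.1 hn.1.1 z).1 (hC.leg_A.W_le hC.base.z_mem_W),
        fun h => hC.base.frame.z1 (conj_eq_one_iff.1 h)⟩
    · obtain ⟨l, hl, hlN, hly⟩ := hC.conj_A hns y hy.1 hy.2
      exact (hmem y).2 ⟨l, ⟨hlN, hl⟩, hly⟩
  have h15 : (MulAction.orbit N z).ncard = 15 := by
    rw [horb, Set.ncard_diff_singleton_of_mem (show (1 : G) ∈ (hC.A : Set G) from one_mem _),
      ← Nat.card_coe_set_eq]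
    show Nat.card ↥hC.A - 1 = 15
    rw [hC.leg_A.card]
  rw [← MulAction.index_stabilizer] at h15
  exact ((show 3 ∣ 15 by norm_num).trans (h15 ▸ Subgroup.index_dvd_card _)).trans (card_dvd_of_le inf_le_right)

theorem card_res2 : 64 ∣ Nat.card ↥hC.res2 ∧ ¬ 128 ∣ Nat.card ↥hC.res2 := by
  refine ⟨hC.base.card_S ▸ card_dvd_of_le hC.S_le_res2, fun h => ?_⟩
  haveI : Fact (Nat.Prime 2) := ⟨Nat.prime_two⟩
  obtain ⟨P⟩ : Nonempty (Sylow 2 ↥hC.res2) := inferInstance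
  have h1 := P.pow_dvd_card_of_pow_dvd_card (n := 7) (by simpa using h)
  have h3 := hC.base.sylow_card hC.hW (P.2.map hC.res2.subtype) ((map_subtype_le _).trans hC.res2_le)
  rw [card_map_of_injective hC.res2.subtype_injective] at h3
  exact absurd (h1.trans h3) (by norm_num)

end Base0

end CfsgLib.Recog.AutLThreeFour
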