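import Cfsg.Prelude.Def_Transfer
import Cfsg.Agent.Lib.PGroups.ExtraspecialOut
import Cfsg.Agent.Lib.Recog.AutLThreeFour.Model
import Mathlib.GroupTheory.Perm.Finite

/-!
Owner: helper28. A centraliser `2^{1+4}_- . S₄` carries four involutions of the extraspecial group permuted
with signs.
-/

set_option autoImplicit false
set_option linter.all false

namespace CfsgLib.Recog.AutLThreeFour

open Subgroup
open scoped commutatorElement

/-- The standing data at an involution. -/
structure Frame {G : Type*} [Group G] (z : G) (e : Fin 4 → G) : Prop where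
  rel : Rel e z
  z1 : z ≠ 1
  conj : ∀ g ∈ centralizer ({z} : Set G), ∀ i, ∃ j, ∃ b : ZMod 2, g * e i * g⁻¹ = e j * z ^ b.val
  ker : ∀ g ∈ centralizer ({z} : Set G), (∀ i, g * e i = e i * g) → g = 1 ∨ g = z
  card : Nat.card ↥(centralizer ({z} : Set G)) = 768

section Extra

variable {E : Type*} [Group E] [Finite E] (hE : Cfsg.IsExtraspecial 2 E)
  {z : E} (hzc : z ∈ center E) (hz1 : z ≠ 1)
include hE hzc hz1

theorem center_mem {c : E} (hc : c ∈ center E) : c = 1 ∨ c = z := by
  by_cases h : c = 1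
  · exact Or.inl h
  · exact Or.inr (PGroups.ExtraspecialOut.center_two hE hc hzc h hz1)

theorem zz_eq : z * z = 1 := by
  rcases center_mem hE hzc hz1 (mul_mem hzc hzc) with h | h
  · exact h
  · exact absurd (mul_eq_left.1 h) hz1

theorem comm_cases (x y : E) : y * x = x * y ∨ y * x = x * y * z := by
  have hc : ⁅y, x⁆ ∈ center E := hE.1.2.2 ▸ commutator_mem_commutator (mem_top y) (mem_top x)
  have h0 : y * x = ⁅y, x⁆ * (x * y) := by rw [commutatorElement_def]; group
  rcases center_mem hE hzc hz1 hc with h | h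
  · left; rw [h0, h, one_mul]
  · right; rw [h0, h]; exact (mem_center_iff.1 hzc (x * y)).symm

theorem zc (x : E) : z * x = x * z := (mem_center_iff.1 hzc x).symm

theorem sq_cases (x : E) : x * x = 1 ∨ x * x = z := by
  have hzz := zz_eq hE hzc hz1
  refine center_mem hE hzc hz1 (mem_center_iff.2 fun y => ?_)
  rcases comm_cases hE hzc hz1 x y with h | h
  · rw [← mul_assoc, h, mul_assoc, h, ← mul_assoc]
  · calc y * (x * x) = x * y * z * x := by rw [← mul_assoc, h]
      _ = x * (y * x) * z := by rw [mul_assoc (x * y) z x, zc hE hzc hz1 x]; group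
      _ = x * (x * y * z) * z := by rw [h]
      _ = x * x * y * (z * z) := by group
      _ = x * x * y := by rw [hzz, mul_one]

theorem noncomm_of_not_center {x : E} (hx : x ≠ 1) (hxz : x ≠ z) : ∃ y, y * x = x * y * z := by
  by_contra h
  push_neg at h
  rcases center_mem hE hzc hz1 (mem_center_iff.2 fun y => (comm_cases hE hzc hz1 x y).resolve_right (h y))
    with e | e
  · exact hx e
  · exact hxz e

variable (hminus : ∀ A : Subgroup E, Cfsg.IsElementaryAbelian 2 A → Nat.card ↥A ≠ 8)
include hminus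

/-- Two commuting involutions outside the centre differ by a central element. -/
theorem no_eight {x y : E} (hx : x * x = 1) (hy : y * y = 1) (hxy : y * x = x * y)
    (hx1 : x ≠ 1) (hxz : x ≠ z) : y = 1 ∨ y = z ∨ y = x ∨ y = x * z := by
  by_contra h
  push_neg at h
  obtain ⟨hy1, hyz, hyx, hyxz⟩ := h
  have hzz := zz_eq hE hzc hz1
  have hzx := zc hE hzc hz1 x
  have hzy := zc hE hzc hz1 y
  have hv : ∀ x : ZMod 2, x = 0 ∨ x = 1 := by decide
  set f : Multiplicative (ZMod 2 × ZMod 2 × ZMod 2) → E := fun t =>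
    x ^ t.toAdd.1.val * y ^ t.toAdd.2.1.val * z ^ t.toAdd.2.2.val with hf
  have hyxy : ∀ w : E, w * y * x = w * x * y := fun w => by rw [mul_assoc, hxy, ← mul_assoc]
  have hzx' : ∀ w : E, w * z * x = w * x * z := fun w => by rw [mul_assoc, hzx, ← mul_assoc]
  have hzy' : ∀ w : E, w * z * y = w * y * z := fun w => by rw [mul_assoc, hzy, ← mul_assoc]
  have hxx' : ∀ w : E, w * x * x = w := fun w => by rw [mul_assoc, hx, mul_one]
  have hyy' : ∀ w : E, w * y * y = w := fun w => by rw [mul_assoc, hy, mul_one]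
  have hzz' : ∀ w : E, w * z * z = w := fun w => by rw [mul_assoc, hzz, mul_one]
  have q : (1 + 1 : ZMod 2) = 0 := by decide
  let φ : Multiplicative (ZMod 2 × ZMod 2 × ZMod 2) →* E := MonoidHom.mk' f (by
    intro s t
    induction s using Multiplicative.rec with | _ s => ?_
    induction t using Multiplicative.rec with | _ t => ?_
    obtain ⟨a, b, c⟩ := s
    obtain ⟨a', b', c'⟩ := t
    rcases hv a with rfl | rfl <;> rcases hv b with rfl | rfl <;> rcases hv c with rfl | rfl <;>
      rcases hv a' with rfl | rfl <;> rcases hv b' with rfl | rfl <;> rcases hv c' with rfl | rfl <;>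
      simp [hf, q, ZMod.val_one, ← mul_assoc, hx, hy, hzz, hxy, hzx, hzy, hyxy, hzx', hzy', hxx', hyy', hzz'])
  have hinj : Function.Injective φ := by
    rw [injective_iff_map_eq_one]
    intro s hs
    induction s using Multiplicative.rec with | _ s => ?_
    obtain ⟨a, b, c⟩ := s
    have hs' : x ^ a.val * y ^ b.val * z ^ c.val = 1 := hs
    have hinv : ∀ {u v : E}, u * v = 1 → v * v = 1 → u = v := fun {u v} h1 h2 => by
      rw [← mul_one u, ← h2, ← mul_assoc, h1, one_mul]
    rcases hv a with rfl | rfl <;> rcases hv b with rfl | rfl <;> rcases hv c with rfl | rfl <;>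
      simp [ZMod.val_one] at hs'
    · rfl
    · exact absurd hs' hz1
    · exact absurd hs' hy1
    · exact absurd (hinv hs' hzz) hyz
    · exact absurd hs' hx1
    · exact absurd (hinv hs' hzz) hxz
    · exact absurd (hinv hs' hy).symm hyx
    · refine absurd ?_ hyxz
      have h1 := hinv hs' hzz
      rw [← h1, ← mul_assoc, hx, one_mul]
  have hcard : Nat.card φ.range = 8 := by
    rw [show Nat.card φ.range = Nat.card (Multiplicative (ZMod 2 × ZMod 2 × ZMod 2)) from
      (Nat.card_congr (MonoidHom.ofInjective hinj).toEquiv).symm]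
    simp [Nat.card_eq_fintype_card]
  refine hminus φ.range ⟨⟨⟨?_⟩⟩, ?_⟩ hcard
  · rintro ⟨_, s, rfl⟩ ⟨_, t, rfl⟩
    exact Subtype.ext (show φ s * φ t = φ t * φ s by rw [← map_mul, ← map_mul, mul_comm])
  · rintro _ ⟨s, rfl⟩
    have h2 : s ^ 2 = 1 := by
      revert s; decide
    rw [← map_pow, h2, map_one]

/-- Four pairwise non-commuting involutions. -/
theorem exists_rel (h32 : Nat.card E = 32) : ∃ e : Fin 4 → E, Rel e z := by
  have hzz := zz_eq hE hzc hz1
  have hzc' := zc hE hzc hz1
  have hsq := sq_cases hE hzc hz1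
  have hcc := comm_cases hE hzc hz1
  have hswap : ∀ {u v : E}, v * u = u * v * z → u * v = v * u * z := fun {u v} h => by
    rw [h, mul_assoc, hzz, mul_one]
  -- the elements commuting with two given ones
  have hC : ∀ u v : E, 8 ≤ Nat.card ↥(centralizer ({u} : Set E) ⊓ centralizer ({v} : Set E)) := by
    intro u v
    have h2 : ∀ w : E, (centralizer ({w} : Set E)).index ≤ 2 := by
      intro w
      rw [Subgroup.index_eq_card]
      let g : E ⧸ centralizer ({w} : Set E) → ({1, z} : Set E) := fun q => ⟨q.out * w * q.out⁻¹ * w⁻¹, by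
        rcases hcc w q.out with h | h <;> rw [h]
        · left; group
        · right
          show _ = z
          rw [mul_assoc w q.out z, ← hzc', ← mul_assoc w z, ← hzc' w]
          group⟩
      refine le_trans (Nat.card_le_card_of_injective g fun q r hqr => ?_) ?_
      · have h : q.out * w * q.out⁻¹ * w⁻¹ = r.out * w * r.out⁻¹ * w⁻¹ := congrArg Subtype.val hqr
        rw [mul_left_inj] at h
        rw [← QuotientGroup.out_eq' q, ← QuotientGroup.out_eq' r, QuotientGroup.eq, mem_centralizer_singleton_iff]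
        calc q.out⁻¹ * r.out * w = q.out⁻¹ * (r.out * w * r.out⁻¹) * r.out := by group
          _ = q.out⁻¹ * (q.out * w * q.out⁻¹) * r.out := by rw [h]
          _ = w * (q.out⁻¹ * r.out) := by group
      · rw [Nat.card_coe_set_eq]
        exact (Set.ncard_insert_le _ _).trans (by rw [Set.ncard_singleton])
    have h4 : (centralizer ({u} : Set E) ⊓ centralizer ({v} : Set E)).index ≤ 4 :=
      Subgroup.index_inf_le.trans (Nat.mul_le_mul (h2 u) (h2 v))
    have := Subgroup.card_mul_index (centralizer ({u} : Set E) ⊓ centralizer ({v} : Set E))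
    nlinarith
  -- an element of square `z` gives a non-central involution through a commuting pair
  have hinvol : ∃ x : E, x * x = 1 ∧ x ≠ 1 ∧ x ≠ z := by
    by_contra hno
    push_neg at hno
    have hnot : ∀ x : E, x ≠ 1 → x ≠ z → x * x = z := fun x h1 h2 =>
      (hsq x).resolve_left fun h => h2 (hno x h h1)
    haveI : Fintype E := Fintype.ofFinite _
    classical
    obtain ⟨i, hi⟩ : ∃ i : E, i ∉ ({1, z} : Finset E) := by
      by_contra hc
      push_neg at hc
      have h1 := Finset.card_le_card (s := Finset.univ) (t := ({1, z} : Finset E)) fun x _ => hc x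
      have h2 := Finset.card_le_two (a := (1 : E)) (b := z)
      rw [Finset.card_univ, ← Nat.card_eq_fintype_card, h32] at h1
      omega
    simp only [Finset.mem_insert, Finset.mem_singleton, not_or] at hi
    obtain ⟨j, hj⟩ := noncomm_of_not_center hE hzc hz1 hi.1 hi.2
    obtain ⟨k, hk, hk'⟩ : ∃ k ∈ centralizer ({i} : Set E) ⊓ centralizer ({j} : Set E), k ∉ ({1, z} : Finset E) := by
      by_contra hc
      push_neg at hc
      have h1 : Nat.card ↥(centralizer ({i} : Set E) ⊓ centralizer ({j} : Set E)) ≤ 2 := by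
        refine le_trans (Nat.card_le_card_of_injective
          (fun x => (⟨x.1, by simpa using hc x.1 x.2⟩ : ({1, z} : Set E)))
          fun a b h => Subtype.ext (congrArg (fun t => t.1) h :)) ?_
        rw [Nat.card_coe_set_eq]
        exact (Set.ncard_insert_le _ _).trans (by rw [Set.ncard_singleton])
      have := hC i j
      omega
    simp only [Finset.mem_insert, Finset.mem_singleton, not_or] at hk'
    have hki : k * i = i * k := mem_centralizer_singleton_iff.1 hk.1
    have hkj : k * j = j * k := mem_centralizer_singleton_iff.1 hk.2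
    have h1 : i * k * (i * k) = 1 := by
      rw [show i * k * (i * k) = i * (k * i) * k by group, hki,
        show i * (i * k) * k = (i * i) * (k * k) by group, hnot i hi.1 hi.2, hnot k hk'.1 hk'.2, hzz]
    have hne : ∀ c : E, (∀ y, c * y = y * c) → i * k ≠ c := by
      intro c hc e
      have hik : j * (i * k) = (i * k) * j := by rw [e]; exact (hc j).symm
      rw [← mul_assoc, hj, mul_assoc (i * j), hzc' k, ← mul_assoc, mul_assoc i j k, ← hkj, ← mul_assoc] at hik
      exact hz1 (mul_eq_left.1 hik)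
    exact hne z hzc' (hno _ h1 (hne 1 fun y => by rw [one_mul, mul_one]))
  obtain ⟨x, hx, hx1, hxz⟩ := hinvol
  obtain ⟨t, ht⟩ := noncomm_of_not_center hE hzc hz1 hx1 hxz
  obtain ⟨y, hy, hyx⟩ : ∃ y : E, y * y = 1 ∧ y * x = x * y * z := by
    rcases hsq t with h | h
    · exact ⟨t, h, ht⟩
    · refine ⟨x * t, ?_, ?_⟩
      · rw [show x * t * (x * t) = x * (t * x) * t by group, ht,
          show x * (x * t * z) * t = (x * x) * (t * (z * t)) by group, hx, one_mul, hzc', ← mul_assoc, h, hzz]
      · rw [mul_assoc, ht, ← mul_assoc, ← mul_assoc]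
  have hy1 : y ≠ 1 := fun e => hz1 (by rw [e, one_mul, mul_one] at hyx; exact mul_eq_left.1 hyx.symm)
  have hyz : y ≠ z := fun e => hz1 (by rw [e, hzc' x] at hyx; exact mul_eq_left.1 hyx.symm)
  obtain ⟨i, hiC, hi⟩ : ∃ i ∈ centralizer ({x} : Set E) ⊓ centralizer ({y} : Set E), i ≠ 1 ∧ i ≠ z := by
    by_contra hc
    push_neg at hc
    have h1 : Nat.card ↥(centralizer ({x} : Set E) ⊓ centralizer ({y} : Set E)) ≤ 2 := by
      refine le_trans (Nat.card_le_card_of_injective
        (fun u => (⟨u.1, (em (u.1 = 1)).imp id (hc u.1 u.2)⟩ : ({1, z} : Set E)))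
        fun a b h => Subtype.ext (congrArg (fun t => t.1) h :)) ?_
      rw [Nat.card_coe_set_eq]
      exact (Set.ncard_insert_le _ _).trans (by rw [Set.ncard_singleton])
    have := hC x y
    omega
  have hQ : ∀ u ∈ centralizer ({x} : Set E) ⊓ centralizer ({y} : Set E), u ≠ 1 → u ≠ z → u * u = z := by
    intro u hu h1 h2
    refine (hsq u).resolve_left fun h => ?_
    have hux : u * x = x * u := mem_centralizer_singleton_iff.1 hu.1
    have huy : u * y = y * u := mem_centralizer_singleton_iff.1 hu.2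
    rcases no_eight hE hzc hz1 hminus hx h hux hx1 hxz with e | e | e | e
    · exact h1 e
    · exact h2 e
    · rw [e] at huy
      exact hz1 (mul_eq_left.1 (hyx.symm.trans huy.symm))
    · rw [e, mul_assoc, hzc' y, ← mul_assoc, ← mul_assoc, hyx, mul_assoc _ z z, hzz, mul_one] at huy
      exact hz1 (mul_eq_left.1 huy)
  obtain ⟨t, ht⟩ := noncomm_of_not_center hE hzc hz1 hi.1 hi.2
  -- `t`, corrected into the centraliser of `x` and `y`
  have hix : i * x = x * i := mem_centralizer_singleton_iff.1 hiC.1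
  have hiy : i * y = y * i := mem_centralizer_singleton_iff.1 hiC.2
  obtain ⟨j, hj, hjx, hjy⟩ : ∃ j, j * i = i * j * z ∧ j * x = x * j ∧ j * y = y * j := by
    have fix : ∀ {u v w : E}, w * u = u * w * z → v * u = u * v * z → (w * v) * u = u * (w * v) := by
      intro u v w hw hv
      rw [mul_assoc, hv, ← mul_assoc, ← mul_assoc, hw, mul_assoc (u * w) z v, hzc' v, ← mul_assoc,
        mul_assoc (u * w * v) z z, hzz, mul_one, mul_assoc]
    have keep : ∀ {u v w : E}, w * u = u * w * z → v * u = u * v → (w * v) * u = u * (w * v) * z := by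
      intro u v w hw hv
      rw [mul_assoc, hv, ← mul_assoc, hw, mul_assoc (u * w) z v, hzc' v, ← mul_assoc, mul_assoc u w v]
    have keep' : ∀ {u v w : E}, w * u = u * w → v * u = u * v → (w * v) * u = u * (w * v) := by
      intro u v w hw hv
      rw [mul_assoc, hv, ← mul_assoc, hw, mul_assoc]
    obtain ⟨j₁, hj₁, hj₁x⟩ : ∃ j₁, j₁ * i = i * j₁ * z ∧ j₁ * x = x * j₁ := by
      rcases hcc x t with h | h
      · exact ⟨t, ht, h⟩
      · exact ⟨t * y, keep ht hiy.symm, fix h hyx⟩
    rcases hcc y j₁ with h | h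
    · exact ⟨j₁, hj₁, hj₁x, h⟩
    · exact ⟨j₁ * x, keep hj₁ hix.symm, keep' hj₁x rfl, fix h (hswap hyx)⟩
  have hj1 : j ≠ 1 := fun e => hz1 (by rw [e, one_mul, mul_one] at hj; exact mul_eq_left.1 hj.symm)
  have hjz : j ≠ z := fun e => hz1 (by rw [e, hzc' i] at hj; exact mul_eq_left.1 hj.symm)
  have hii := hQ i hiC hi.1 hi.2
  have hjj := hQ j ⟨mem_centralizer_singleton_iff.2 hjx, mem_centralizer_singleton_iff.2 hjy⟩ hj1 hjz
  have a1 : ∀ w : E, w * y * x = w * x * y * z := fun w => by rw [mul_assoc, hyx, ← mul_assoc, ← mul_assoc]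
  have a2 : ∀ w : E, w * i * x = w * x * i := fun w => by rw [mul_assoc, hix, ← mul_assoc]
  have a3 : ∀ w : E, w * i * y = w * y * i := fun w => by rw [mul_assoc, hiy, ← mul_assoc]
  have a4 : ∀ w : E, w * j * x = w * x * j := fun w => by rw [mul_assoc, hjx, ← mul_assoc]
  have a5 : ∀ w : E, w * j * y = w * y * j := fun w => by rw [mul_assoc, hjy, ← mul_assoc]
  have a6 : ∀ w : E, w * j * i = w * i * j * z := fun w => by rw [mul_assoc, hj, ← mul_assoc, ← mul_assoc]
  have b0 : ∀ (v w : E), w * z * v = w * v * z := fun v w => by rw [mul_assoc, hzc', ← mul_assoc]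
  have c0 : ∀ w : E, w * x * x = w := fun w => by rw [mul_assoc, hx, mul_one]
  have c1 : ∀ w : E, w * y * y = w := fun w => by rw [mul_assoc, hy, mul_one]
  have c2 : ∀ w : E, w * i * i = w * z := fun w => by rw [mul_assoc, hii]
  have c3 : ∀ w : E, w * j * j = w * z := fun w => by rw [mul_assoc, hjj]
  have c4 : ∀ w : E, w * z * z = w := fun w => by rw [mul_assoc, hzz, mul_one]
  refine ⟨![x, y, x * y * i, x * y * j], ?_, hzz, ?_, fun k => hzc' _⟩
  · intro k
    fin_cases k <;> simp [← mul_assoc, hx, hy, hyx, hix, hiy, hjx, hjy, hj, hii, hjj, hzz,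
      a1, a2, a3, a4, a5, a6, b0 x, b0 y, b0 i, b0 j, hzc' x, hzc' y, hzc' i, hzc' j, c0, c1, c2, c3, c4]
  · intro k l hkl
    fin_cases k <;> fin_cases l <;> first | exact absurd rfl hkl | simp [← mul_assoc, hx, hy, hyx, hix, hiy, hjx, hjy,
      hj, hii, hjj, hzz, a1, a2, a3, a4, a5, a6, b0 x, b0 y, b0 i, b0 j, hzc' x, hzc' y, hzc' i, hzc' j, c0, c1, c2, c3, c4]

end Extra

/-- A subgroup of order 24 of the symmetric group on five letters fixes a letter. -/
theorem exists_fixed (K : Subgroup (Equiv.Perm (Fin 5))) (hK : Nat.card ↥K = 24) : ∃ a, ∀ g ∈ K, g a = a := by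
  classical
  by_contra hno
  push_neg at hno
  have h120 : ∀ (s : Finset (Fin 5)), s.card = 2 →
      Nat.card {g : Equiv.Perm (Fin 5) // ∀ a ∈ s, g a ∈ s} ≤ 12 := by
    intro s hs
    rw [Nat.card_eq_fintype_card]
    revert s
    decide
  have hdvd : ∀ a : Fin 5, Nat.card (MulAction.orbit K a) ∣ 24 := fun a => by
    rw [← hK, Nat.card_congr (MulAction.orbitEquivQuotientStabilizer K a)]
    exact Subgroup.card_quotient_dvd_card _
  let o : Fin 5 → Finset (Fin 5) := fun a => (MulAction.orbit K a).toFinset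
  have ho : ∀ a, (o a).card = Nat.card (MulAction.orbit K a) := fun a => by
    simp [o, Nat.card_eq_fintype_card]
  have hne5 : ∀ a, (o a).card ≠ 5 := fun a h => by
    have := hdvd a
    rw [← ho, h] at this
    omega
  have h2 : ∀ a, 2 ≤ (o a).card := fun a => by
    obtain ⟨g, hg, hga⟩ := hno a
    refine Finset.one_lt_card.2 ⟨g a, ?_, a, ?_, hga⟩
    · exact Set.mem_toFinset.2 ⟨⟨g, hg⟩, rfl⟩
    · exact Set.mem_toFinset.2 (MulAction.mem_orbit_self a)
  -- two disjoint orbits, one of size two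
  obtain ⟨b, hb⟩ : ∃ b, b ∉ o 0 := by
    by_contra h
    push_neg at h
    exact hne5 0 (by rw [Finset.eq_univ_of_forall h]; rfl)
  have hd : Disjoint (o 0) (o b) := Finset.disjoint_left.2 fun c h0 hc => hb (Set.mem_toFinset.2 (by
    rw [Set.mem_toFinset] at h0 hc
    rw [← MulAction.orbit_eq_iff.2 h0, MulAction.orbit_eq_iff.2 hc]
    exact MulAction.mem_orbit_self b))
  have hle : (o 0).card + (o b).card ≤ 5 := by
    rw [← Finset.card_union_of_disjoint hd]
    exact (Finset.card_le_univ _).trans (by simp)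
  obtain ⟨c, hc⟩ : ∃ c, (o c).card = 2 := by
    rcases Nat.lt_or_ge (o 0).card 3 with h | h
    · exact ⟨0, le_antisymm (by omega) (h2 0)⟩
    · exact ⟨b, le_antisymm (by omega) (h2 b)⟩
  have hsub : Nat.card ↥K ≤ Nat.card {g : Equiv.Perm (Fin 5) // ∀ a ∈ o c, g a ∈ o c} :=
    Nat.card_le_card_of_injective (fun g => ⟨g.1, fun a ha => by
      rw [Set.mem_toFinset] at ha ⊢
      exact MulAction.mem_orbit_of_mem_orbit g ha⟩) fun g g' h => Subtype.ext (congrArg (fun t => t.1) h :)
  have := h120 (o c) hc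
  omega

section Five

variable {X : Type*} [Group X] [Finite X] (E : Subgroup X) [E.Normal] {z : X}

theorem exists_frame (hE : Cfsg.IsExtraspecial 2 ↥E) (h32 : Nat.card ↥E = 32)
    (hminus : ∀ A : Subgroup ↥E, Cfsg.IsElementaryAbelian 2 A → Nat.card ↥A ≠ 8)
    (hCE : centralizer (E : Set X) ≤ E) (iso : (X ⧸ E) ≃* Equiv.Perm (Fin 4))
    (hzc : ∀ x : X, z * x = x * z) (hz1 : z ≠ 1) :
    ∃ e : Fin 4 → X, Rel e z ∧ Nat.card X = 768 ∧ (∀ g i, ∃ j, ∃ b : ZMod 2, g * e i * g⁻¹ = e j * z ^ b.val) ∧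
      ∀ g, (∀ i, g * e i = e i * g) → g = 1 ∨ g = z := by
  have hcardX : Nat.card X = 768 := by
    rw [Subgroup.card_eq_card_quotient_mul_card_subgroup E, h32, Nat.card_congr iso.toEquiv,
      Nat.card_eq_fintype_card, Fintype.card_perm]
    rfl
  have hzE : z ∈ E := hCE (mem_centralizer_iff.2 fun h _ => (hzc h).symm)
  have hzcE : (⟨z, hzE⟩ : E) ∈ center ↥E := mem_center_iff.2 fun h => Subtype.ext (hzc h.1).symm
  have hz1E : (⟨z, hzE⟩ : E) ≠ 1 := fun h => hz1 (congrArg Subtype.val h)
  obtain ⟨e₀, hr₀⟩ := exists_rel hE hzcE hz1E hminus h32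
  set θ := thetaHom hr₀ with hθ
  have hinj := thetaHom_injective hr₀ hz1E
  have hsurj : Function.Surjective θ :=
    ((Nat.bijective_iff_injective_and_card _).2 ⟨hinj, by rw [Nat.card_eq_fintype_card, Mo.card_eq, h32]⟩).2
  let five : Fin 5 → Mo := fun i => if h : (i : ℕ) < 4 then Mo.gen ⟨i, h⟩ else Mo.om
  have hfive : ∀ m : Mo, m * m = 1 → m = 1 ∨ m = Mo.zz ∨ ∃ i, ∃ b : ZMod 2, m = five i * Mo.zz ^ b.val := by
    decide
  have hfu : ∀ i j : Fin 5, ∀ a b : ZMod 2, five i * Mo.zz ^ a.val = five j * Mo.zz ^ b.val → i = j ∧ a = b := by decide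
  have hfsq : ∀ i : Fin 5, five i * five i = 1 ∧ five i ≠ 1 ∧ five i ≠ Mo.zz := by decide
  have hfsw : ∀ i j : Fin 5, i ≠ j → five j * five i = five i * five j * Mo.zz := by decide
  let f : Fin 5 → X := fun i => (θ (five i) : E)
  have hfz : ∀ (i : Fin 5) (b : ZMod 2), ((θ (five i * Mo.zz ^ b.val) : E) : X) = f i * z ^ b.val := by
    intro i b; simp [f, hθ, thetaHom_zz]
  have huniq : ∀ {i j : Fin 5} {a b : ZMod 2}, f i * z ^ a.val = f j * z ^ b.val → i = j ∧ a = b := by
    intro i j a b h
    rw [← hfz, ← hfz] at h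
    exact hfu i j a b (hinj (Subtype.ext h))
  have hact : ∀ g : X, ∀ i, ∃ j, ∃ b : ZMod 2, g * f i * g⁻¹ = f j * z ^ b.val := by
    intro g i
    obtain ⟨m, hm⟩ := hsurj ⟨g * f i * g⁻¹, Subgroup.Normal.conj_mem inferInstance _ (θ (five i)).2 g⟩
    have hm' : ((θ m : E) : X) = g * f i * g⁻¹ := congrArg Subtype.val hm
    have hmm : m * m = 1 := by
      refine hinj (Subtype.ext ?_)
      rw [map_mul, map_one, Subgroup.coe_mul, hm', Subgroup.coe_one]
      have : f i * f i = 1 := by
        show ((θ (five i) : E) : X) * (θ (five i) : E) = 1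
        rw [← Subgroup.coe_mul, ← map_mul, (hfsq i).1, map_one, Subgroup.coe_one]
      rw [show g * f i * g⁻¹ * (g * f i * g⁻¹) = g * (f i * f i) * g⁻¹ by group, this, mul_one, mul_inv_cancel]
    rcases hfive m hmm with rfl | rfl | ⟨j, b, rfl⟩
    · refine absurd ?_ (hfsq i).2.1
      refine hinj (Subtype.ext ?_)
      rw [map_one, Subgroup.coe_one] at hm' ⊢
      show f i = 1
      rw [show f i = g⁻¹ * (g * f i * g⁻¹) * g by group, ← hm']
      group
    · refine absurd ?_ (hfsq i).2.2
      refine hinj (Subtype.ext ?_)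
      show f i = _
      rw [show f i = g⁻¹ * (g * f i * g⁻¹) * g by group, ← hm']
      simp only [hθ, thetaHom_zz]
      rw [mul_assoc, hzc, ← mul_assoc, inv_mul_cancel, one_mul]
    · exact ⟨j, b, by rw [← hm', hfz]⟩
  choose π sg hπ using hact
  have hzpow : ∀ (n : ℕ) (x : X), z ^ n * x = x * z ^ n := fun n x => (Commute.pow_left (hzc x) n).eq
  have hπm : ∀ g h i, π (g * h) i = π g (π h i) := by
    intro g h i
    refine (huniq (a := sg (g * h) i) (b := sg g (π h i) + sg h i) ?_).1
    rw [← hπ (g * h) i, show g * h * f i * (g * h)⁻¹ = g * (h * f i * h⁻¹) * g⁻¹ by group, hπ h i,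
      show g * (f (π h i) * z ^ (sg h i).val) * g⁻¹ = g * f (π h i) * g⁻¹ * (g * z ^ (sg h i).val * g⁻¹) by group,
      hπ g (π h i), ← hzpow (sg h i).val g, mul_inv_cancel_right, mul_assoc]
    congr 1
    rcases zmod_two_cases (sg g (π h i)) with e | e <;> rcases zmod_two_cases (sg h i) with e' | e' <;>
      simp [e, e', ZMod.val_one, show ((1 : ZMod 2) + 1) = 0 from by decide]
    exact congrArg Subtype.val hr₀.zsq
  have hπ1 : ∀ i, π 1 i = i := fun i => by
    refine (huniq (b := 0) (a := sg 1 i) ?_).1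
    rw [← hπ 1 i]; simp
  let ψ : X →* Equiv.Perm (Fin 5) :=
    MonoidHom.mk' (fun g => ⟨π g, π g⁻¹, fun i => by rw [← hπm, inv_mul_cancel, hπ1],
      fun i => by rw [← hπm, mul_inv_cancel, hπ1]⟩) fun g h => Equiv.ext fun i => hπm g h i
  have hgen : ∀ g : X, (∀ i : Fin 4, g * f i.castSucc = f i.castSucc * g) → g ∈ centralizer (E : Set X) := by
    intro g hg
    rw [mem_centralizer_iff]
    intro x hx
    obtain ⟨m, hm⟩ := hsurj ⟨x, hx⟩
    have hx' : ((θ m : E) : X) = x := congrArg Subtype.val hm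
    have hg' : ∀ i : Fin 4, ((θ (Mo.gen i) : E) : X) * g = g * (θ (Mo.gen i) : E) := fun i => by
      have h := hg i
      have e : five i.castSucc = Mo.gen i := by simp [five]
      simp only [f, e] at h
      exact h.symm
    rw [← hx', Mo.decomp m]
    simp only [map_mul, map_pow, Subgroup.coe_mul, SubmonoidClass.coe_pow, hθ, thetaHom_zz]
    have c : ∀ i : Fin 4, Commute ((θ (Mo.gen i) : E) : X) g := hg'
    exact ((((c 0).pow_left _).mul_left ((c 1).pow_left _)).mul_left ((c 2).pow_left _) |>.mul_left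
      ((c 3).pow_left _) |>.mul_left ((Commute.pow_left (hzc g) _))).eq
  have hker : ψ.ker = E := by
    refine le_antisymm (fun g hg => ?_) fun g hg => ?_
    · rw [MonoidHom.mem_ker] at hg
      have hgi : ∀ i, g * f i * g⁻¹ = f i * z ^ (sg g i).val := fun i => by
        rw [hπ g i, show π g i = i from congrArg (fun σ => σ i) hg]
      have hinner : ∀ c : Fin 4 → ZMod 2, ∃ m : Mo, ∀ i : Fin 4,
          m * five i.castSucc * m⁻¹ = five i.castSucc * Mo.zz ^ (c i).val := by decide
      obtain ⟨m, hm⟩ := hinner fun i => sg g i.castSucc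
      have h2 : ((θ m : E) : X)⁻¹ * g ∈ centralizer (E : Set X) := by
        refine hgen _ fun i => ?_
        have h1 : ((θ m : E) : X) * f i.castSucc * ((θ m : E) : X)⁻¹ = g * f i.castSucc * g⁻¹ := by
          rw [hgi, ← hfz, ← hm i]
          simp [f]
        calc ((θ m : E) : X)⁻¹ * g * f i.castSucc = ((θ m : E) : X)⁻¹ * (g * f i.castSucc * g⁻¹) * g := by group
          _ = ((θ m : E) : X)⁻¹ * (((θ m : E) : X) * f i.castSucc * ((θ m : E) : X)⁻¹) * g := by rw [h1]
          _ = f i.castSucc * (((θ m : E) : X)⁻¹ * g) := by group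
      simpa using E.mul_mem (θ m).2 (hCE h2)
    · obtain ⟨m, hm⟩ := hsurj ⟨g, hg⟩
      have hm' : ((θ m : E) : X) = g := congrArg Subtype.val hm
      have hin : ∀ (m : Mo) (i : Fin 5), ∃ b : ZMod 2, m * five i * m⁻¹ = five i * Mo.zz ^ b.val := by decide
      refine MonoidHom.mem_ker.2 (Equiv.ext fun i => ?_)
      obtain ⟨b, hb⟩ := hin m i
      show π g i = i
      refine (huniq (a := sg g i) (b := b) ?_).1
      rw [← hπ g i, ← hm', ← hfz, ← hb]
      simp [f]
  have hr : Nat.card ψ.range = 24 := by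
    rw [← Nat.card_congr (QuotientGroup.quotientKerEquivRange ψ).toEquiv,
      Nat.card_congr (QuotientGroup.quotientMulEquivOfEq hker).toEquiv, Nat.card_congr iso.toEquiv,
      Nat.card_eq_fintype_card, Fintype.card_perm]
    rfl
  obtain ⟨a, ha⟩ := exists_fixed ψ.range hr
  have hfix : ∀ g, π g a = a := fun g => ha (ψ g) ⟨g, rfl⟩
  refine ⟨fun i => f (a.succAbove i), ⟨fun i => ?_, congrArg Subtype.val hr₀.zsq, fun i j hij => ?_,
    fun i => hzc _⟩, hcardX, fun g i => ?_, fun g hg => ?_⟩
  · show ((θ (five _) : E) : X) * (θ (five _) : E) = 1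
    rw [← Subgroup.coe_mul, ← map_mul, (hfsq _).1, map_one, Subgroup.coe_one]
  · show ((θ (five _) : E) : X) * (θ (five _) : E) = (θ (five _) : E) * (θ (five _) : E) * z
    rw [← Subgroup.coe_mul, ← map_mul, hfsw _ _ (fun h => hij (Fin.succAbove_right_injective h)), map_mul,
      map_mul, hθ, thetaHom_zz]
    rfl
  · have hne : π g (a.succAbove i) ≠ a := fun h => by
      have h1 := congrArg (fun t => π g⁻¹ t) (h.trans (hfix g).symm)
      simp only [← hπm, inv_mul_cancel, hπ1] at h1
      exact Fin.succAbove_ne a i h1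
    obtain ⟨j, hj⟩ := Fin.exists_succAbove_eq hne
    refine ⟨j, sg g (a.succAbove i), ?_⟩
    simp only [hj]
    exact hπ g _
  · have hcenter' : ∀ (a : Fin 5) (m : Mo),
        (∀ i, m * five (a.succAbove i) = five (a.succAbove i) * m) → m = 1 ∨ m = Mo.zz := by decide
    have hcenter := hcenter' a
    have hgE : g ∈ E := by
      rw [← hker, MonoidHom.mem_ker]
      have : ∀ i, π g (a.succAbove i) = a.succAbove i := fun i => by
        refine (huniq (a := sg g (a.succAbove i)) (b := 0) ?_).1
        rw [← hπ g, hg i]; simp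
      refine Equiv.ext fun k => ?_
      rcases eq_or_ne k a with rfl | hk
      · exact hfix g
      · obtain ⟨i, rfl⟩ := Fin.exists_succAbove_eq hk
        exact this i
    obtain ⟨m, hm⟩ := hsurj ⟨g, hgE⟩
    have hm' : ((θ m : E) : X) = g := congrArg Subtype.val hm
    rcases hcenter m (fun i => hinj (Subtype.ext (by
      simp only [map_mul, Subgroup.coe_mul]; rw [hm']; exact hg i))) with rfl | rfl
    · left; rw [← hm', map_one]; rfl
    · right; rw [← hm', hθ, thetaHom_zz]

end Five

theorem frame_of_centralizer {G : Type*} [Group G] [Finite G] (z : G) (hz : orderOf z = 2)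
    (E : Subgroup ↥(centralizer ({z} : Set G))) [E.Normal] (hE : Cfsg.IsExtraspecial 2 ↥E) (h32 : Nat.card ↥E = 32)
    (hminus : ∀ A : Subgroup ↥E, Cfsg.IsElementaryAbelian 2 A → Nat.card ↥A ≠ 8)
    (hCE : centralizer (E : Set ↥(centralizer ({z} : Set G))) ≤ E)
    (iso : (↥(centralizer ({z} : Set G)) ⧸ E) ≃* Equiv.Perm (Fin 4)) : ∃ e, Frame z e := by
  have hz1 : z ≠ 1 := fun h => by rw [h, orderOf_one] at hz; exact absurd hz (by norm_num)
  have hzC : z ∈ centralizer ({z} : Set G) := mem_centralizer_singleton_iff.2 rfl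
  obtain ⟨e, hr, hcard, hconj, hker⟩ := exists_frame E hE h32 hminus hCE iso (z := ⟨z, hzC⟩)
    (fun x => Subtype.ext (mem_centralizer_singleton_iff.1 x.2).symm) (fun h => hz1 (congrArg Subtype.val h))
  refine ⟨fun i => (e i : G), ⟨fun i => congrArg Subtype.val (hr.sq i), congrArg Subtype.val hr.zsq,
    fun i j h => congrArg Subtype.val (hr.swap i j h), fun i => congrArg Subtype.val (hr.zc i)⟩, hz1,
    fun g hg i => ?_, fun g hg h => ?_, hcard⟩
  · obtain ⟨j, b, hb⟩ := hconj ⟨g, hg⟩ i
    exact ⟨j, b, by simpa using congrArg Subtype.val hb⟩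
  · rcases hker ⟨g, hg⟩ (fun i => Subtype.ext (h i)) with e' | e'
    · exact Or.inl (congrArg Subtype.val e')
    · exact Or.inr (congrArg Subtype.val e')

end CfsgLib.Recog.AutLThreeFour
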