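import Cfsg.Agent.Lib.Recog.AutLThreeFour.Basic
import Cfsg.Agent.Lib.Transfer.CosetTransfer
import Cfsg.Agent.Lib.ZStar.Main

/-!
Owner: helper28. Two parities of `C(z)` transfer faithfully at two outer involutions, so `G` has a normal
subgroup of index 4.
-/

set_option autoImplicit false
set_option linter.all false

namespace CfsgLib.Recog.AutLThreeFour

open Subgroup
open CfsgLib.Transfer.Coset

variable {G : Type*} [Group G] {z : G} {e : Fin 4 → G}

/-- The parity of the permutation induced on the generators. -/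
noncomputable def parF (z : G) (e : Fin 4 → G) (g : G) : ZMod 2 := by
  classical exact if h : ∃ s, Acts z e g s then Sig.par h.choose else 0

/-- Whether the product of the generators moves. -/
noncomputable def movF (z : G) (e : Fin 4 → G) (g : G) : ZMod 2 := by
  classical exact if h : ∃ s, Acts z e g s then Sig.mov h.choose else 0

namespace Frame

variable (hF : Frame z e)
include hF

theorem parF_eq {g : G} {s : Sig} (hs : Acts z e g s) : parF z e g = Sig.par s := by
  rw [parF, dif_pos ⟨s, hs⟩, hF.acts_unique (⟨s, hs⟩ : ∃ s, Acts z e g s).choose_spec hs]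

theorem movF_eq {g : G} {s : Sig} (hs : Acts z e g s) : movF z e g = Sig.mov s := by
  rw [movF, dif_pos ⟨s, hs⟩, hF.acts_unique (⟨s, hs⟩ : ∃ s, Acts z e g s).choose_spec hs]

set_option maxRecDepth 100000 in
theorem act_om : ∀ s : Sig, Sig.act s Mo.om = Mo.om * Mo.zz ^ (Sig.mov s).val := by decide

theorem conj_om {g : G} {s : Sig} (hs : Acts z e g s) :
    g * hF.θ Mo.om * g⁻¹ = hF.θ Mo.om * z ^ (Sig.mov s).val := by
  rw [hF.conj_θ hs, hF.act_om, map_mul, hF.θ_zp]

theorem par_comp (s t : Sig) : Sig.par (Sig.comp s t) = Sig.par s + Sig.par t := by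
  unfold Sig.par Sig.comp
  rw [Equiv.Perm.sign_mul]
  rcases Int.units_eq_one_or (Equiv.Perm.sign s.1) with h | h <;>
    rcases Int.units_eq_one_or (Equiv.Perm.sign t.1) with h' | h' <;> rw [h, h'] <;> decide

theorem movF_mul {g h : G} (hg : g ∈ centralizer ({z} : Set G)) (hh : h ∈ centralizer ({z} : Set G)) :
    movF z e (g * h) = movF z e g + movF z e h := by
  obtain ⟨s, hs⟩ := hF.exists_acts hg
  obtain ⟨t, ht⟩ := hF.exists_acts hh
  rw [hF.movF_eq hs, hF.movF_eq ht, hF.movF_eq (hF.acts_mul hs ht)]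
  have h1 := hF.conj_om (hF.acts_mul hs ht)
  rw [show g * h * hF.θ Mo.om * (g * h)⁻¹ = g * (h * hF.θ Mo.om * h⁻¹) * g⁻¹ by group, hF.conj_om ht,
    show g * (hF.θ Mo.om * z ^ (Sig.mov t).val) * g⁻¹ =
      (g * hF.θ Mo.om * g⁻¹) * (g * z ^ (Sig.mov t).val * g⁻¹) by group,
    ← conj_pow, hF.z_comm hs.1, hF.conj_om hs, mul_assoc, ← pow_add] at h1
  have h2 := mul_left_cancel h1
  rcases zmod_two_cases (Sig.mov s) with a | a <;> rcases zmod_two_cases (Sig.mov t) with b | b <;>
    rcases zmod_two_cases (Sig.mov (Sig.comp s t)) with c | c <;>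
    simp [a, b, c, ZMod.val_one, pow_two, hF.zsq, hF.z1, Ne.symm hF.z1] at h2 ⊢ <;> decide

/-- The parity of the permutation as a character of `C(z)`. -/
noncomputable def parP : Parity (centralizer ({z} : Set G)) where
  toFun := parF z e
  map_mul a ha b hb := by
    obtain ⟨s, hs⟩ := hF.exists_acts ha
    obtain ⟨t, ht⟩ := hF.exists_acts hb
    rw [hF.parF_eq hs, hF.parF_eq ht, hF.parF_eq (hF.acts_mul hs ht), hF.par_comp]

/-- The action on the product of the generators as a character of `C(z)`. -/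
noncomputable def movP : Parity (centralizer ({z} : Set G)) where
  toFun := movF z e
  map_mul a ha b hb := hF.movF_mul ha hb

end Frame

/-- The data which make a transfer at `t` visible. -/
structure Visible (hF : Frame z e) (Ψ : Parity (centralizer ({z} : Set G))) (t : G) : Prop where
  mem : t ∈ centralizer ({z} : Set G)
  inv : t * t = 1
  one : Ψ.toFun t = 1
  pair : ∃ x y : Mo, hF.θ x * t = t * hF.θ x ∧ hF.θ y * t = t * hF.θ y ∧ x * y * x⁻¹ * y⁻¹ = Mo.zz
  small : ∀ y ∈ centralizer ({z} : Set G), y * y = 1 → y * t = t * y →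
    (∀ m : Mo, hF.θ m * t = t * hF.θ m → y * hF.θ m = hF.θ m * y) → y = 1 ∨ y = z ∨ y = t ∨ y = t * z

/-- A proper 2-subgroup of a 2-group has a larger normalizer in it. -/
theorem exists_normalizing {P R : Subgroup G} (hR : IsPGroup 2 ↥R) [Finite G] (hPR : P ≤ R) (hne : P ≠ R) :
    ∃ n ∈ R, n ∉ P ∧ ∀ x, x ∈ P ↔ n * x * n⁻¹ ∈ P := by
  haveI : Fact (Nat.Prime 2) := ⟨Nat.prime_two⟩
  haveI := hR.isNilpotent
  have hlt : P.subgroupOf R < ⊤ := lt_top_iff_ne_top.2 fun h => hne (le_antisymm hPR (subgroupOf_eq_top.1 h))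
  have hn := Group.normalizerCondition_of_isNilpotent _ hlt
  obtain ⟨n, hn1, hn2⟩ := SetLike.exists_of_lt hn
  refine ⟨n, n.2, fun h => hn2 (mem_subgroupOf.2 h), fun x => ⟨fun hx => ?_, fun hx => ?_⟩⟩
  · exact mem_subgroupOf.1 ((mem_normalizer_iff.1 hn1 ⟨x, hPR hx⟩).1 (mem_subgroupOf.2 hx))
  · have hxR : x ∈ R := by
      have := mul_mem (mul_mem (inv_mem n.2) (hPR hx)) n.2
      simpa [mul_assoc] using this
    exact mem_subgroupOf.1 ((mem_normalizer_iff.1 hn1 ⟨x, hxR⟩).2 (mem_subgroupOf.2 hx))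

/-- A normal 2-subgroup lies in every Sylow 2-subgroup. -/
theorem normal_le_sylow {X : Type*} [Group X] {N : Subgroup X} [N.Normal] (hN : IsPGroup 2 ↥N) (P : Sylow 2 X) :
    N ≤ (P : Subgroup X) := by
  have h : IsPGroup 2 ↥((P : Subgroup X) ⊔ N) := P.2.to_sup_of_normal_right hN
  exact (P.3 h le_sup_left) ▸ le_sup_right

theorem Frame.θ_range_normal (hF : Frame z e) {g : G} (hg : g ∈ centralizer ({z} : Set G)) {x : G}
    (hx : x ∈ hF.θ.range) : g * x * g⁻¹ ∈ hF.θ.range := by
  obtain ⟨m, rfl⟩ := hx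
  obtain ⟨s, hs⟩ := hF.exists_acts hg
  exact ⟨_, (hF.conj_θ hs m).symm⟩

theorem Frame.θ_isPGroup (hF : Frame z e) : IsPGroup 2 ↥hF.θ.range := by
  have h32 : IsPGroup 2 Mo := IsPGroup.of_card (n := 5) (by rw [Nat.card_eq_fintype_card, Mo.card_eq]; rfl)
  exact h32.of_surjective hF.θ.rangeRestrict hF.θ.rangeRestrict_surjective

theorem Visible.T_eq_one [Finite G] [Fintype (G ⧸ centralizer ({z} : Set G))] {hF : Frame z e}
    {Ψ : Parity (centralizer ({z} : Set G))} {t : G} (V : Visible hF Ψ t) : Ψ.T Finset.univ t = 1 := by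
  classical
  haveI : Fact (Nat.Prime 2) := ⟨Nat.prime_two⟩
  obtain ⟨x₀, y₀, hx₀, hy₀, hxy⟩ := V.pair
  have hz0 : Ψ.toFun z = 0 := by
    have h1 : hF.θ x₀ * hF.θ y₀ * (hF.θ x₀)⁻¹ * (hF.θ y₀)⁻¹ = z := by
      rw [← map_inv, ← map_inv, ← map_mul, ← map_mul, ← map_mul, hxy, hF.θ_zz]
    exact (congrArg Ψ.toFun h1).symm.trans (Ψ.map_comm (hF.θ_mem _) (hF.θ_mem _))
  have ht1 : t ≠ 1 := fun h => one_ne_zero (α := ZMod 2) (by rw [← V.one, h, Ψ.map_one])
  have htz : t ≠ z := fun h => one_ne_zero (α := ZMod 2) (by rw [← V.one, h, hz0])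
  have htt : t * z * (t * z) = 1 := by
    rw [show t * z * (t * z) = t * (z * t) * z by group, ← mem_centralizer_singleton_iff.1 V.mem,
      show t * (t * z) * z = (t * t) * (z * z) by group, V.inv, hF.zsq, one_mul]
  set C := (centralizer ({z} : Set G)) ⊓ centralizer ({t} : Set G) with hC
  obtain ⟨P₀⟩ : Nonempty (Sylow 2 ↥C) := inferInstance
  set P := (P₀ : Subgroup C).map C.subtype with hP
  have hPC : P ≤ C := map_subtype_le _
  have hPp : IsPGroup 2 ↥P := P₀.2.map _
  have hDP : ∀ {x : G}, x ∈ hF.θ.range → x * t = t * x → x ∈ P := by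
    intro x hx hxt
    have hxC : x ∈ C := by
      obtain ⟨m, rfl⟩ := hx
      exact ⟨hF.θ_mem m, mem_centralizer_singleton_iff.2 hxt⟩
    haveI : (hF.θ.range.subgroupOf C).Normal :=
      ⟨fun a ha g => mem_subgroupOf.2 (hF.θ_range_normal g.2.1 (mem_subgroupOf.1 ha))⟩
    exact ⟨⟨x, hxC⟩, normal_le_sylow (N := hF.θ.range.subgroupOf C) (hF.θ_isPGroup.comap_of_injective _ C.subtype_injective) P₀
      (mem_subgroupOf.2 hx), rfl⟩
  have hzC : z ∈ C := ⟨hF.z_mem, mem_centralizer_singleton_iff.2 (mem_centralizer_singleton_iff.1 V.mem).symm⟩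
  have hzP : z ∈ P := hDP ⟨Mo.zz, hF.θ_zz⟩ (mem_centralizer_singleton_iff.1 hzC.2)
  have htC : t ∈ C := ⟨V.mem, mem_centralizer_singleton_iff.2 rfl⟩
  -- a 2-element of `C` centralising `P` lies in it
  have hcentral : ∀ y ∈ C, y * y = 1 → (∀ x ∈ P, y * x = x * y) → y ∈ P := by
    intro y hy hyy hyc
    let Y : Subgroup C := zpowers ⟨y, hy⟩
    have hYp : IsPGroup 2 ↥Y := by
      refine IsPGroup.iff_card.2 ?_
      rw [Nat.card_zpowers]
      have h2 : orderOf (⟨y, hy⟩ : C) ∣ 2 := orderOf_dvd_of_pow_eq_one (Subtype.ext (by simp [pow_two, hyy]))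
      rcases (Nat.dvd_prime Nat.prime_two).1 h2 with h | h
      · exact ⟨0, h⟩
      · exact ⟨1, h⟩
    have hsup : IsPGroup 2 ↥((P₀ : Subgroup C) ⊔ Y) := P₀.2.to_sup_of_normal_left' hYp (by
      rw [zpowers_le]
      rw [mem_normalizer_iff]
      intro x
      constructor
      · intro hx
        have h1 := hyc x ⟨x, hx, rfl⟩
        have h2 : (⟨y, hy⟩ : C) * x * (⟨y, hy⟩ : C)⁻¹ = x := Subtype.ext (by simp [h1])
        rwa [h2]
      · intro hx
        have h1 := hyc _ ⟨_, hx, rfl⟩
        have h2 : (⟨y, hy⟩ : C) * x * (⟨y, hy⟩ : C)⁻¹ = x := Subtype.ext (by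
          simp only [Subgroup.coe_mul, Subgroup.coe_inv, Subgroup.coe_subtype] at h1 ⊢
          refine mul_left_cancel (a := y) (h1.trans ?_)
          group)
        rwa [h2] at hx)
    exact ⟨⟨y, hy⟩, (P₀.3 hsup le_sup_left) ▸ (le_sup_right : Y ≤ (P₀ : Subgroup C) ⊔ Y) (mem_zpowers _), rfl⟩
  have htP : t ∈ P := hcentral t htC V.inv fun x hx => (mem_centralizer_singleton_iff.1 (hPC hx).2).symm
  -- the involutions central in `P`
  have hsmall : ∀ y ∈ C, y * y = 1 → (∀ x ∈ P, y * x = x * y) → y = 1 ∨ y = z ∨ y = t ∨ y = t * z := by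
    intro y hy hyy hyc
    exact V.small y hy.1 hyy (mem_centralizer_singleton_iff.1 hy.2) fun m hm => hyc _ (hDP ⟨m, rfl⟩ hm)
  -- `P` is not a Sylow subgroup of `(centralizer ({z} : Set G))`
  have h256 : ¬ 256 ∣ Nat.card ↥P := by
    intro h
    have hPH : P ≤ (centralizer ({z} : Set G)) := hPC.trans inf_le_left
    obtain ⟨S, hS⟩ := (hPp.comap_of_injective (centralizer ({z} : Set G)).subtype (centralizer ({z} : Set G)).subtype_injective).exists_le_sylow
    have hcS : Nat.card ↥(S : Subgroup (centralizer ({z} : Set G))) = 256 := by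
      have hd : 256 ∣ Nat.card ↥(S : Subgroup (centralizer ({z} : Set G))) := by
        refine h.trans ?_
        rw [← Nat.card_congr (subgroupOfEquivOfLe hPH).toEquiv]
        exact card_dvd_of_le hS
      have hd' : Nat.card ↥(S : Subgroup (centralizer ({z} : Set G))) ∣ 768 := hF.card ▸ card_subgroup_dvd_card _
      obtain ⟨k, hk⟩ := IsPGroup.iff_card.1 S.2
      rw [hk] at hd hd' ⊢
      have h8 : 8 ≤ k := (Nat.pow_dvd_pow_iff_le_right (x := 2) (by norm_num)).1 (by simpa using hd)
      have h9 : k < 9 := by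
        by_contra h9
        have := (Nat.pow_dvd_pow 2 (not_lt.1 h9)).trans hd'
        norm_num at this
      rw [show k = 8 by omega]; norm_num
    have hPS : P.subgroupOf (centralizer ({z} : Set G)) = (S : Subgroup (centralizer ({z} : Set G))) := eq_of_le_of_card_ge hS (by
      rw [hcS, Nat.card_congr (subgroupOfEquivOfLe hPH).toEquiv]
      exact Nat.le_of_dvd Nat.card_pos h)
    haveI : (hF.θ.range.subgroupOf (centralizer ({z} : Set G))).Normal :=
      ⟨fun a ha g => mem_subgroupOf.2 (hF.θ_range_normal g.2 (mem_subgroupOf.1 ha))⟩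
    have hall : ∀ i, t * e i = e i * t := fun i => by
      have h1 : (⟨e i, hF.e_mem i⟩ : (centralizer ({z} : Set G))) ∈ (S : Subgroup (centralizer ({z} : Set G))) :=
        normal_le_sylow (N := hF.θ.range.subgroupOf (centralizer ({z} : Set G))) (hF.θ_isPGroup.comap_of_injective _ (centralizer ({z} : Set G)).subtype_injective) S
          (mem_subgroupOf.2 ⟨Mo.gen i, hF.θ_gen i⟩)
      rw [← hPS, mem_subgroupOf] at h1
      exact (mem_centralizer_singleton_iff.1 (hPC h1).2).symm
    rcases hF.ker t V.mem hall with h' | h'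
    · exact ht1 h'
    · exact htz h'
  -- `z` is conjugate neither to `t` nor to `t z`
  have hnc : ∀ a : G, (a = t ∨ a = t * z) → ∀ g : G, g * z * g⁻¹ ≠ a := by
    intro a ha g hg
    have hPa : P ≤ centralizer ({a} : Set G) := fun x hx => by
      have h1 := mem_centralizer_singleton_iff.1 (hPC hx).2
      have h2 := mem_centralizer_singleton_iff.1 (hPC hx).1
      rw [mem_centralizer_singleton_iff]
      rcases ha with rfl | rfl
      · exact h1
      · rw [← mul_assoc, h1, mul_assoc, h2, mul_assoc]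
    set A := centralizer ({a} : Set G) with hA
    have hAz : Nat.card ↥A = 768 := by
      have h1 : A = (centralizer ({z} : Set G)).map (MulAut.conj g).toMonoidHom := by
        ext x
        rw [hA, mem_centralizer_singleton_iff, ← hg]
        constructor
        · intro hx
          refine ⟨g⁻¹ * x * g, mem_centralizer_singleton_iff.2 ?_, by simp [mul_assoc]⟩
          calc g⁻¹ * x * g * z = g⁻¹ * (x * (g * z * g⁻¹)) * g := by group
            _ = g⁻¹ * (g * z * g⁻¹ * x) * g := by rw [hx]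
            _ = z * (g⁻¹ * x * g) := by group
        · rintro ⟨y, hy, rfl⟩
          have h := mem_centralizer_singleton_iff.1 hy
          simp only [MulEquiv.coe_toMonoidHom, MulAut.conj_apply]
          calc g * y * g⁻¹ * (g * z * g⁻¹) = g * (y * z) * g⁻¹ := by group
            _ = g * (z * y) * g⁻¹ := by rw [h]
            _ = g * z * g⁻¹ * (g * y * g⁻¹) := by group
      rw [h1, card_map_of_injective (f := (MulAut.conj g).toMonoidHom) (MulAut.conj g).injective, hF.card]
    obtain ⟨R₀, hR₀⟩ := (hPp.comap_of_injective A.subtype A.subtype_injective).exists_le_sylow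
    have hne : P ≠ (R₀ : Subgroup A).map A.subtype := by
      intro heq
      apply h256
      rw [heq, card_map_of_injective A.subtype_injective]
      have := R₀.pow_dvd_card_of_pow_dvd_card (n := 8) (by rw [hAz]; norm_num)
      simpa using this
    obtain ⟨n, hnR, hnP, hn⟩ := exists_normalizing (R₀.2.map A.subtype)
      (fun x hx => ⟨⟨x, hPa hx⟩, hR₀ hx, rfl⟩) hne
    have hna : n * a = a * n := mem_centralizer_singleton_iff.1 (map_subtype_le _ hnR)
    set y := n * z * n⁻¹ with hy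
    have hyP : y ∈ P := (hn z).1 hzP
    have hyy : y * y = 1 := by rw [hy, show n * z * n⁻¹ * (n * z * n⁻¹) = n * (z * z) * n⁻¹ by group, hF.zsq]; group
    have hyc : ∀ x ∈ P, y * x = x * y := by
      intro x hx
      obtain ⟨x', hx', rfl⟩ : ∃ x' ∈ P, x = n * x' * n⁻¹ :=
        ⟨n⁻¹ * x * n, (hn _).2 (by simpa [mul_assoc] using hx), by group⟩
      have h := mem_centralizer_singleton_iff.1 (hPC hx').1
      calc y * (n * x' * n⁻¹) = n * (z * x') * n⁻¹ := by rw [hy]; group
        _ = n * (x' * z) * n⁻¹ := by rw [h]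
        _ = n * x' * n⁻¹ * y := by rw [hy]; group
    have hy0 : Ψ.toFun y = 0 := by
      have h1 : y = (n * hF.θ x₀ * n⁻¹) * (n * hF.θ y₀ * n⁻¹) * (n * hF.θ x₀ * n⁻¹)⁻¹ * (n * hF.θ y₀ * n⁻¹)⁻¹ := by
        calc y = n * hF.θ (x₀ * y₀ * x₀⁻¹ * y₀⁻¹) * n⁻¹ := by rw [hy, hxy, hF.θ_zz]
          _ = _ := by simp only [map_mul, map_inv]; group
      rw [h1, Ψ.map_comm (hPC ((hn _).1 (hDP ⟨x₀, rfl⟩ hx₀))).1 (hPC ((hn _).1 (hDP ⟨y₀, rfl⟩ hy₀))).1]
    rcases hsmall y (hPC hyP) hyy hyc with h | h | h | h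
    · exact hF.z1 (conj_eq_one_iff.1 h)
    · -- `n` lies in `(centralizer ({z} : Set G)) ⊓ C(t)` and normalises `P`
      have hnH : n * z = z * n := mul_inv_eq_iff_eq_mul.1 h
      have hnt : n * t = t * n := by
        rcases ha with rfl | rfl
        · exact hna
        · have : n * t * z = t * n * z := by rw [mul_assoc, hna, mul_assoc, ← hnH, ← mul_assoc]
          exact mul_right_cancel this
      apply hnP
      have hnC : n ∈ C := ⟨mem_centralizer_singleton_iff.2 hnH, mem_centralizer_singleton_iff.2 hnt⟩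
      have hnN : (⟨n, hnC⟩ : C) ∈ normalizer ((P₀ : Subgroup C) : Set C) := by
        rw [mem_normalizer_iff]
        intro x
        have key : ∀ w : C, w ∈ (P₀ : Subgroup C) ↔ (w : G) ∈ P :=
          fun w => ⟨fun h => ⟨w, h, rfl⟩, fun ⟨w', hw', e⟩ => (Subtype.ext e : w' = w) ▸ hw'⟩
        rw [key, key]
        exact hn x
      have hYp : IsPGroup 2 ↥(zpowers (⟨n, hnC⟩ : C)) := by
        refine (IsPGroup.to_le (R₀.2.map A.subtype) (zpowers_le.2 hnR)).of_injective
          ((C.subtype.comp (zpowers (⟨n, hnC⟩ : C)).subtype).codRestrict _ fun w => ?_) ?_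
        · obtain ⟨k, hk⟩ := mem_zpowers_iff.1 w.2
          exact ⟨k, by simp [← hk]⟩
        · intro u v huv
          exact Subtype.ext (Subtype.ext (congrArg Subtype.val huv :))
      have hsup := P₀.2.to_sup_of_normal_left' hYp (zpowers_le.2 hnN)
      exact ⟨_, (P₀.3 hsup le_sup_left) ▸ (le_sup_right : zpowers (⟨n, hnC⟩ : C) ≤ (P₀ : Subgroup C) ⊔ zpowers (⟨n, hnC⟩ : C)) (mem_zpowers _), rfl⟩
    · rw [h, V.one] at hy0; exact one_ne_zero hy0
    · rw [h, Ψ.map_mul _ V.mem _ hF.z_mem, V.one, hz0, add_zero] at hy0; exact one_ne_zero hy0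
  -- only the base coset is fixed by `P`
  set b : G ⧸ (centralizer ({z} : Set G)) := ((1 : G) : G ⧸ (centralizer ({z} : Set G))) with hb
  have hfixb : ∀ p : G ⧸ (centralizer ({z} : Set G)), (∀ s ∈ P, s • p = p) → p = b := by
    intro p hp
    set g := p.out with hg
    have hconj : ∀ s ∈ P, g⁻¹ * s * g ∈ (centralizer ({z} : Set G)) := fun s hs => fix_mem (hp s hs)
    set y := g * z * g⁻¹ with hy
    have hyc : ∀ s ∈ P, y * s = s * y := fun s hs => by
      have h := mem_centralizer_singleton_iff.1 (hconj s hs)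
      calc g * z * g⁻¹ * s = g * (z * (g⁻¹ * s * g)) * g⁻¹ := by group
        _ = g * (g⁻¹ * s * g * z) * g⁻¹ := by rw [h]
        _ = s * (g * z * g⁻¹) := by group
    have hyy : y * y = 1 := by rw [hy, show g * z * g⁻¹ * (g * z * g⁻¹) = g * (z * z) * g⁻¹ by group, hF.zsq]; group
    have hyC : y ∈ C := ⟨mem_centralizer_singleton_iff.2 (hyc z hzP), mem_centralizer_singleton_iff.2 (hyc t htP)⟩
    rcases hsmall y hyC hyy hyc with h | h | h | h
    · exact absurd (conj_eq_one_iff.1 h) hF.z1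
    · have hgH : g ∈ (centralizer ({z} : Set G)) := mem_centralizer_singleton_iff.2 (mul_inv_eq_iff_eq_mul.1 h)
      rw [← QuotientGroup.out_eq' p, hb, QuotientGroup.eq]
      simpa using hgH
    · exact absurd h (hnc t (Or.inl rfl) g)
    · exact absurd h (hnc (t * z) (Or.inr rfl) g)
  have hbP : ∀ s ∈ P, s • b = b := fun s hs => (smul_fix_iff s 1).2 (by simpa using (hPC hs).1)
  rw [Ψ.T_sdiff (Finset.subset_univ {b}), hb, Ψ.T_base V.mem, V.one]
  suffices Ψ.T (Finset.univ \ {b}) t = 0 by rw [← hb, this, add_zero]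
  refine Ψ.T_eq_zero_of_orbits P _ (fun s hs p hp => ?_) fun p hp => ?_
  · simp only [Finset.mem_sdiff, Finset.mem_univ, true_and, Finset.mem_singleton] at hp ⊢
    intro h
    apply hp
    rw [← inv_smul_smul s p, h, hbP _ (P.inv_mem hs)]
  simp only [Finset.mem_sdiff, Finset.mem_univ, true_and, Finset.mem_singleton] at hp
  have hne : ∃ s ∈ P, s • p ≠ p := by
    by_contra h
    push_neg at h
    exact hp (hfixb p h)
  have htc : ∀ s ∈ P, t * s = s * t := fun s hs => (mem_centralizer_singleton_iff.1 (hPC hs).2).symm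
  by_cases hfix : t • p = p
  · have hall : ∀ q ∈ orb P p, t • q = q := by
      intro q hq
      obtain ⟨s, hs, rfl⟩ := mem_orb.1 hq
      rw [← mul_smul, htc s hs, mul_smul, hfix]
    rw [Ψ.T_fixed_const (v := Ψ.val p t) hall fun q hq => ?_, even_card_orb hPp hne, zero_mul]
    obtain ⟨s, hs, rfl⟩ := mem_orb.1 hq
    have h1 : s⁻¹ * t * s = t := by rw [mul_assoc, htc s hs, inv_mul_cancel_left]
    rw [Ψ.val_smul (by rw [h1]; exact hfix), h1]
  · have hmove : ∀ q ∈ orb P p, t • q ≠ q := by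
      intro q hq h
      obtain ⟨s, hs, rfl⟩ := mem_orb.1 hq
      rw [← mul_smul, htc s hs, mul_smul] at h
      exact hfix (MulAction.injective s h)
    let r := Fintype.equivFin (G ⧸ (centralizer ({z} : Set G)))
    have hinv : ∀ q : G ⧸ (centralizer ({z} : Set G)), t • t • q = q := fun q => by rw [← mul_smul, V.inv, one_smul]
    set Q := (orb P p).filter fun q => r q < r (t • q) with hQ
    have hsplit : orb P p = Q ∪ Q.image (t • ·) := by
      ext q
      simp only [Finset.mem_union, Finset.mem_image, hQ, Finset.mem_filter]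
      constructor
      · intro hq
        rcases lt_trichotomy (r q) (r (t • q)) with h | h | h
        · exact Or.inl ⟨hq, h⟩
        · exact absurd (r.injective h).symm (hmove q hq)
        · exact Or.inr ⟨t • q, ⟨smul_mem_orb htP hq, by rwa [hinv]⟩, hinv q⟩
      · rintro (⟨hq, -⟩ | ⟨q', ⟨hq', -⟩, rfl⟩)
        · exact hq
        · exact smul_mem_orb htP hq'
    have hd : Disjoint Q (Q.image (t • ·)) := by
      rw [Finset.disjoint_left]
      intro q hq hq'
      obtain ⟨q', hq'', rfl⟩ := Finset.mem_image.1 hq'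
      simp only [hQ, Finset.mem_filter, hinv] at hq hq''
      exact lt_asymm hq.2 hq''.2
    rw [hsplit, Ψ.T_swap hd (fun q hq => by rwa [V.inv, one_smul]), V.inv, Ψ.T_one]

end CfsgLib.Recog.AutLThreeFour
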