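import Cfsg.Agent.Lib.Recog.AutLThreeFour.Base
import Cfsg.Agent.Lib.ZStar.Main
import Cfsg.Agent.Lib.FTDep.OutCases

/-!
Owner: helper28. The odd core, the non-isolated involution, and the Sylow 2-subgroup of the normal subgroup of
index 4.
-/

set_option autoImplicit false
set_option linter.all false

namespace CfsgLib.Recog.AutLThreeFour

open Subgroup
open scoped Pointwise

variable {G : Type*} [Group G] [Finite G] {z : G} {e : Fin 4 → G} {K : Subgroup G} {p u : G}

/-- An involution fixing nothing of an odd-order normal subgroup inverts it. -/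
theorem inverts_of_fixed_trivial {N : Subgroup G} [N.Normal] {t : G} (ht : t * t = 1)
    (hC : ∀ x ∈ N, t * x = x * t → x = 1) {x : G} (hx : x ∈ N) : t * x * t = x⁻¹ := by
  have ht' : t⁻¹ = t := inv_eq_of_mul_eq_one_left ht
  let f : N → N := fun y => ⟨(y : G)⁻¹ * (t * y * t), mul_mem (inv_mem y.2) (by
    simpa [ht'] using Subgroup.Normal.conj_mem inferInstance (y : G) y.2 t)⟩
  have hf : Function.Injective f := by
    intro a b hab
    have h : (a : G)⁻¹ * (t * a * t) = (b : G)⁻¹ * (t * b * t) := congrArg Subtype.val hab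
    have h1 : t * ((b : G) * (a : G)⁻¹) = ((b : G) * (a : G)⁻¹) * t := by
      calc t * ((b : G) * (a : G)⁻¹) = (b : G) * ((b : G)⁻¹ * (t * b * t)) * (t⁻¹ * (a : G)⁻¹) := by group
        _ = (b : G) * ((a : G)⁻¹ * (t * a * t)) * (t⁻¹ * (a : G)⁻¹) := by rw [h]
        _ = ((b : G) * (a : G)⁻¹) * t := by group
    exact Subtype.ext (mul_inv_eq_one.1 (hC _ (mul_mem b.2 (inv_mem a.2)) h1)).symm
  obtain ⟨⟨y, hy⟩, hyx⟩ := (Finite.injective_iff_surjective.1 hf) ⟨x, hx⟩
  have h : y⁻¹ * (t * y * t) = x := congrArg Subtype.val hyx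
  rw [← h, mul_inv_rev, inv_inv, mul_inv_rev, mul_inv_rev, ht']
  calc t * (y⁻¹ * (t * y * t)) * t = t * y⁻¹ * t * y * (t * t) := by group
    _ = t * (y⁻¹ * t) * y := by rw [ht, mul_one]; group

theorem odd_orderOf_of_mem {N : Subgroup G} (hN : Odd (Nat.card ↥N)) {x : G} (hx : x ∈ N) : Odd (orderOf x) :=
  hN.of_dvd_nat (orderOf_dvd_natCard N hx)

namespace Frame

variable (hF : Frame z e)
include hF

/-- An element of odd order of a normal odd subgroup commuting with `z` is trivial. -/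
theorem core_cent {N : Subgroup G} [N.Normal] (hN : Odd (Nat.card ↥N)) {x : G} (hx : x ∈ N)
    (hxz : z * x = x * z) : x = 1 := by
  have hxH : x ∈ centralizer ({z} : Set G) := mem_centralizer_singleton_iff.2 hxz.symm
  have hc : ∀ i, x * e i = e i * x := by
    intro i
    obtain ⟨s, hs⟩ := hF.exists_acts hxH
    have h1 : x * e i * x⁻¹ * (e i)⁻¹ ∈ N := by
      have := mul_mem hx (Subgroup.Normal.conj_mem inferInstance _ (inv_mem hx) (e i))
      simpa [mul_assoc] using this
    have h2 : x * e i * x⁻¹ * (e i)⁻¹ ∈ hF.θ.range :=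
      ⟨Sig.img s i * (Mo.gen i)⁻¹, by
        rw [map_mul, map_inv, hF.θ_gen, hs.2 i, Sig.img, map_mul, hF.θ_gen]
        congr 2
        rcases zmod_two_cases (Sig.sgn s i) with h | h <;> rw [h]
        · rw [show Mo.zp 0 = 1 from rfl, map_one, ZMod.val_zero, pow_zero]
        · rw [show Mo.zp 1 = Mo.zz from rfl, hF.θ_zz, ZMod.val_one, pow_one]⟩
    obtain ⟨j, hj⟩ := IsPGroup.iff_card.1 hF.θ_isPGroup
    have h3 : orderOf (x * e i * x⁻¹ * (e i)⁻¹) = 1 := by
      refine Nat.eq_one_of_dvd_coprimes ?_ (orderOf_dvd_natCard _ h1) (hj ▸ orderOf_dvd_natCard _ h2)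
      exact Nat.Coprime.pow_right _ (Nat.coprime_two_right.2 hN)
    rw [orderOf_eq_one_iff, mul_inv_eq_one, mul_inv_eq_iff_eq_mul] at h3
    exact h3
  rcases hF.ker x hxH hc with h | h
  · exact h
  · exfalso
    have h2 : orderOf z = 2 := orderOf_eq_prime (by rw [pow_two]; exact hF.zsq) hF.z1
    have := odd_orderOf_of_mem hN hx
    rw [h, h2] at this
    exact absurd this (by decide)

/-- `z` inverts the odd core, which is abelian. -/
theorem oddCore_inverts {x : G} (hx : x ∈ Cfsg.oddCore G) : z * x * z = x⁻¹ := by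
  haveI : (Cfsg.oddCore G).Normal := by unfold Cfsg.oddCore; infer_instance
  exact inverts_of_fixed_trivial hF.zsq (fun y hy h => hF.core_cent (ZStar.odd_card_oddCore G) hy h) hx

theorem oddCore_comm : IsMulCommutative ↥(Cfsg.oddCore G) := by
  refine ⟨⟨fun a b => Subtype.ext ?_⟩⟩
  have h := hF.oddCore_inverts (mul_mem a.2 b.2)
  have h' : z * ((a : G) * b) * z = (a : G)⁻¹ * (b : G)⁻¹ := by
    rw [← hF.oddCore_inverts a.2, ← hF.oddCore_inverts b.2]
    calc z * ((a : G) * b) * z = z * (a : G) * 1 * (b : G) * z := by group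
      _ = z * (a : G) * (z * z) * (b : G) * z := by rw [hF.zsq]
      _ = _ := by group
  rw [h'] at h
  have h2 := congrArg (·⁻¹) h
  simp only [mul_inv_rev, inv_inv] at h2
  exact h2.symm

theorem solvable_H : Group.IsSolvable ↥(centralizer ({z} : Set G)) := by
  classical
  choose sig hsig using fun g : ↥(centralizer ({z} : Set G)) => hF.exists_acts g.2
  let π : ↥(centralizer ({z} : Set G)) →* Equiv.Perm (Fin 4) := MonoidHom.mk' (fun g => (sig g).1) fun g h =>
    congrArg Prod.fst (hF.acts_unique (hsig (g * h)) (hF.acts_mul (hsig g) (hsig h)))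
  haveI : Group.IsSolvable ↥π.range := CfsgLib.FTDep.OutCases.solvable_of_lt_sixty (lt_of_le_of_lt (card_le_card_group _)
    (by rw [Nat.card_eq_fintype_card, Fintype.card_perm]; decide))
  haveI : Group.IsSolvable ↥π.ker := by
    haveI : Fact (Nat.Prime 2) := ⟨Nat.prime_two⟩
    have h : IsPGroup 2 ↥π.ker := fun g => by
      refine ⟨2, Subtype.ext (Subtype.ext ?_)⟩
      have h1 : (sig g.1).1 = 1 := g.2
      have h2 := hF.acts_mul (hsig g.1) (hsig g.1)
      rw [show Sig.comp (sig g.1) (sig g.1) = Sig.idS from Sig.ext' (by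
          show (sig g.1).1 * (sig g.1).1 = 1
          rw [h1, one_mul]) (fun i => by
          rw [Sig.sgn_comp, h1, Equiv.Perm.one_apply, CharTwo.add_self_eq_zero]
          fin_cases i <;> rfl)] at h2
      simp only [SubmonoidClass.coe_pow, Subgroup.coe_one]
      rcases hF.eq_or_of_acts hF.acts_one h2 with e' | e'
      · rw [show (2 : ℕ) ^ 2 = 2 * 2 by norm_num, pow_mul, pow_two ((g.1 : G)), e', one_pow]
      · rw [show (2 : ℕ) ^ 2 = 2 * 2 by norm_num, pow_mul, pow_two ((g.1 : G)), e', one_mul, pow_two, hF.zsq]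
    haveI := h.isNilpotent
    infer_instance
  exact solvable_of_ker_le_range π.ker.subtype π.rangeRestrict (fun x hx => ⟨⟨x, by
    rwa [MonoidHom.mem_ker, Subtype.ext_iff] at hx⟩, rfl⟩)

/-- Outside a solvable group `z` is not isolated. -/
theorem exists_conj_comm (hns : ¬ Group.IsSolvable G) :
    ∃ g : G, g * z * g⁻¹ ≠ z ∧ z * (g * z * g⁻¹) = g * z * g⁻¹ * z := by
  by_contra hno
  push_neg at hno
  apply hns
  have hiso : Cfsg.IsIsolatedInvolution z :=
    ⟨orderOf_eq_prime (by rw [pow_two]; exact hF.zsq) hF.z1, fun g hg => by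
      by_contra h; exact hno g h hg⟩
  haveI : (Cfsg.oddCore G).Normal := by unfold Cfsg.oddCore; infer_instance
  haveI : Group.IsSolvable ↥(Cfsg.oddCore G) := isSolvable_of_comm fun a b => hF.oddCore_comm.is_comm.comm a b
  have hH := hF.solvable_H
  let f := (QuotientGroup.mk' (Cfsg.oddCore G)).comp (centralizer ({z} : Set G)).subtype
  have hsurj : Function.Surjective f := by
    intro q
    obtain ⟨g, rfl⟩ := QuotientGroup.mk'_surjective _ q
    have hmem : g * z * g⁻¹ * z ∈ Cfsg.oddCore G := by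
      have h := ZStar.mem_oddCore_of_isolated hiso g
      rw [inv_eq_of_mul_eq_one_left hF.zsq] at h
      have h' := inv_mem h
      rw [show g * z * g⁻¹ * z = (z * g * z * g⁻¹)⁻¹ from by
        rw [mul_inv_rev, mul_inv_rev, mul_inv_rev, inv_inv, inv_eq_of_mul_eq_one_left hF.zsq]; group]
      exact h'
    set o := g * z * g⁻¹ * z with ho
    obtain ⟨m, hm⟩ := odd_orderOf_of_mem (ZStar.odd_card_oddCore G) hmem
    set v := o ^ (m + 1) with hv
    have hvv : v * v = o := by
      rw [hv, ← pow_add, show m + 1 + (m + 1) = 2 * m + 1 + 1 by ring, pow_succ, ← hm, pow_orderOf_eq_one,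
        one_mul]
    have hvO : v ∈ Cfsg.oddCore G := pow_mem hmem _
    have hvz : z * v⁻¹ = v * z := by
      rw [← hF.oddCore_inverts hvO]
      calc z * (z * v * z) = (z * z) * v * z := by group
        _ = v * z := by rw [hF.zsq, one_mul]
    have hconj : v * z * v⁻¹ = g * z * g⁻¹ := by
      rw [mul_assoc, hvz, ← mul_assoc, hvv, ho, mul_assoc _ z z, hF.zsq, mul_one]
    refine ⟨⟨v⁻¹ * g, mem_centralizer_singleton_iff.2 ?_⟩, ?_⟩
    · calc v⁻¹ * g * z = v⁻¹ * (g * z * g⁻¹) * g := by group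
        _ = v⁻¹ * (v * z * v⁻¹) * g := by rw [hconj]
        _ = z * (v⁻¹ * g) := by group
    · show QuotientGroup.mk' (Cfsg.oddCore G) (v⁻¹ * g) = _
      rw [map_mul, map_inv, (QuotientGroup.eq_one_iff v).2 hvO |> fun h => show QuotientGroup.mk' (Cfsg.oddCore G) v = 1 from h,
        inv_one, one_mul]
  haveI : Group.IsSolvable (G ⧸ Cfsg.oddCore G) := solvable_of_surjective hsurj
  exact solvable_of_ker_le_range (Cfsg.oddCore G).subtype (QuotientGroup.mk' (Cfsg.oddCore G))
    (by rw [QuotientGroup.ker_mk', Subgroup.range_subtype])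

end Frame

namespace Base

variable (hB : Base z e K p u)
include hB

theorem e0_swaps : e 0 * hB.frame.θ Mo.om * (e 0)⁻¹ = hB.frame.θ Mo.om * z := by
  rw [← hB.frame.θ_gen 0, ← map_inv, ← map_mul, ← map_mul,
    show Mo.gen 0 * Mo.om * (Mo.gen 0)⁻¹ = Mo.om * Mo.zz by decide, map_mul, hB.frame.θ_zz]

/-- If `z` has a second conjugate in `W`, the whole of `W` is one class. -/
theorem W_class {y : G} (hy : y ∈ hB.W) (hy1 : y ≠ z) (hc : IsConj z y) {x : G} (hx : x ∈ hB.W) (hx1 : x ≠ 1) :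
    IsConj z x := by
  have hy0 : y ≠ 1 := fun h => hB.frame.z1 (by
    obtain ⟨g, hg⟩ := isConj_iff.1 hc; exact conj_eq_one_iff.1 (hg.trans h))
  have hswap : IsConj (hB.frame.θ Mo.om) (hB.frame.θ Mo.om * z) := isConj_iff.2 ⟨_, hB.e0_swaps⟩
  rcases hB.mem_W.1 hx with h | h | h | h
  · exact absurd h hx1
  · rw [h]
  · rw [h]
    rcases hB.mem_W.1 hy with h' | h' | h' | h'
    · exact absurd h' hy0
    · exact absurd h' hy1
    · rwa [h'] at hc
    · exact (h' ▸ hc).trans hswap.symm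
  · rw [h]
    rcases hB.mem_W.1 hy with h' | h' | h' | h'
    · exact absurd h' hy0
    · exact absurd h' hy1
    · exact (h' ▸ hc).trans hswap
    · rwa [h'] at hc

/-- A conjugate of `z` in `W` has the centraliser of `z` in `K`. -/
theorem centK_eq {x : G} (hx : x ∈ hB.W) (hc : IsConj z x) :
    centralizer ({x} : Set G) ⊓ K = centralizer ({z} : Set G) ⊓ K := by
  haveI := hB.normal
  obtain ⟨k, hk, rfl⟩ := hB.exists_conj_K hc
  have hle : centralizer ({z} : Set G) ⊓ K ≤ centralizer ({k * z * k⁻¹} : Set G) ⊓ K := fun g hg =>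
    ⟨mem_centralizer_singleton_iff.2 (hB.comm_W hg.1 hg.2 hx), hg.2⟩
  refine (eq_of_le_of_card_ge hle ?_).symm
  refine Nat.card_le_card_of_injective (fun g => ⟨k⁻¹ * g.1 * k, mem_centralizer_singleton_iff.2 ?_,
    K.mul_mem (K.mul_mem (K.inv_mem hk) g.2.2) hk⟩) fun a b h => Subtype.ext (mul_left_cancel (mul_right_cancel (congrArg Subtype.val h)))
  calc k⁻¹ * g.1 * k * z = k⁻¹ * (g.1 * (k * z * k⁻¹)) * k := by group
    _ = k⁻¹ * (k * z * k⁻¹ * g.1) * k := by rw [mem_centralizer_singleton_iff.1 g.2.1]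
    _ = z * (k⁻¹ * g.1 * k) := by group

/-- The cube of an element of `K` normalising `W` centralises `z`. -/
theorem cube_mem {n : G} (hn : n ∈ K) (hW : ∀ x ∈ hB.W, n * x * n⁻¹ ∈ hB.W) :
    n * n * n ∈ centralizer ({z} : Set G) := by
  rw [mem_centralizer_singleton_iff, ← mul_inv_eq_iff_eq_mul]
  set a := n * z * n⁻¹ with ha
  have haW : a ∈ hB.W := hW z hB.z_mem_W
  by_cases haz : a = z
  · rw [show n * n * n * z * (n * n * n)⁻¹ = n * (n * a * n⁻¹) * n⁻¹ by rw [ha]; group, haz, ← ha, haz, ← ha, haz]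
  · have hconj : IsConj z a := isConj_iff.2 ⟨n, rfl⟩
    have ha1 : a ≠ 1 := fun h => hB.frame.z1 (conj_eq_one_iff.1 h)
    set b := n * a * n⁻¹ with hb
    have hbW : b ∈ hB.W := hW a haW
    have hb1 : b ≠ 1 := fun h => ha1 (conj_eq_one_iff.1 h)
    have hba : b ≠ a := by
      intro h
      apply haz
      rw [hb, ha] at h
      have h' : n * z * n⁻¹ = z := mul_left_cancel (mul_right_cancel h)
      exact h'
    set c := n * b * n⁻¹ with hc
    have hcW : c ∈ hB.W := hW b hbW
    have hc1 : c ≠ 1 := fun h => hb1 (conj_eq_one_iff.1 h)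
    have hcb : c ≠ b := fun h => hba (by rw [hc] at h; nth_rw 2 [hb] at h; exact mul_left_cancel (mul_right_cancel h))
    rw [show n * n * n * z * (n * n * n)⁻¹ = c by rw [hc, hb, ha]; group]
    -- `b` is the third involution, as a transposition would fix an involution
    have hbz : b ≠ z := by
      intro hbz
      obtain ⟨x, hxW, hx1, hxz, hxa⟩ : ∃ x ∈ hB.W, x ≠ 1 ∧ x ≠ z ∧ x ≠ a := by
        obtain ⟨h1, h2, h3, h4⟩ := hB.w_props
        by_cases h : a = hB.frame.θ Mo.om
        · refine ⟨hB.frame.θ Mo.om * z, hB.mem_W.2 (by simp), h3, h4, ?_⟩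
          rw [h]; exact fun e' => hB.frame.z1 (mul_eq_left.1 e')
        · exact ⟨hB.frame.θ Mo.om, hB.mem_W.2 (by simp), h1, h2, fun e' => h e'.symm⟩
      have hnx : n * x * n⁻¹ = x := by
        have hy := hW x hxW
        have hyz : n * x * n⁻¹ ≠ z := fun h => hxa (mul_left_cancel (mul_right_cancel (h.trans hbz.symm)))
        have hya : n * x * n⁻¹ ≠ a := fun h => hxz (mul_left_cancel (mul_right_cancel h))
        have hy1 : n * x * n⁻¹ ≠ 1 := fun h => hx1 (conj_eq_one_iff.1 h)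
        have key : ∀ y ∈ hB.W, y ≠ 1 → y ≠ z → y ≠ a → y = x := by
          intro y hy hy1 hyz hya
          rcases hB.mem_W.1 hy with h | h | h | h
          · exact absurd h hy1
          · exact absurd h hyz
          all_goals
            rcases hB.mem_W.1 hxW with h' | h' | h' | h' <;> rcases hB.mem_W.1 haW with h'' | h'' | h'' | h'' <;>
              first
                | exact absurd h' hx1
                | exact absurd h' hxz
                | exact absurd h'' ha1
                | exact absurd h'' haz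
                | exact h.trans h'.symm
                | exact absurd (h'.trans h''.symm) hxa
                | exact absurd (h.trans h''.symm) hya
        exact key _ hy hy1 hyz hya
      have hxc := hB.centK_eq hxW (hB.W_class haW haz hconj hxW hx1)
      have hnC : n ∈ centralizer ({x} : Set G) ⊓ K :=
        ⟨mem_centralizer_singleton_iff.2 (mul_inv_eq_iff_eq_mul.1 hnx), hn⟩
      rw [hxc] at hnC
      exact haz (mul_inv_eq_iff_eq_mul.2 (mem_centralizer_singleton_iff.1 hnC.1))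
    have hca : c ≠ a := fun h => hbz (mul_left_cancel (mul_right_cancel h))
    rcases hB.mem_W.1 hcW with h | h | h | h
    · exact absurd h hc1
    · exact h
    all_goals
      exfalso
      rcases hB.mem_W.1 hbW with h' | h' | h' | h' <;> rcases hB.mem_W.1 haW with h'' | h'' | h'' | h'' <;>
        first
          | exact absurd h' hb1
          | exact absurd h' hbz
          | exact absurd h'' ha1
          | exact absurd h'' haz
          | exact hba (h'.trans h''.symm)
          | exact hcb (h.trans h'.symm)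
          | exact hca (h.trans h''.symm)

/-- A 2-element of `K` normalising `W` lies in `S₀`. -/
theorem mem_S_of_normalizes {n : G} (hn : n ∈ K) (hW : ∀ x ∈ hB.W, n * x * n⁻¹ ∈ hB.W) {k : ℕ}
    (h2 : n ^ 2 ^ k = 1) : n ∈ hB.S := by
  refine hB.mem_S_of_two ?_ hn h2
  have h3 : n ^ 3 ∈ centralizer ({z} : Set G) := by
    rw [pow_succ, pow_two]; exact hB.cube_mem hn hW
  have hg : Nat.gcd 3 (2 ^ k) = 1 := (Nat.Coprime.pow_right k (by norm_num)).gcd_eq_one
  have hb := Nat.gcd_eq_gcd_ab 3 (2 ^ k)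
  rw [hg] at hb
  have : n = (n ^ 3) ^ Nat.gcdA 3 (2 ^ k) * (n ^ 2 ^ k) ^ Nat.gcdB 3 (2 ^ k) := by
    rw [← zpow_natCast n 3, ← zpow_natCast n (2 ^ k), ← zpow_mul, ← zpow_mul, ← zpow_add, ← hb, Nat.cast_one,
      zpow_one]
  rw [this, h2, one_zpow, mul_one]
  exact zpow_mem h3 _

variable (hW : ∀ n : G, (∀ x ∈ hB.S, n * x * n⁻¹ ∈ hB.S) → ∀ x ∈ hB.W, n * x * n⁻¹ ∈ hB.W)
include hW

/-- `S₀` is a maximal 2-subgroup of `K`. -/
theorem eq_S {T : Subgroup G} (hT : IsPGroup 2 ↥T) (hTK : T ≤ K) (hST : hB.S ≤ T) : T = hB.S := by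
  by_contra hne
  obtain ⟨n, hnT, hnS, hn⟩ := exists_normalizing hT hST (Ne.symm hne)
  obtain ⟨k, hk⟩ := hT ⟨n, hnT⟩
  exact hnS (hB.mem_S_of_normalizes (hTK hnT) (hW n fun x hx => (hn x).1 hx) (k := k)
    (by simpa using congrArg Subtype.val hk))

theorem sylow_card {T : Subgroup G} (hT : IsPGroup 2 ↥T) (hTK : T ≤ K) : Nat.card ↥T ∣ 64 := by
  haveI : Fact (Nat.Prime 2) := ⟨Nat.prime_two⟩
  obtain ⟨P, hP⟩ := (hB.isPGroup_S.comap_of_injective K.subtype K.subtype_injective).exists_le_sylow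
  have hPS : (P : Subgroup K).map K.subtype = hB.S := hB.eq_S hW (P.2.map _) (map_subtype_le _) fun x hx =>
    ⟨⟨x, hB.S_le_K hx⟩, hP (mem_subgroupOf.2 hx), rfl⟩
  obtain ⟨Q, hQ⟩ := (hT.comap_of_injective K.subtype K.subtype_injective).exists_le_sylow
  have h64 : Nat.card ↥(P : Subgroup K) = 64 := by
    rw [← hB.card_S, ← hPS, card_map_of_injective K.subtype_injective]
  have hd := card_dvd_of_le hQ
  rw [Q.card_eq_multiplicity, ← P.card_eq_multiplicity, h64] at hd
  rwa [← Nat.card_congr (subgroupOfEquivOfLe hTK).toEquiv]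

/-- Two copies of the Sylow subgroup inside a subgroup of `K` are conjugate there. -/
theorem conj_in {X A B : Subgroup G} (hX : X ≤ K) (hA : A ≤ X) (hB' : B ≤ X) (hAp : IsPGroup 2 ↥A)
    (hBp : IsPGroup 2 ↥B) (hAc : Nat.card ↥A = 64) (hBc : Nat.card ↥B = 64) :
    ∃ c ∈ X, ∀ x, x ∈ A ↔ c * x * c⁻¹ ∈ B := by
  haveI : Fact (Nat.Prime 2) := ⟨Nat.prime_two⟩
  have hmax : ∀ {T : Subgroup G}, T ≤ X → IsPGroup 2 ↥T → Nat.card ↥T = 64 →
      ∃ P : Sylow 2 ↥X, (P : Subgroup X) = T.subgroupOf X := by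
    intro T hT hTp hTc
    obtain ⟨P, hP⟩ := (hTp.comap_of_injective X.subtype X.subtype_injective).exists_le_sylow
    refine ⟨P, (eq_of_le_of_card_ge hP ?_).symm⟩
    have h := hB.sylow_card hW (P.2.map X.subtype) ((map_subtype_le _).trans hX)
    rw [card_map_of_injective X.subtype_injective] at h
    refine (Nat.le_of_dvd (by norm_num) h).trans ?_
    show _ ≤ Nat.card ↥(T.subgroupOf X)
    rw [Nat.card_congr (subgroupOfEquivOfLe hT).toEquiv, hTc]
  obtain ⟨P, hP⟩ := hmax hA hAp hAc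
  obtain ⟨Q, hQ⟩ := hmax hB' hBp hBc
  obtain ⟨c, hc⟩ := MulAction.exists_smul_eq X P Q
  refine ⟨c, c.2, fun x => ?_⟩
  have hc' : (Q : Subgroup X) = MulAut.conj c • (P : Subgroup X) := by rw [← hc]; rfl
  constructor
  · intro hx
    have h1 : c * (⟨x, hA hx⟩ : X) * c⁻¹ ∈ (Q : Subgroup X) := by
      rw [hc']
      exact Subgroup.smul_mem_pointwise_smul _ _ _ (by rw [hP]; exact mem_subgroupOf.2 hx)
    rw [hQ, mem_subgroupOf] at h1
    simpa using h1
  · intro hx
    have hxX : x ∈ X := by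
      have := mul_mem (mul_mem (inv_mem c.2) (hB' hx)) c.2
      simpa [mul_assoc] using this
    have h1 : c * (⟨x, hxX⟩ : X) * c⁻¹ ∈ (Q : Subgroup X) := by rw [hQ, mem_subgroupOf]; simpa using hx
    rw [hc', mem_pointwise_smul_iff_inv_smul_mem, hP, mem_subgroupOf] at h1
    simpa [mul_assoc] using h1

/-- Fusion of elements centralised by `S₀` happens in the normaliser of `S₀`. -/
theorem burnside {g y : G} (hg : g * z * g⁻¹ = y) (hy : y ∈ hB.W) :
    ∃ n, (∀ x, x ∈ hB.S ↔ n * x * n⁻¹ ∈ hB.S) ∧ n * z * n⁻¹ = y := by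
  haveI := hB.normal
  obtain ⟨k, hk, rfl⟩ := hB.exists_conj_K (isConj_iff.2 ⟨g, hg⟩)
  set T := hB.S.map (MulAut.conj k).toMonoidHom with hT
  have hTK : T ≤ centralizer ({k * z * k⁻¹} : Set G) ⊓ K := by
    rintro _ ⟨x, hx, rfl⟩
    refine ⟨mem_centralizer_singleton_iff.2 ?_, Subgroup.Normal.conj_mem inferInstance _ (hB.S_le_K hx) k⟩
    simp only [MulEquiv.coe_toMonoidHom, MulAut.conj_apply]
    calc k * x * k⁻¹ * (k * z * k⁻¹) = k * (x * z) * k⁻¹ := by group
      _ = k * (z * x) * k⁻¹ := by rw [mem_centralizer_singleton_iff.1 (hB.S_le_H hx)]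
      _ = k * z * k⁻¹ * (k * x * k⁻¹) := by group
  obtain ⟨c, hc, hcc⟩ := hB.conj_in hW (X := centralizer ({k * z * k⁻¹} : Set G) ⊓ K) inf_le_right hTK
    (fun x hx => ⟨mem_centralizer_singleton_iff.2 (hB.comm_W (hB.S_le_H hx) (hB.S_le_K hx) hy), hB.S_le_K hx⟩)
    (hB.isPGroup_S.map _) hB.isPGroup_S
    (by rw [hT, card_map_of_injective (f := (MulAut.conj k).toMonoidHom) (MulAut.conj k).injective, hB.card_S])
    hB.card_S
  refine ⟨c * k, fun x => ?_, ?_⟩
  · rw [show c * k * x * (c * k)⁻¹ = c * (k * x * k⁻¹) * c⁻¹ by group, ← hcc]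
    exact ⟨fun hx => ⟨x, hx, rfl⟩, fun ⟨x', hx', e'⟩ => (MulAut.conj k).injective e' ▸ hx'⟩
  · rw [show c * k * z * (c * k)⁻¹ = c * (k * z * k⁻¹) * c⁻¹ by group, mul_inv_eq_iff_eq_mul]
    exact mem_centralizer_singleton_iff.1 hc.1

end Base

end CfsgLib.Recog.AutLThreeFour
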