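import Cfsg.Agent.Lib.Recog.AutLThreeFour.Twist

/-!
Owner: helper28. Outside solvable groups the four-group lifts to `C_K(z)`, and the Sylow 2-subgroup is the
split one.
-/

set_option autoImplicit false
set_option linter.all false

namespace CfsgLib.Recog.AutLThreeFour

open Subgroup

variable {G : Type*} [Group G] [Finite G] {z : G} {e : Fin 4 → G} {K : Subgroup G} {p u : G}

/-- The standing data in a nonsolvable group. -/
structure Base0 (z : G) (e : Fin 4 → G) (K : Subgroup G) (p u : G) : Prop where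
  base : Base z e K p u
  hp2 : p * p = 1

namespace Base

variable (hB : Base z e K p u)
include hB

theorem sq_p : p * p = 1 ∨ p * p = z := by
  have h := hB.frame.acts_mul hB.hp hB.hp
  rw [show Sig.comp (Sig.vee 1) (Sig.vee 1) = Sig.idS by decide +kernel] at h
  rcases hB.frame.eq_or_of_acts hB.frame.acts_one h with e' | e'
  · exact Or.inl e'
  · exact Or.inr (by rw [e', one_mul])

theorem R_sq : ∀ k : Fin 4, hB.R k * hB.R k = if k = 0 then 1 else p * p := by
  have hH := mem_centralizer_singleton_iff.1 hB.hu.1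
  have hcu : ∀ {g : G}, g * g = 1 ∨ g * g = z → (u * g * u⁻¹) * (u * g * u⁻¹) = g * g := by
    intro g hg
    rw [show u * g * u⁻¹ * (u * g * u⁻¹) = u * (g * g) * u⁻¹ by group]
    rcases hg with h | h <;> rw [h]
    · group
    · rw [hH, mul_inv_cancel_right]
  have hq : (u * p * u⁻¹) * (u * p * u⁻¹) = p * p := hcu hB.sq_p
  have hr : p * (u * p * u⁻¹) * (p * (u * p * u⁻¹)) = p * p := by
    set r := u * (u * p * u⁻¹) * u⁻¹ with hrdef
    have hr2 : r * r = p * p := by rw [hrdef, hcu (by rw [hq]; exact hB.sq_p), hq]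
    have hra : Acts z e r (Sig.vee 3) := by
      have hu' : Acts z e u⁻¹ (Sig.comp Sig.cyc Sig.cyc) := by
        rw [inv_eq_of_mul_eq_one_left hB.hu3]; exact hB.frame.acts_mul hB.hu hB.hu
      have := hB.frame.acts_mul (hB.frame.acts_mul hB.hu (hB.acts_R 2)) hu'
      rwa [show Sig.comp (Sig.comp Sig.cyc (Sig.vee 2)) (Sig.comp Sig.cyc Sig.cyc) = Sig.vee 3 by decide +kernel]
        at this
    rcases hB.frame.eq_or_of_acts hra (hB.acts_R 3) with h | h
    · rw [show p * (u * p * u⁻¹) = r from h, hr2]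
    · rw [show p * (u * p * u⁻¹) = r * z from h, show r * z * (r * z) = r * (z * r) * z by group,
        ← mem_centralizer_singleton_iff.1 hra.1, show r * (r * z) * z = r * r * (z * z) by group,
        hB.frame.zsq, mul_one, hr2]
  intro k
  fin_cases k
  · simp [R]
  · simp [R]
  · simpa [R] using hq
  · simpa [R] using hr

theorem Φ_sq (t : Pt) : hB.Φ t * hB.Φ t =
    hB.frame.θ (t.2 * Pt.vact t.1 t.2) * (if t.1 = 0 then 1 else p * p) := by
  rw [Φ, show hB.frame.θ t.2 * hB.R t.1 * (hB.frame.θ t.2 * hB.R t.1) =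
      hB.frame.θ t.2 * (hB.R t.1 * hB.frame.θ t.2) * hB.R t.1 by group, hB.R_mul_θ, ← hB.R_sq, map_mul]
  group

theorem not_twisted (hns : ¬ Group.IsSolvable G) : p * p = 1 := by
  rcases hB.sq_p with h | h
  · exact h
  exfalso
  haveI := hB.normal
  have hsq : ∀ t, hB.Φ t * hB.Φ t = hB.frame.θ (Pt.sqTw t) := by
    intro t
    rw [hB.Φ_sq, Pt.sqTw, h]
    by_cases h0 : t.1 = 0
    · rw [if_pos h0, if_pos h0, mul_one, mul_one]
    · rw [if_neg h0, if_neg h0, map_mul hB.frame.θ (t.2 * Pt.vact t.1 t.2) Mo.zz, hB.frame.θ_zz]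
  have hinv : ∀ x ∈ hB.S, x * x = 1 → x ∈ hB.W := by
    intro x hx hxx
    obtain ⟨t, ht, rfl⟩ := hB.exists_Φ hx
    rw [hsq, ← map_one hB.frame.θ] at hxx
    obtain ⟨h0, h1⟩ := Pt.tw_inv t ht (hB.frame.θ_inj hxx)
    refine ⟨t.2, ⟨rfl, h1⟩, ?_⟩
    rw [Φ, h0]
    simp [R]
  have hW : ∀ n : G, (∀ x ∈ hB.S, n * x * n⁻¹ ∈ hB.S) → ∀ x ∈ hB.W, n * x * n⁻¹ ∈ hB.W := by
    intro n hn x hx
    refine hinv _ (hn x (hB.W_le_S hx)) ?_
    rw [show n * x * n⁻¹ * (n * x * n⁻¹) = n * (x * x) * n⁻¹ by group, hB.W_inv hx]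
    group
  obtain ⟨g, hne, hcomm⟩ := hB.frame.exists_conj_comm hns
  have hyy : g * z * g⁻¹ * (g * z * g⁻¹) = 1 := by
    rw [show g * z * g⁻¹ * (g * z * g⁻¹) = g * (z * z) * g⁻¹ by group, hB.frame.zsq]; group
  have hyW : g * z * g⁻¹ ∈ hB.W := hinv _ (hB.mem_S_of_two (mem_centralizer_singleton_iff.2 hcomm.symm)
    (Subgroup.Normal.conj_mem inferInstance _ (hB.W_le_K hB.z_mem_W) g) (n := 1)
    (by rw [pow_one, pow_two]; exact hyy)) hyy
  obtain ⟨n, hn, hnz⟩ := hB.burnside hW rfl hyW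
  have hcount : ∀ m : Mo, Nat.card {x : hB.S // (x : G) * x = hB.frame.θ m} =
      (Finset.univ.filter fun t : Pt => Pt.Ev t ∧ Pt.sqTw t = m).card := by
    intro m
    rw [← Fintype.card_subtype, ← Nat.card_eq_fintype_card]
    refine (Nat.card_congr (Equiv.ofBijective (fun t : {t : Pt // Pt.Ev t ∧ Pt.sqTw t = m} =>
      (⟨⟨hB.Φ t.1, hB.Φ_mem_S _ t.2.1⟩, by rw [hsq, t.2.2]⟩ : {x : hB.S // (x : G) * x = hB.frame.θ m}))
      ⟨fun a b hab => Subtype.ext (hB.Φ_inj (congrArg (fun x => ((x.1 : hB.S) : G)) hab)), fun x => ?_⟩)).symm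
    obtain ⟨t, ht, htx⟩ := hB.exists_Φ x.1.2
    refine ⟨⟨t, ht, hB.frame.θ_inj ?_⟩, Subtype.ext (Subtype.ext htx)⟩
    rw [← hsq, htx, x.2]
  have hmap : ∀ m : Mo, n * z * n⁻¹ = hB.frame.θ m → Nat.card {x : hB.S // (x : G) * x = hB.frame.θ Mo.zz} =
      Nat.card {x : hB.S // (x : G) * x = hB.frame.θ m} := by
    intro m hm
    refine Nat.card_congr
      { toFun := fun x => ⟨⟨n * (x.1 : G) * n⁻¹, (hn _).1 x.1.2⟩, by
          show n * (x.1 : G) * n⁻¹ * (n * (x.1 : G) * n⁻¹) = _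
          rw [show n * (x.1 : G) * n⁻¹ * (n * (x.1 : G) * n⁻¹) = n * ((x.1 : G) * x.1) * n⁻¹ by group, x.2,
            hB.frame.θ_zz, hm]⟩
        invFun := fun x => ⟨⟨n⁻¹ * (x.1 : G) * n, (hn _).2 (by simp [mul_assoc])⟩, by
          show n⁻¹ * (x.1 : G) * n * (n⁻¹ * (x.1 : G) * n) = _
          rw [show n⁻¹ * (x.1 : G) * n * (n⁻¹ * (x.1 : G) * n) = n⁻¹ * ((x.1 : G) * x.1) * n by group, x.2, ← hm,
            hB.frame.θ_zz]
          group⟩
        left_inv := fun x => Subtype.ext (Subtype.ext (by simp [mul_assoc]))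
        right_inv := fun x => Subtype.ext (Subtype.ext (by simp [mul_assoc])) }
  rcases hB.mem_W.1 hyW with h1 | h1 | h1 | h1
  · exact hB.frame.z1 (conj_eq_one_iff.1 h1)
  · exact hne h1
  · have := hmap Mo.om (hnz.trans h1)
    rw [hcount, hcount] at this
    exact Pt.tw_count.1 this
  · have := hmap (Mo.om * Mo.zz) (by rw [hnz, h1, map_mul, hB.frame.θ_zz])
    rw [hcount, hcount] at this
    exact Pt.tw_count.2 this

end Base

theorem exists_base0 (hF : Frame z e) (hns : ¬ Group.IsSolvable G) : ∃ K p u, Base0 z e K p u := by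
  obtain ⟨K, p, u, hB⟩ := exists_base hF
  exact ⟨K, p, u, hB, hB.not_twisted hns⟩

end CfsgLib.Recog.AutLThreeFour
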